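import Mathlib

set_option autoImplicit false

/-!
The upper unitriangular subgroup of `SL_n`, its intersections with conjugates, and elementary
transvections.
-/

namespace Cfsg.Agent.AutPSL

open Matrix

variable (n : ℕ) (F : Type*) [Field F]

local notation "SLn" => Matrix.SpecialLinearGroup (Fin n) F
local notation "Mat" => Matrix (Fin n) (Fin n) F

variable {n F}

def IsUni (M : Mat) : Prop := (∀ i j : Fin n, j < i → M i j = 0) ∧ ∀ i : Fin n, M i i = 1

theorem IsUni.mul_diag {A B : Mat} (hA : IsUni A) (hB : IsUni B) (i : Fin n) : (A * B) i i = 1 := by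
  rw [Matrix.mul_apply, Finset.sum_eq_single i]
  · simp [hA.2, hB.2]
  · intro b _ hb
    rcases lt_or_gt_of_ne hb with h | h
    · simp [hA.1 i b h]
    · simp [hB.1 b i h]
  · simp

theorem IsUni.mul {A B : Mat} (hA : IsUni A) (hB : IsUni B) : IsUni (A * B) := by
  refine ⟨fun i j hij => ?_, hA.mul_diag hB⟩
  rw [Matrix.mul_apply]
  refine Finset.sum_eq_zero fun b _ => ?_
  rcases lt_or_ge b i with h | h
  · simp [hA.1 i b h]
  · simp [hB.1 b j (lt_of_lt_of_le hij h)]

theorem isUni_one : IsUni (1 : Mat) :=
  ⟨fun i j h => Matrix.one_apply_ne h.ne', fun i => Matrix.one_apply_eq i⟩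

theorem IsUni.inv {A B : Mat} (hA : IsUni A) (hAB : A * B = 1) : IsUni B := by
  have hBA : B * A = 1 := mul_eq_one_comm.mp hAB
  haveI : Invertible A := ⟨B, hBA, hAB⟩
  have hT : A.BlockTriangular id := fun i j h => hA.1 i j h
  have hB : B.BlockTriangular id := by
    have := Matrix.blockTriangular_inv_of_blockTriangular hT
    rwa [Matrix.inv_eq_right_inv hAB] at this
  refine ⟨fun i j h => hB h, fun i => ?_⟩
  have := congrFun (congrFun hAB i) i
  rw [Matrix.mul_apply, Finset.sum_eq_single i, hA.2, one_mul, Matrix.one_apply_eq] at this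
  · exact this
  · intro b _ hb
    rcases lt_or_gt_of_ne hb with h | h
    · simp [hA.1 i b h]
    · simp [hB (show id i < id b from h)]
  · simp

variable (n F)

/-- The upper unitriangular subgroup. -/
def upperU : Subgroup SLn where
  carrier := {g | IsUni (g : Mat)}
  mul_mem' := fun ha hb => by simpa using! IsUni.mul ha hb
  one_mem' := by simpa using! isUni_one
  inv_mem' := fun {g} hg => by
    refine IsUni.inv hg ?_
    rw [← Matrix.SpecialLinearGroup.coe_mul, mul_inv_cancel]; rfl

variable {n F}

theorem mem_upperU {g : SLn} : g ∈ upperU n F ↔ IsUni (g : Mat) := Iff.rfl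

/-- The elementary transvection, as an element of `SL`. -/
def tv (i j : Fin n) (h : i ≠ j) (a : F) : SLn := Matrix.SpecialLinearGroup.transvection h a

theorem tv_coe (i j : Fin n) (h : i ≠ j) (a : F) : (tv i j h a : Mat) = 1 + Matrix.single i j a :=
  Matrix.SpecialLinearGroup.transvection_coe h a

theorem tv_apply_same (i j : Fin n) (h : i ≠ j) (a : F) : (tv i j h a : Mat) i j = a := by
  simp [tv_coe, h]

theorem tv_zero (i j : Fin n) (h : i ≠ j) : tv i j h (0 : F) = 1 := Subtype.ext (by simp [tv_coe])

theorem tv_inj (i j : Fin n) (h : i ≠ j) {a b : F} (hab : tv i j h a = tv i j h b) : a = b := by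
  have := congrArg (fun g : SLn => (g : Mat) i j) hab
  simpa [tv_apply_same] using this

theorem tv_mul (i j : Fin n) (h : i ≠ j) (a b : F) : tv i j h a * tv i j h b = tv i j h (a + b) := by
  apply Subtype.ext
  simp [tv_coe, add_mul, mul_add, Matrix.single_mul_single_of_ne, h.symm, Matrix.single_add]
  abel

theorem tv_inv (i j : Fin n) (h : i ≠ j) (a : F) : (tv i j h a)⁻¹ = tv i j h (-a) :=
  inv_eq_of_mul_eq_one_right (by rw [tv_mul, add_neg_cancel, tv_zero])

theorem tv_mem_upperU (i j : Fin n) (h : i < j) (a : F) : tv i j h.ne a ∈ upperU n F := by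
  refine mem_upperU.mpr ⟨fun k l hlk => ?_, fun k => ?_⟩
  · rw [tv_coe]
    simp [hlk.ne', Matrix.single_apply]
    intro h1 h2; subst h1 h2; exact absurd h (not_lt.mpr hlk.le)
  · rw [tv_coe]
    simp [Matrix.single_apply]
    intro h1 h2; exact absurd (h1.trans h2.symm) h.ne

/-- The subgroup of `U` of matrices with vanishing entry at the simple position `(i, j)`. -/
def simpleKer (i j : Fin n) (hij : j.val = i.val + 1) : Subgroup SLn where
  carrier := {g | g ∈ upperU n F ∧ (g : Mat) i j = 0}
  mul_mem' := by
    rintro a b ⟨ha, ha'⟩ ⟨hb, hb'⟩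
    refine ⟨mul_mem ha hb, ?_⟩
    rw [Matrix.SpecialLinearGroup.coe_mul, Matrix.mul_apply]
    refine Finset.sum_eq_zero fun k _ => ?_
    rcases lt_or_ge k.val i.val with h | h
    · simp [(mem_upperU.mp ha).1 i k h]
    rcases eq_or_ne k i with rfl | hki
    · simp [hb']
    rcases eq_or_ne k j with rfl | hkj
    · simp [ha']
    have : j < k := by
      have h1 : k.val ≠ i.val := fun e => hki (Fin.ext e)
      have h2 : k.val ≠ j.val := fun e => hkj (Fin.ext e)
      exact Fin.lt_def.mpr (by omega)
    simp [(mem_upperU.mp hb).1 k j this]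
  one_mem' := ⟨one_mem _, Matrix.one_apply_ne (fun e => by subst e; omega)⟩
  inv_mem' := by
    rintro a ⟨ha, ha'⟩
    refine ⟨inv_mem ha, ?_⟩
    have h1 := congrArg (fun g : SLn => (g : Mat) i j) (mul_inv_cancel a)
    have hne : i ≠ j := fun e => by subst e; omega
    rw [Matrix.SpecialLinearGroup.coe_mul, Matrix.mul_apply, Matrix.SpecialLinearGroup.coe_one,
      Matrix.one_apply_ne hne, Finset.sum_eq_single i] at h1
    · simpa [(mem_upperU.mp ha).2 i] using h1
    · intro k _ hki
      rcases lt_or_ge k.val i.val with h | h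
      · simp [(mem_upperU.mp ha).1 i k h]
      rcases eq_or_ne k j with rfl | hkj
      · simp [ha']
      have : j < k := by
        have h1 : k.val ≠ i.val := fun e => hki (Fin.ext e)
        have h2 : k.val ≠ j.val := fun e => hkj (Fin.ext e)
        exact Fin.lt_def.mpr (by omega)
      rw [(mem_upperU.mp (inv_mem ha)).1 k j this, mul_zero]
    · simp

theorem mem_simpleKer {i j : Fin n} {hij : j.val = i.val + 1} {g : SLn} :
    g ∈ simpleKer i j hij ↔ g ∈ upperU n F ∧ (g : Mat) i j = 0 := Iff.rfl

theorem simpleKer_inj {i j i' j' : Fin n} {hij : j.val = i.val + 1} {hij' : j'.val = i'.val + 1}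
    (h : simpleKer (F := F) i j hij ≤ simpleKer i' j' hij') : i = i' ∧ j = j' := by
  by_contra hne
  have hne' : i ≠ i' := fun e => hne ⟨e, Fin.ext (by subst e; omega)⟩
  have hlt : i' < j' := Fin.lt_def.mpr (by omega)
  have hmem : tv i' j' hlt.ne (1 : F) ∈ simpleKer i j hij := by
    refine ⟨tv_mem_upperU i' j' hlt 1, ?_⟩
    have hij2 : i ≠ j := fun e => by subst e; omega
    simp [tv_coe, hij2, Ne.symm hne', Matrix.single_apply]
  have := (h hmem).2
  rw [tv_apply_same] at this
  exact one_ne_zero this

/-- Conjugation of the upper unitriangular group by an element outside the Borel subgroup meets it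
inside one of the subgroups `simpleKer`. -/
theorem exists_simpleKer_of_conj (g : SLn) (j k : Fin n) (hjk : j < k) (hg : (g : Mat) k j ≠ 0) :
    ∃ (a b : Fin n) (hab : b.val = a.val + 1),
      ∀ u ∈ upperU n F, g⁻¹ * u * g ∈ upperU n F → u ∈ simpleKer a b hab := by
  classical
  -- the first column that is not upper triangular, and its last non-zero row
  have hex : ∃ c : Fin n, ∃ r : Fin n, c < r ∧ (g : Mat) r c ≠ 0 := ⟨j, k, hjk, hg⟩
  obtain ⟨c, hc, hcmin⟩ : ∃ c : Fin n, (∃ r, c < r ∧ (g : Mat) r c ≠ 0) ∧
      ∀ c' < c, ∀ r, c' < r → (g : Mat) r c' = 0 := by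
    let S := Finset.univ.filter fun c : Fin n => ∃ r : Fin n, c < r ∧ (g : Mat) r c ≠ 0
    have hS : S.Nonempty := ⟨j, by simp only [S, Finset.mem_filter, Finset.mem_univ, true_and]; exact ⟨k, hjk, hg⟩⟩
    refine ⟨S.min' hS, ?_, ?_⟩
    · have := S.min'_mem hS; simp only [S, Finset.mem_filter] at this; exact this.2
    · intro c' hc' r hr
      by_contra hne
      have := S.min'_le c' (by simp only [S, Finset.mem_filter, Finset.mem_univ, true_and]; exact ⟨r, hr, hne⟩)
      exact absurd hc' (not_lt.mpr this)
  obtain ⟨r, hr, hrmax⟩ : ∃ r : Fin n, (c < r ∧ (g : Mat) r c ≠ 0) ∧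
      ∀ r', r < r' → (g : Mat) r' c = 0 := by
    let S := Finset.univ.filter fun r : Fin n => c < r ∧ (g : Mat) r c ≠ 0
    have hS : S.Nonempty := by
      obtain ⟨r, h⟩ := hc; exact ⟨r, by simp only [S, Finset.mem_filter, Finset.mem_univ, true_and]; exact h⟩
    have hm := S.max'_mem hS
    simp only [S, Finset.mem_filter] at hm
    refine ⟨S.max' hS, hm.2, fun r' hr' => ?_⟩
    by_contra hne
    have := S.le_max' r' (by
      simp only [S, Finset.mem_filter, Finset.mem_univ, true_and]; exact ⟨hm.2.1.trans hr', hne⟩)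
    exact absurd hr' (not_lt.mpr this)
  have hr0 : 0 < r.val := lt_of_le_of_lt (Nat.zero_le _) (Fin.lt_def.mp hr.1)
  refine ⟨⟨r.val - 1, by omega⟩, r, by simp only; omega, fun u hu hw => ⟨hu, ?_⟩⟩
  set a : Fin n := ⟨r.val - 1, by omega⟩ with ha
  set w := g⁻¹ * u * g with hwdef
  have heq : (u : Mat) * (g : Mat) = (g : Mat) * (w : Mat) := by
    rw [← Matrix.SpecialLinearGroup.coe_mul, ← Matrix.SpecialLinearGroup.coe_mul, hwdef,
      mul_assoc g⁻¹ u g, mul_inv_cancel_left]
  have h1 := congrFun (congrFun heq a) c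
  have hca : c ≤ a := by
    have := Fin.lt_def.mp hr.1
    exact Fin.le_def.mpr (by simp only [ha]; omega)
  have har : a < r := Fin.lt_def.mpr (by simp only [ha]; omega)
  rw [Matrix.mul_apply, Matrix.mul_apply] at h1
  have hR : ∑ l, (g : Mat) a l * (w : Mat) l c = (g : Mat) a c := by
    rw [Finset.sum_eq_single c]
    · simp [(mem_upperU.mp hw).2 c]
    · intro l _ hl
      rcases lt_or_gt_of_ne hl with h | h
      · rw [hcmin l h a (lt_of_lt_of_le h hca), zero_mul]
      · rw [(mem_upperU.mp hw).1 l c h, mul_zero]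
    · simp
  have hL : ∑ l, (u : Mat) a l * (g : Mat) l c = (g : Mat) a c + (u : Mat) a r * (g : Mat) r c := by
    rw [← Finset.add_sum_erase _ _ (Finset.mem_univ a), (mem_upperU.mp hu).2 a, one_mul]
    congr 1
    rw [Finset.sum_eq_single r]
    · intro l hl hlr
      rw [Finset.mem_erase] at hl
      rcases lt_or_gt_of_ne hl.1 with h | h
      · rw [(mem_upperU.mp hu).1 a l h, zero_mul]
      · have : r < l := by
          have h2 : l.val ≠ r.val := fun e => hlr (Fin.ext e)
          have h3 := Fin.lt_def.mp h
          exact Fin.lt_def.mpr (by simp only [ha] at h3; omega)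
        rw [hrmax l this, mul_zero]
    · intro h
      exact absurd (Finset.mem_erase.mpr ⟨har.ne', Finset.mem_univ _⟩) h
  rw [hL, hR, add_eq_left] at h1
  exact (mul_eq_zero.mp h1).resolve_right hr.2

/-- The signed transposition of two coordinates, as an element of `SL`. -/
def swapElt (i j : Fin n) (h : i ≠ j) : SLn := tv i j h (1 : F) * tv j i h.symm (-1) * tv i j h 1

theorem swapElt_coe (i j : Fin n) (h : i ≠ j) :
    (swapElt (F := F) i j h : Mat) =
      1 - Matrix.single i i 1 - Matrix.single j j 1 + Matrix.single i j 1 - Matrix.single j i 1 := by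
  simp only [swapElt, Matrix.SpecialLinearGroup.coe_mul, tv_coe, add_mul, mul_add, one_mul, mul_one,
    Matrix.single_mul_single_same, Matrix.single_mul_single_of_ne, ne_eq, h, h.symm,
    not_false_eq_true, zero_mul, add_zero, zero_add, mul_neg]
  simp only [← Matrix.single_neg]
  abel

/-- The subgroup `simpleKer` is the intersection of `U` with a conjugate of `U`. -/
theorem simpleKer_conj (i j : Fin n) (hij : j.val = i.val + 1) (h : i ≠ j) (u : SLn)
    (hu : u ∈ simpleKer i j hij) :
    (swapElt i j h)⁻¹ * u * swapElt i j h ∈ upperU n F := by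
  set s := swapElt (F := F) i j h with hs
  set w := s⁻¹ * u * s with hw
  have heq : (s : Mat) * (w : Mat) = (u : Mat) * (s : Mat) := by
    rw [← Matrix.SpecialLinearGroup.coe_mul, ← Matrix.SpecialLinearGroup.coe_mul, hw,
      mul_assoc s⁻¹ u s, mul_inv_cancel_left]
  have hsrow : ∀ a b, (s : Mat) a b =
      if a = i then (if b = j then 1 else 0) else if a = j then (if b = i then -1 else 0)
        else if a = b then 1 else 0 := by
    intro a b
    rw [hs, swapElt_coe]
    simp only [Matrix.sub_apply, Matrix.add_apply, Matrix.one_apply, Matrix.single_apply]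
    by_cases h1 : a = i
    · subst h1
      by_cases h2 : b = j
      · subst h2; simp [h, h.symm]
      · by_cases h3 : b = a
        · subst h3; simp [h, h.symm, h2]
        · simp [h, h.symm, h2, Ne.symm h2, Ne.symm h3]
    · by_cases h4 : a = j
      · subst h4
        by_cases h2 : b = i
        · subst h2; simp [h, h.symm]
        · by_cases h3 : b = a
          · subst h3; simp [h, h.symm, h2]
          · simp [h, h.symm, h2, h1, Ne.symm h2, Ne.symm h3]
      · simp [h1, h4, Ne.symm h1, Ne.symm h4]
  have hU := mem_upperU.mp hu.1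
  have hui := hu.2
  -- rows of `w` in terms of `u * s`
  have hus : ∀ a b, ((u : Mat) * (s : Mat)) a b =
      if b = j then (u : Mat) a i else if b = i then -((u : Mat) a j) else (u : Mat) a b := by
    intro a b
    rw [Matrix.mul_apply]
    by_cases hbj : b = j
    · subst hbj
      rw [Finset.sum_eq_single i, if_pos rfl]
      · simp [hsrow]
      · intro l _ hl; rw [hsrow]; simp [hl, h.symm]; intro hlj; simp [hlj]
      · simp
    · by_cases hbi : b = i
      · subst hbi
        rw [Finset.sum_eq_single j, if_neg hbj, if_pos rfl]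
        · simp [hsrow, h.symm]
        · intro l _ hl; rw [hsrow]; simp [hl, hbj]; intro h1 h2; exact absurd h2 h1
        · simp
      · rw [Finset.sum_eq_single b, if_neg hbj, if_neg hbi]
        · simp [hsrow, hbi, hbj]
        · intro l _ hl; rw [hsrow]; simp [hl, hbi, hbj]
        · simp
  have hsw : ∀ a b, ((s : Mat) * (w : Mat)) a b =
      if a = i then (w : Mat) j b else if a = j then -((w : Mat) i b) else (w : Mat) a b := by
    intro a b
    rw [Matrix.mul_apply]
    by_cases h1 : a = i
    · subst h1
      rw [Finset.sum_eq_single j]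
      · simp [hsrow]
      · intro l _ hl; simp [hsrow, hl]
      · simp
    · by_cases h2 : a = j
      · subst h2
        rw [Finset.sum_eq_single i]
        · simp [hsrow, h1]
        · intro l _ hl; simp [hsrow, hl, h1]
        · simp
      · rw [Finset.sum_eq_single a]
        · simp [hsrow, h1, h2]
        · intro l _ hl; simp [hsrow, h1, h2, Ne.symm hl]
        · simp
  have key : ∀ a b, (if a = i then (w : Mat) j b else if a = j then -((w : Mat) i b) else (w : Mat) a b)
      = if b = j then (u : Mat) a i else if b = i then -((u : Mat) a j) else (u : Mat) a b := by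
    intro a b; rw [← hsw, ← hus, heq]
  refine mem_upperU.mpr ⟨fun a b hba => ?_, fun a => ?_⟩
  · have hv := Fin.lt_def.mp hba
    by_cases haj : a = j
    · subst haj
      have hk := key i b
      simp only [if_pos] at hk
      rw [hk]
      by_cases hbi : b = i
      · subst hbi; simp [h, hui]
      · have h2 : b.val ≠ i.val := fun e => hbi (Fin.ext e)
        rw [if_neg (ne_of_lt hba), if_neg hbi]
        exact hU.1 i b (Fin.lt_def.mpr (by omega))
    · by_cases hai : a = i
      · subst hai
        have hk := key j b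
        simp only [if_neg h.symm, if_pos] at hk
        have h3 : b ≠ j := fun e => by subst e; omega
        rw [if_neg h3, if_neg (ne_of_lt hba)] at hk
        rw [← neg_eq_zero, hk]
        exact hU.1 j b (Fin.lt_def.mpr (by omega))
      · have hk := key a b
        simp only [if_neg hai, if_neg haj] at hk
        rw [hk]
        have h4 : a.val ≠ i.val := fun e => hai (Fin.ext e)
        have h5 : a.val ≠ j.val := fun e => haj (Fin.ext e)
        split_ifs with h1 h2
        · subst h1; exact hU.1 a i (Fin.lt_def.mpr (by omega))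
        · subst h2; rw [neg_eq_zero]; exact hU.1 a j (Fin.lt_def.mpr (by omega))
        · exact hU.1 a b hba
  · by_cases haj : a = j
    · subst haj
      have hk := key i a
      simp only [if_pos] at hk
      rw [hk, hU.2]
    · by_cases hai : a = i
      · subst hai
        have hk := key j a
        simp only [if_neg h.symm, if_pos, if_neg h] at hk
        rw [hU.2] at hk
        exact neg_injective hk
      · have hk := key a a
        simp only [if_neg hai, if_neg haj] at hk
        rw [hk, hU.2]

/-- If a conjugate of `U` meets `U` trivially, the conjugating element is anti-triangular up to a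
left factor in `U`. -/
theorem exists_antitriangular (g : SLn)
    (h : ∀ x ∈ upperU n F, g⁻¹ * x * g ∈ upperU n F → x = 1) :
    ∃ u ∈ upperU n F, ∀ a b : Fin n, a.val + b.val + 1 < n → ((u⁻¹ * g : SLn) : Mat) a b = 0 := by
  classical
  set G : Mat := (g : Mat) with hG
  set G' : Mat := ((g⁻¹ : SLn) : Mat) with hG'
  have hGG : G * G' = 1 := by
    rw [hG, hG', ← Matrix.SpecialLinearGroup.coe_mul, mul_inv_cancel]; rfl
  have hG'G : G' * G = 1 := mul_eq_one_comm.mp hGG
  -- transversality
  have trans0 : ∀ (k : ℕ) (hk : k ≤ n) (v : Fin n → F), (∀ a : Fin n, k ≤ a.val → v a = 0) →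
      (∀ a : Fin n, n - k ≤ a.val → (G' *ᵥ v) a = 0) → v = 0 := by
    intro k hk v hv hv'
    by_contra hv0
    let e : Fin n ≃ Fin k ⊕ Fin (n - k) :=
      (finCongr (by omega : n = k + (n - k))).trans finSumFinEquiv.symm
    let M : Matrix (Fin n) (Fin k ⊕ Fin (n - k)) F := Matrix.of fun a c =>
      Sum.elim (fun i : Fin k => if a.val = i.val then 1 else 0)
        (fun i : Fin (n - k) => G a ⟨i.val, by omega⟩) c
    let z : Fin k ⊕ Fin (n - k) → F :=
      Sum.elim (fun i => v ⟨i.val, by omega⟩) (fun i => -(G' *ᵥ v) ⟨i.val, by omega⟩)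
    have hMz : M *ᵥ z = 0 := by
      funext a
      have h1 : (∑ i : Fin k, (if a.val = i.val then (1 : F) else 0) * v ⟨i.val, by omega⟩) = v a := by
        by_cases ha : a.val < k
        · rw [Finset.sum_eq_single ⟨a.val, ha⟩]
          · simp
          · intro b _ hb; simp [show a.val ≠ b.val from fun e => hb (Fin.ext e.symm)]
          · simp
        · rw [hv a (not_lt.mp ha)]
          exact Finset.sum_eq_zero fun b _ => by simp [show a.val ≠ b.val by omega]
      have h2 : (∑ i : Fin (n - k), G a ⟨i.val, by omega⟩ * (G' *ᵥ v) ⟨i.val, by omega⟩) = v a := by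
        have h3 : (G *ᵥ (G' *ᵥ v)) a = v a := by rw [Matrix.mulVec_mulVec, hGG, Matrix.one_mulVec]
        rw [← h3]
        show _ = ∑ b, G a b * (G' *ᵥ v) b
        refine Finset.sum_of_injOn (fun i : Fin (n - k) => (⟨i.val, by omega⟩ : Fin n)) ?_ ?_ ?_ ?_
        · intro x _ y _ hxy; exact Fin.ext (Fin.mk.inj_iff.mp hxy)
        · intro x _; simp
        · intro b _ hb
          rw [hv' b, mul_zero]
          by_contra hbn
          exact hb ⟨⟨b.val, by omega⟩, by simp, rfl⟩
        · intro i _; rfl
      simp only [M, z, Matrix.mulVec, dotProduct, Fintype.sum_sum_type, Matrix.of_apply,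
        Sum.elim_inl, Sum.elim_inr, Pi.zero_apply, mul_neg, Finset.sum_neg_distrib]
      rw [h1]
      change v a + -(∑ i : Fin (n - k), G a ⟨i.val, _⟩ * (G' *ᵥ v) ⟨i.val, _⟩) = 0
      rw [h2, add_neg_cancel]
    have hz0 : z ∘ e ≠ 0 := by
      intro h0
      apply hv0
      funext a
      by_cases ha : a.val < k
      · have := congrFun h0 (e.symm (Sum.inl ⟨a.val, ha⟩))
        simpa [z] using this
      · exact hv a (not_lt.mp ha)
    have hdet : (M.submatrix id e).det = 0 := by
      rw [← Matrix.exists_mulVec_eq_zero_iff]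
      refine ⟨z ∘ e, hz0, ?_⟩
      rw [Matrix.submatrix_mulVec_equiv]
      simp [Function.comp_assoc, hMz]
    obtain ⟨α, hα0, hα⟩ := Matrix.exists_vecMul_eq_zero_iff.mpr hdet
    have hα1 : ∀ a : Fin n, a.val < k → α a = 0 := by
      intro a ha
      have := congrFun hα (e.symm (Sum.inl ⟨a.val, ha⟩))
      simp only [Matrix.vecMul, dotProduct, Matrix.submatrix_apply, id_eq, Equiv.apply_symm_apply,
        M, Matrix.of_apply, Sum.elim_inl, Pi.zero_apply] at this
      rw [Finset.sum_eq_single a] at this
      · simpa using this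
      · intro b _ hb; simp [show b.val ≠ a.val from fun e => hb (Fin.ext e)]
      · simp
    have hα2 : ∀ b : Fin n, b.val < n - k → (α ᵥ* G) b = 0 := by
      intro b hb
      have := congrFun hα (e.symm (Sum.inr ⟨b.val, hb⟩))
      simpa [Matrix.vecMul, dotProduct, M] using this
    let X : Mat := 1 + Matrix.vecMulVec v α
    have hXu : IsUni X := by
      refine ⟨fun a b hba => ?_, fun a => ?_⟩ <;>
        simp only [X, Matrix.add_apply, Matrix.vecMulVec_apply]
      · rw [Matrix.one_apply_ne hba.ne', zero_add]
        by_cases ha : a.val < k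
        · rw [hα1 b (lt_of_le_of_lt (Fin.le_def.mp hba.le) ha), mul_zero]
        · rw [hv a (not_lt.mp ha), zero_mul]
      · rw [Matrix.one_apply_eq, add_eq_left]
        by_cases ha : a.val < k
        · rw [hα1 a ha, mul_zero]
        · rw [hv a (not_lt.mp ha), zero_mul]
    have hX'u : IsUni (G' * X * G) := by
      have hX' : G' * X * G = 1 + Matrix.vecMulVec (G' *ᵥ v) (α ᵥ* G) := by
        simp only [X, mul_add, add_mul, mul_one, hG'G, Matrix.mul_vecMulVec, Matrix.vecMulVec_mul]
      rw [hX']
      refine ⟨fun a b hba => ?_, fun a => ?_⟩ <;>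
        simp only [Matrix.add_apply, Matrix.vecMulVec_apply]
      · rw [Matrix.one_apply_ne hba.ne', zero_add]
        by_cases ha : a.val < n - k
        · rw [hα2 b (lt_of_le_of_lt (Fin.le_def.mp hba.le) ha), mul_zero]
        · rw [hv' a (not_lt.mp ha), zero_mul]
      · rw [Matrix.one_apply_eq, add_eq_left]
        by_cases ha : a.val < n - k
        · rw [hα2 a ha, mul_zero]
        · rw [hv' a (not_lt.mp ha), zero_mul]
    have hdetX : X.det = 1 := by
      rw [Matrix.det_of_upperTriangular (fun a b hba => hXu.1 a b hba)]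
      exact Finset.prod_eq_one fun a _ => hXu.2 a
    have h1 := h ⟨X, hdetX⟩ (mem_upperU.mpr hXu) (mem_upperU.mpr (by
      show IsUni (G' * X * G)
      exact hX'u))
    have h2 : Matrix.vecMulVec v α = 0 := by
      have := congrArg (fun x : SLn => (x : Mat)) h1
      simpa [X] using this
    obtain ⟨a, ha⟩ := Function.ne_iff.mp hv0
    obtain ⟨b, hb⟩ := Function.ne_iff.mp hα0
    have := congrFun (congrFun h2 a) b
    rw [Matrix.vecMulVec_apply] at this
    exact mul_ne_zero ha hb this
  -- a basis adapted to both flags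
  have hcol : ∀ i : Fin n, ∃ v : Fin n → F, v i = 1 ∧ (∀ a, i < a → v a = 0) ∧
      ∀ a : Fin n, n - i.val ≤ a.val → (G' *ᵥ v) a = 0 := by
    intro i
    let T : (Fin n → F) →ₗ[F] (({a : Fin n // i.val < a.val} ⊕ {a : Fin n // n - i.val ≤ a.val}) → F) :=
      LinearMap.pi (Sum.elim (fun a => LinearMap.proj a.1)
        (fun a => (LinearMap.proj a.1).comp G'.mulVecLin))
    have hker : LinearMap.ker T ≠ ⊥ := by
      intro hbot
      have hle := LinearMap.finrank_le_finrank_of_injective (LinearMap.ker_eq_bot.mp hbot)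
      rw [Module.finrank_fin_fun, Module.finrank_fintype_fun_eq_card, Fintype.card_sum,
        Fintype.card_subtype, Fintype.card_subtype] at hle
      have h1 : (Finset.univ.filter fun a : Fin n => i.val < a.val).card ≤ n - 1 - i.val := by
        have : (Finset.univ.filter fun a : Fin n => i.val < a.val) = Finset.Ioi i := by
          ext a
          rw [Finset.mem_filter, Finset.mem_Ioi, Fin.lt_def]
          exact ⟨fun h => h.2, fun h => ⟨Finset.mem_univ _, h⟩⟩
        rw [this, Fin.card_Ioi]
      have h2 : (Finset.univ.filter fun a : Fin n => n - i.val ≤ a.val).card ≤ i.val := by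
        rcases Nat.eq_zero_or_pos i.val with hi0 | hi0
        · have : (Finset.univ.filter fun a : Fin n => n - i.val ≤ a.val) = ∅ := by
            ext a; simp; omega
          rw [this]; simp
        · have : (Finset.univ.filter fun a : Fin n => n - i.val ≤ a.val) =
              Finset.Ici ⟨n - i.val, by omega⟩ := by
            ext a; simp [Fin.le_def]
          rw [this, Fin.card_Ici]; simp
      omega
    obtain ⟨v, hv, hv0⟩ := (Submodule.ne_bot_iff _).mp hker
    have hv1 : ∀ a, i < a → v a = 0 := fun a ha =>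
      congrFun (LinearMap.mem_ker.mp hv) (Sum.inl ⟨a, Fin.lt_def.mp ha⟩)
    have hv2 : ∀ a : Fin n, n - i.val ≤ a.val → (G' *ᵥ v) a = 0 := fun a ha =>
      congrFun (LinearMap.mem_ker.mp hv) (Sum.inr ⟨a, ha⟩)
    have hvi : v i ≠ 0 := by
      intro h0
      apply hv0
      refine trans0 i.val (by omega) v (fun a ha => ?_) hv2
      rcases eq_or_lt_of_le ha with e | e
      · rw [← Fin.ext e]; exact h0
      · exact hv1 a (Fin.lt_def.mpr e)
    refine ⟨(v i)⁻¹ • v, by simp [hvi], fun a ha => by simp [hv1 a ha], fun a ha => ?_⟩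
    rw [Matrix.mulVec_smul, Pi.smul_apply, hv2 a ha, smul_zero]
  choose v hv hv1 hv2 using hcol
  let U : Mat := Matrix.of fun a i => v i a
  have hUu : IsUni U := ⟨fun a b hba => hv1 b a hba, fun a => hv a⟩
  have hUdet : U.det = 1 := by
    rw [Matrix.det_of_upperTriangular (fun a b hba => hUu.1 a b hba)]
    exact Finset.prod_eq_one fun a _ => hUu.2 a
  obtain ⟨u0, hu0⟩ : ∃ u0 : SLn, (u0 : Mat) = U := ⟨⟨U, hUdet⟩, rfl⟩
  refine ⟨u0, mem_upperU.mpr (hu0 ▸ hUu), ?_⟩
  -- `g⁻¹ u` is zero below the anti-diagonal; invert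
  set H : SLn := g⁻¹ * u0 with hH
  have hH0 : ∀ a i : Fin n, n - i.val ≤ a.val → (H : Mat) a i = 0 := by
    intro a i hai
    rw [hH, Matrix.SpecialLinearGroup.coe_mul, hu0]
    exact hv2 i a hai
  have hB : ((H : Mat).submatrix id Fin.rev).BlockTriangular id := by
    intro a i hai
    rw [Matrix.submatrix_apply, id_eq]
    apply hH0
    have h1 := Fin.lt_def.mp hai
    simp only [id_eq] at h1
    simp [Fin.val_rev]; omega
  set B : Mat := (H : Mat).submatrix id Fin.rev with hBdef
  have hHinv : (H : Mat) * ((H⁻¹ : SLn) : Mat) = 1 := by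
    rw [← Matrix.SpecialLinearGroup.coe_mul, mul_inv_cancel]; rfl
  set C : Mat := ((H⁻¹ : SLn) : Mat).submatrix Fin.rev id with hCdef
  have hBC : B * C = 1 := by
    rw [hBdef, hCdef, show (Fin.rev : Fin n → Fin n) = ⇑(Fin.revPerm) from rfl,
      Matrix.submatrix_mul_equiv, hHinv, Matrix.submatrix_id_id]
  have hC : C.BlockTriangular id := by
    haveI : Invertible B := ⟨C, mul_eq_one_comm.mp hBC, hBC⟩
    have := Matrix.blockTriangular_inv_of_blockTriangular hB
    rwa [Matrix.inv_eq_right_inv hBC] at this
  intro a b hab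
  have h5 : u0⁻¹ * g = H⁻¹ := by rw [hH, _root_.mul_inv_rev, inv_inv]
  rw [h5]
  have h6 := hC (i := Fin.rev a) (j := b) (by
    simp only [id_eq]; exact Fin.lt_def.mpr (by simp [Fin.val_rev]; omega))
  simpa [hCdef] using h6

/-- An anti-triangular element conjugates `U` into the lower unitriangular matrices. -/
theorem lower_of_antitriangular (k x : SLn) (hk : ∀ a b : Fin n, a.val + b.val + 1 < n → (k : Mat) a b = 0)
    (hx : x ∈ upperU n F) : IsUni ((k * x * k⁻¹ : SLn) : Mat).transpose := by
  set M : Mat := ((k * x * k⁻¹ : SLn) : Mat) with hM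
  set b : Mat := (k : Mat).submatrix Fin.rev id with hb
  set M' : Mat := M.submatrix Fin.rev Fin.rev with hM'
  have hbT : b.BlockTriangular id := by
    intro a c hca
    rw [hb, Matrix.submatrix_apply, id_eq]
    apply hk
    have := Fin.lt_def.mp hca
    simp [Fin.val_rev] at this ⊢; omega
  have heq : M' * b = b * (x : Mat) := by
    rw [hM', hb, show (Fin.rev : Fin n → Fin n) = ⇑(Fin.revPerm) from rfl,
      Matrix.submatrix_mul_equiv]
    have h1 : M * (k : Mat) = (k : Mat) * (x : Mat) := by
      rw [hM, ← Matrix.SpecialLinearGroup.coe_mul, ← Matrix.SpecialLinearGroup.coe_mul,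
        inv_mul_cancel_right]
    rw [h1]
    ext a c
    simp [Matrix.mul_apply]
  have hdet : IsUnit b.det := by
    rw [hb, show (Fin.rev : Fin n → Fin n) = ⇑(Fin.revPerm) from rfl, Matrix.det_permute,
      (k : SLn).det_coe, mul_one]
    rcases Int.units_eq_one_or (Equiv.Perm.sign (Fin.revPerm : Equiv.Perm (Fin n))) with hs | hs <;>
      rw [hs] <;> simp
  haveI : Invertible b := b.invertibleOfIsUnitDet hdet
  have hM'T : M'.BlockTriangular id := by
    have h1 : M' = b * (x : Mat) * b⁻¹ := by
      rw [← heq, mul_assoc, Matrix.mul_inv_of_invertible, mul_one]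
    rw [h1]
    exact (hbT.mul fun a c h => (mem_upperU.mp hx).1 a c h).mul
      (Matrix.blockTriangular_inv_of_blockTriangular hbT)
  have hdiag : ∀ a, M' a a = 1 := by
    intro a
    have h1 := congrFun (congrFun heq a) a
    have h2 : ∀ {A C : Mat}, A.BlockTriangular id → C.BlockTriangular id →
        (A * C) a a = A a a * C a a := by
      intro A C hA hC
      rw [Matrix.mul_apply, Finset.sum_eq_single a]
      · intro c _ hc
        rcases lt_or_gt_of_ne hc with h | h
        · rw [hA (show id c < id a from h), zero_mul]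
        · rw [hC (show id a < id c from h), mul_zero]
      · simp
    rw [h2 hM'T hbT, h2 hbT (fun a c h => (mem_upperU.mp hx).1 a c h), (mem_upperU.mp hx).2,
      mul_one] at h1
    have hb0 : b a a ≠ 0 := by
      have h3 := hdet.ne_zero
      rw [Matrix.det_of_upperTriangular hbT] at h3
      exact fun e => h3 (Finset.prod_eq_zero (Finset.mem_univ a) e)
    exact mul_right_cancel₀ hb0 (by rw [h1, one_mul])
  refine ⟨fun a c hca => ?_, fun a => ?_⟩
  · have := hM'T (i := Fin.rev c) (j := Fin.rev a) (by simpa using hca)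
    simpa [hM'] using this
  · simpa [hM'] using hdiag (Fin.rev a)

end Cfsg.Agent.AutPSL
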