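import Mathlib
import Cfsg.Agent.Lib.LinearGroups.Basic
import Cfsg.Agent.Lib.AutPSL.Unitriangular

set_option autoImplicit false

/-!
Standard automorphisms of `SL_n(F)` and their action on `PSL_n(F)`.
-/

namespace Cfsg.Agent.AutPSL

open Matrix

universe u
variable {n : ℕ} {F : Type u} [Field F]

local notation "SLn" => Matrix.SpecialLinearGroup (Fin n) F
local notation "PSLn" => Matrix.ProjectiveSpecialLinearGroup (Fin n) F
local notation "Mat" => Matrix (Fin n) (Fin n) F

variable (n F) in
/-- The projection `SL_n → PSL_n`. -/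
def proj : SLn →* PSLn := QuotientGroup.mk' (Subgroup.center SLn)

theorem proj_surjective : Function.Surjective (proj n F) :=
  QuotientGroup.mk'_surjective _

theorem proj_eq_one_iff (x : SLn) : proj n F x = 1 ↔ x ∈ Subgroup.center SLn :=
  QuotientGroup.eq_one_iff x

/-- An automorphism of `SL_n` acts on `PSL_n`. -/
def descend : MulAut SLn →* MulAut PSLn where
  toFun e := QuotientGroup.congr (Subgroup.center SLn) (Subgroup.center SLn) e (by
    ext x
    rw [Subgroup.mem_map]
    constructor
    · rintro ⟨z, hz, rfl⟩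
      exact MulEquivClass.apply_mem_center e hz
    · intro hx
      exact ⟨e.symm x, MulEquivClass.apply_mem_center e.symm hx, e.apply_symm_apply x⟩)
  map_one' := by
    ext x
    obtain ⟨s, rfl⟩ := QuotientGroup.mk_surjective x
    rfl
  map_mul' a b := by
    ext x
    obtain ⟨s, rfl⟩ := QuotientGroup.mk_surjective x
    rfl

theorem descend_proj (e : MulAut SLn) (s : SLn) : descend e (proj n F s) = proj n F (e s) := rfl

theorem descend_conj (s : SLn) : descend (MulAut.conj s) = MulAut.conj (proj n F s) := by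
  ext x
  obtain ⟨t, rfl⟩ := proj_surjective x
  rw [descend_proj]
  simp [MulAut.conj_apply]

theorem det_conj_gl (g : GL (Fin n) F) (s : SLn) :
    ((g : Mat) * (s : Mat) * ((g⁻¹ : GL (Fin n) F) : Mat)).det = 1 := by
  rw [Matrix.det_units_conj, s.det_coe]

/-- Conjugation by an element of `GL_n`. -/
def cjAut (g : GL (Fin n) F) : MulAut SLn where
  toFun s := ⟨(g : Mat) * (s : Mat) * ((g⁻¹ : GL (Fin n) F) : Mat), det_conj_gl g s⟩
  invFun s := ⟨((g⁻¹ : GL (Fin n) F) : Mat) * (s : Mat) * (g : Mat), by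
    simpa using det_conj_gl g⁻¹ s⟩
  left_inv s := Subtype.ext (by simp [mul_assoc])
  right_inv s := Subtype.ext (by simp [mul_assoc])
  map_mul' s t := Subtype.ext (by
    show (g : Mat) * ((s : Mat) * (t : Mat)) * ((g⁻¹ : GL (Fin n) F) : Mat) =
      ((g : Mat) * (s : Mat) * ((g⁻¹ : GL (Fin n) F) : Mat)) *
        ((g : Mat) * (t : Mat) * ((g⁻¹ : GL (Fin n) F) : Mat))
    simp [mul_assoc])

theorem cjAut_apply (g : GL (Fin n) F) (s : SLn) :
    (cjAut g s : Mat) = (g : Mat) * (s : Mat) * ((g⁻¹ : GL (Fin n) F) : Mat) := rfl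

/-- Conjugation as a homomorphism. -/
def cj : GL (Fin n) F →* MulAut SLn where
  toFun := cjAut
  map_one' := by
    refine MulEquiv.ext fun s => Subtype.ext ?_
    rw [cjAut_apply]; simp
  map_mul' g h := by
    refine MulEquiv.ext fun s => Subtype.ext ?_
    rw [MulAut.mul_apply, cjAut_apply, cjAut_apply, cjAut_apply]
    simp [mul_assoc]

theorem cj_apply (g : GL (Fin n) F) (s : SLn) :
    (cj g s : Mat) = (g : Mat) * (s : Mat) * ((g⁻¹ : GL (Fin n) F) : Mat) := rfl

theorem cj_toGL (s : SLn) : cj (Matrix.SpecialLinearGroup.toGL s) = MulAut.conj s := by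
  refine MulEquiv.ext fun t => Subtype.ext ?_
  rw [cj_apply, MulAut.conj_apply, ← map_inv]
  rfl

/-- Entrywise application of a field automorphism. -/
def fld (σ : F ≃+* F) : MulAut SLn where
  toFun := Matrix.SpecialLinearGroup.map (σ : F →+* F)
  invFun := Matrix.SpecialLinearGroup.map (σ.symm : F →+* F)
  left_inv s := by
    apply Subtype.ext
    ext i j
    simp
  right_inv s := by
    apply Subtype.ext
    ext i j
    simp
  map_mul' := map_mul _

theorem fld_apply (σ : F ≃+* F) (s : SLn) : (fld σ s : Mat) = (s : Mat).map σ := rfl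

theorem fld_one : fld (RingEquiv.refl F) = (1 : MulAut SLn) := by
  refine MulEquiv.ext fun s => Subtype.ext ?_
  rw [fld_apply]; rfl

theorem fld_mul (σ τ : F ≃+* F) : (fld σ * fld τ : MulAut SLn) = fld (τ.trans σ) := by
  refine MulEquiv.ext fun s => Subtype.ext ?_
  rw [MulAut.mul_apply, fld_apply, fld_apply, fld_apply]
  rfl

theorem transpose_inv_transpose_inv (s : SLn) :
    Matrix.SpecialLinearGroup.transpose (Matrix.SpecialLinearGroup.transpose s⁻¹)⁻¹ = s := by
  have h1 : Matrix.SpecialLinearGroup.transpose s⁻¹ * Matrix.SpecialLinearGroup.transpose s = 1 := by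
    apply Subtype.ext
    show ((s⁻¹ : SLn) : Mat).transpose * (s : Mat).transpose = 1
    rw [← Matrix.transpose_mul, ← Matrix.SpecialLinearGroup.coe_mul, mul_inv_cancel]
    exact Matrix.transpose_one
  rw [inv_eq_of_mul_eq_one_right h1]
  exact Subtype.ext (Matrix.transpose_transpose _)

/-- Inverse transpose. -/
def itp : MulAut SLn where
  toFun s := Matrix.SpecialLinearGroup.transpose s⁻¹
  invFun s := Matrix.SpecialLinearGroup.transpose s⁻¹
  left_inv s := transpose_inv_transpose_inv s
  right_inv s := transpose_inv_transpose_inv s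
  map_mul' s t := by
    apply Subtype.ext
    rw [_root_.mul_inv_rev]
    show (((t⁻¹ : SLn) : Mat) * ((s⁻¹ : SLn) : Mat)).transpose = _
    rw [Matrix.transpose_mul]
    rfl

theorem itp_apply (s : SLn) : (itp s : Mat) = ((s⁻¹ : SLn) : Mat).transpose := rfl

theorem itp_itp (s : SLn) : itp (itp s) = s := itp.left_inv s

theorem itp_mul_itp : (itp * itp : MulAut SLn) = 1 := MulEquiv.ext itp_itp

/-- The inverse transpose of an element of `GL_n`. -/
def glItp (g : GL (Fin n) F) : GL (Fin n) F where
  val := ((g⁻¹ : GL (Fin n) F) : Mat).transpose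
  inv := (g : Mat).transpose
  val_inv := by rw [← Matrix.transpose_mul, ← Units.val_mul, mul_inv_cancel]; simp
  inv_val := by rw [← Matrix.transpose_mul, ← Units.val_mul, inv_mul_cancel]; simp

theorem itp_mul_cj (g : GL (Fin n) F) : (itp * cj g : MulAut SLn) = cj (glItp g) * itp := by
  refine MulEquiv.ext fun s => Subtype.ext ?_
  rw [MulAut.mul_apply, MulAut.mul_apply, itp_apply, cj_apply (glItp g), itp_apply, ← map_inv,
    cj_apply]
  rw [Matrix.transpose_mul, Matrix.transpose_mul, ← mul_assoc]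
  rfl

theorem fld_mul_cj (σ : F ≃+* F) (g : GL (Fin n) F) :
    (fld σ * cj g : MulAut SLn) =
      cj (Matrix.GeneralLinearGroup.map (σ : F →+* F) g) * fld σ := by
  refine MulEquiv.ext fun s => Subtype.ext ?_
  rw [MulAut.mul_apply, MulAut.mul_apply, fld_apply, cj_apply, cj_apply, fld_apply,
    ← map_inv]
  simp only [Matrix.map_mul]
  rfl

theorem fld_mul_itp (σ : F ≃+* F) : (fld σ * itp : MulAut SLn) = itp * fld σ := by
  refine MulEquiv.ext fun s => Subtype.ext ?_
  rw [MulAut.mul_apply, MulAut.mul_apply, fld_apply, itp_apply, itp_apply, ← map_inv, fld_apply,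
    Matrix.transpose_map]

theorem fld_tv (σ : F ≃+* F) (i j : Fin n) (h : i ≠ j) (a : F) :
    fld σ (tv i j h a) = tv i j h (σ a) := by
  apply Subtype.ext
  rw [fld_apply, tv_coe, tv_coe, Matrix.map_add σ (map_add σ), Matrix.map_one σ (map_zero σ) (map_one σ),
    Matrix.map_single]

theorem itp_tv (i j : Fin n) (h : i ≠ j) (a : F) : itp (tv i j h a) = tv j i h.symm (-a) := by
  apply Subtype.ext
  rw [itp_apply, tv_inv, tv_coe, tv_coe, Matrix.transpose_add, Matrix.transpose_one,
    Matrix.transpose_single]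

/-- An invertible diagonal matrix. -/
def diagUnit (d : Fin n → Fˣ) : GL (Fin n) F where
  val := Matrix.diagonal fun i => (d i : F)
  inv := Matrix.diagonal fun i => ((d i)⁻¹ : Fˣ)
  val_inv := by simp [Matrix.diagonal_mul_diagonal]
  inv_val := by simp [Matrix.diagonal_mul_diagonal]

theorem cj_diag_tv (d : Fin n → Fˣ) (i j : Fin n) (h : i ≠ j) (a : F) :
    cj (diagUnit d) (tv i j h a) = tv i j h ((d i : F) * a * ((d j)⁻¹ : Fˣ)) := by
  apply Subtype.ext
  rw [cj_apply, tv_coe, tv_coe]
  ext k l
  rw [diagUnit]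
  simp only [Units.inv_mk, Matrix.mul_diagonal, Matrix.diagonal_mul, Matrix.add_apply]
  by_cases hkl : k = l
  · subst hkl
    have : ¬ (i = k ∧ j = k) := fun e => h (e.1.trans e.2.symm)
    simp [Matrix.single_apply, this]
  · by_cases he : i = k ∧ j = l
    · obtain ⟨rfl, rfl⟩ := he
      simp [hkl]
    · simp [Matrix.one_apply_ne hkl, Matrix.single_apply, he]

theorem proj_tv_hom_ext {G : Type*} [Group G] {f g : SLn →* G}
    (h : ∀ i j (hij : i ≠ j) (a : F), f (tv i j hij a) = g (tv i j hij a)) : f = g := by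
  refine MonoidHom.eq_of_eqOn_dense (s := LinGrp.transvectionSet) LinGrp.closure_transvectionSet ?_
  rintro x ⟨i, j, hij, a, rfl⟩
  exact h i j hij a

theorem eq_descend_of_tv {φ : MulAut PSLn} {e : MulAut SLn}
    (h : ∀ i j (hij : i ≠ j) (a : F), φ (proj n F (tv i j hij a)) = proj n F (e (tv i j hij a))) :
    φ = descend e := by
  refine MulEquiv.ext fun x => ?_
  obtain ⟨s, rfl⟩ := proj_surjective x
  exact DFunLike.congr_fun
    (proj_tv_hom_ext (f := (φ.toMonoidHom).comp (proj n F))
      (g := (proj n F).comp e.toMonoidHom) h) s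

theorem uni_sub_one_pow {M : Mat} (hM : IsUni M) (k : ℕ) (a b : Fin n) (hab : b.val < a.val + k) :
    ((M - 1) ^ k) a b = 0 := by
  induction k generalizing b with
  | zero =>
    rw [pow_zero, Matrix.one_apply_ne]
    intro e; subst e; omega
  | succ k ih =>
    rw [pow_succ, Matrix.mul_apply]
    refine Finset.sum_eq_zero fun c _ => ?_
    by_cases hc : c.val < a.val + k
    · rw [ih c hc, zero_mul]
    · rw [Matrix.sub_apply]
      rcases eq_or_ne c b with rfl | hcb
      · rw [hM.2, Matrix.one_apply_eq, sub_self, mul_zero]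
      · have : c.val ≠ b.val := fun e => hcb (Fin.ext e)
        rw [hM.1 c b (Fin.lt_def.mpr (by omega)), Matrix.one_apply_ne hcb, sub_self, mul_zero]

section CharP

variable (p : ℕ) [Fact p.Prime] [CharP F p]

theorem upperU_pow {s : SLn} (hs : s ∈ upperU n F) : s ^ p ^ n = 1 := by
  rcases Nat.eq_zero_or_pos n with rfl | hn
  · exact Subsingleton.elim _ _
  haveI : Nonempty (Fin n) := ⟨⟨0, hn⟩⟩
  haveI : CharP Mat p := inferInstance
  have h0 : ((s : Mat) - 1) ^ p ^ n = 0 := by
    ext a b
    rw [uni_sub_one_pow (mem_upperU.mp hs) _ a b, Matrix.zero_apply]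
    have := Nat.lt_pow_self (n := n) (Fact.out : p.Prime).one_lt
    omega
  rw [sub_pow_char_pow_of_commute _ _ (Commute.one_right _), one_pow, sub_eq_zero] at h0
  exact Subtype.ext (by simpa using h0)

theorem tv_pow (i j : Fin n) (h : i ≠ j) (a : F) : tv i j h a ^ p = 1 := by
  have h1 : ∀ m : ℕ, tv i j h a ^ m = tv i j h (m * a) := by
    intro m
    induction m with
    | zero => simp [tv_zero]
    | succ m ih => rw [pow_succ, ih, tv_mul, Nat.cast_succ, add_mul, one_mul]
  rw [h1, CharP.cast_eq_zero, zero_mul, tv_zero]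

/-- Elements of `p`-power order are determined by their image in `PSL_n`. -/
theorem eq_of_proj_eq {s t : SLn} {k l : ℕ} (hs : s ^ p ^ k = 1) (ht : t ^ p ^ l = 1)
    (h : proj n F s = proj n F t) : s = t := by
  have hz : s⁻¹ * t ∈ Subgroup.center SLn := by
    rw [← proj_eq_one_iff, map_mul, map_inv, h, inv_mul_cancel]
  set z := s⁻¹ * t with hzdef
  have ht' : t = s * z := by rw [hzdef, mul_inv_cancel_left]
  have hc : Commute s z := (Subgroup.mem_center_iff.mp hz s)
  have hzp : z ^ p ^ (k + l) = 1 := by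
    have h1 : t ^ p ^ (k + l) = 1 := by
      rw [add_comm, pow_add, pow_mul, ht, one_pow]
    have h2 : s ^ p ^ (k + l) = 1 := by
      rw [pow_add, pow_mul, hs, one_pow]
    rwa [ht', hc.mul_pow, h2, one_mul] at h1
  obtain ⟨c, hc1, hc2⟩ := Matrix.SpecialLinearGroup.mem_center_iff.mp hz
  rcases Nat.eq_zero_or_pos n with rfl | hn
  · exact Subsingleton.elim _ _
  have h3 : c ^ p ^ (k + l) = 1 := by
    have := congrArg (fun x : SLn => (x : Mat) ⟨0, hn⟩ ⟨0, hn⟩) hzp
    simp only [Matrix.SpecialLinearGroup.coe_pow, ← hc2, ← map_pow, Matrix.SpecialLinearGroup.coe_one] at this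
    simpa using this
  have h4 : c = 1 := iterateFrobenius_inj F p (k + l) (by simp [iterateFrobenius_def, h3])
  have h5 : z = 1 := Subtype.ext (by rw [← hc2, h4, map_one]; rfl)
  rw [ht', h5, mul_one]

end CharP

end Cfsg.Agent.AutPSL
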