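import Mathlib

set_option autoImplicit false

/-!
Galois descent for `GL_n` over a field with an automorphism of finite order, surjectivity of the
norm for finite fields, and the congruence class of invertible Hermitian matrices.
-/

namespace Cfsg.Agent.AutPSL

open Matrix

universe u

section Cyc

variable {G H : Type*} [Group G] [Group H]

/-- The twisted power `g θ(g) ⋯ θ^(i-1)(g)`. -/
def cyc (θ : G →* G) (g : G) : ℕ → G
  | 0 => 1
  | i + 1 => g * θ (cyc θ g i)

theorem cyc_two (θ : G →* G) (g : G) : cyc θ g 2 = g * θ g := by simp [cyc]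

theorem map_cyc (θ : G →* G) (θ' : H →* H) (φ : G →* H) (h : ∀ x, φ (θ x) = θ' (φ x)) (g : G) :
    ∀ i, φ (cyc θ g i) = cyc θ' (φ g) i
  | 0 => map_one φ
  | i + 1 => by rw [cyc, cyc, map_mul, h, map_cyc θ θ' φ h g i]

theorem cyc_mul_central (θ : G →* G) (g z : G) (hz : ∀ i, cyc θ z i ∈ Subgroup.center G) :
    ∀ i, cyc θ (g * z) i = cyc θ g i * cyc θ z i
  | 0 => by simp [cyc]
  | i + 1 => by
    have hz1 : z ∈ Subgroup.center G := by simpa [cyc] using hz 1
    rw [cyc, cyc, cyc, cyc_mul_central θ g z hz i, map_mul]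
    simp only [mul_assoc]
    congr 1
    rw [← mul_assoc z, ← Subgroup.mem_center_iff.mp hz1 (θ (cyc θ g i)), mul_assoc]

theorem cyc_comm {A : Type*} [CommGroup A] (θ : A →* A) (a b : A) (i : ℕ) :
    cyc θ (a * b) i = cyc θ a i * cyc θ b i :=
  cyc_mul_central θ a b (fun _ => Subgroup.mem_center_iff.mpr fun _ => mul_comm _ _) i

theorem cyc_div_self {A : Type*} [CommGroup A] (θ : A →* A) (b : A) :
    ∀ i, cyc θ (b * (θ b)⁻¹) i = b * ((θ : A → A)^[i] b)⁻¹
  | 0 => by simp [cyc]
  | i + 1 => by
    rw [cyc, cyc_div_self θ b i, map_mul, map_inv, Function.iterate_succ_apply' (θ : A → A) i b]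
    rw [← mul_assoc, inv_mul_cancel_right]

end Cyc

variable {F : Type u} [Field F] {n : ℕ}

local notation "Mat" => Matrix (Fin n) (Fin n) F

/-- A field automorphism on the units. -/
def uMap (σ : F ≃+* F) : Fˣ →* Fˣ := Units.map (σ : F →+* F).toMonoidHom

/-- A field automorphism on `GL_n`. -/
def glMap (σ : F ≃+* F) : GL (Fin n) F →* GL (Fin n) F :=
  Matrix.GeneralLinearGroup.map (σ : F →+* F)

theorem glMap_coe (σ : F ≃+* F) (g : GL (Fin n) F) : (glMap σ g : Mat) = (g : Mat).map σ := rfl

theorem iterate_eq_pow_apply (σ : F ≃+* F) : ∀ (i : ℕ) (a : F), (⇑σ)^[i] a = (σ ^ i) a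
  | 0, a => rfl
  | i + 1, a => by
    rw [Function.iterate_succ_apply', iterate_eq_pow_apply σ i a, pow_succ']
    rfl

theorem pow_injective_lt_orderOf (σ : F ≃+* F) :
    Function.Injective fun i : Fin (orderOf σ) => ((σ ^ i.val : F ≃+* F) : F →+* F).toMonoidHom := by
  intro i j h
  refine Fin.ext (pow_injOn_Iio_orderOf i.isLt j.isLt ?_)
  exact RingEquiv.ext fun a => DFunLike.congr_fun h a

/-- Descent: if the twisted norm of `g` is `1` then `g` is a twisted coboundary. -/
theorem exists_descent (σ : F ≃+* F) (hr : 0 < orderOf σ) (g : GL (Fin n) F)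
    (hg : cyc (glMap σ) g (orderOf σ) = 1) :
    ∃ h : GL (Fin n) F, g * glMap σ h = h := by
  classical
  set r := orderOf σ with hrdef
  let T : ℕ → (Fin n → F) → (Fin n → F) := fun i v =>
    ((cyc (glMap σ) g i : GL (Fin n) F) : Mat) *ᵥ (fun k => (σ ^ i) (v k))
  let W : Set (Fin n → F) := {v | (g : Mat) *ᵥ (fun k => σ (v k)) = v}
  have hstep : ∀ i v, (g : Mat) *ᵥ (fun k => σ (T i v k)) = T (i + 1) v := by
    intro i v
    have e : (fun k => σ (T i v k)) =
        ((glMap σ (cyc (glMap σ) g i) : GL (Fin n) F) : Mat) *ᵥ (fun k => (σ ^ (i + 1)) (v k)) := by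
      funext k
      show σ ((((cyc (glMap σ) g i : GL (Fin n) F) : Mat) *ᵥ (fun k => (σ ^ i) (v k))) k) = _
      simp only [Matrix.mulVec, dotProduct, map_sum, map_mul, glMap_coe, Matrix.map_apply,
        pow_succ']
      rfl
    rw [e, Matrix.mulVec_mulVec, ← Units.val_mul]
    rfl
  have hW : ∀ v, (∑ i ∈ Finset.range r, T i v) ∈ W := by
    intro v
    show (g : Mat) *ᵥ (fun k => σ ((∑ i ∈ Finset.range r, T i v) k)) = _
    have e : (fun k => σ ((∑ i ∈ Finset.range r, T i v) k)) =
        ∑ i ∈ Finset.range r, fun k => σ (T i v k) := by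
      funext k; simp [Finset.sum_apply, map_sum]
    rw [e, Matrix.mulVec_sum]
    simp only [hstep]
    have h0 : T r v = T 0 v := by
      show ((cyc (glMap σ) g r : GL (Fin n) F) : Mat) *ᵥ _ = ((cyc (glMap σ) g 0 : GL (Fin n) F) : Mat) *ᵥ _
      rw [hg, hrdef, pow_orderOf_eq_one]
      rfl
    have h1 := Finset.sum_range_succ (fun i => T i v) r
    rw [Finset.sum_range_succ' (fun i => T i v) r, h0] at h1
    exact add_right_cancel h1
  have hspan : Submodule.span F W = ⊤ := by
    by_contra hne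
    obtain ⟨l, hl0, hl⟩ := Submodule.exists_le_ker_of_lt_top _ (lt_top_iff_ne_top.mpr hne)
    refine hl0 (LinearMap.ext fun v => ?_)
    have hli := (linearIndependent_monoidHom F F).comp _ (pow_injective_lt_orderOf σ)
    rw [Fintype.linearIndependent_iff] at hli
    have h1 := hli (fun i => l (T i.val v)) (funext fun a => ?_) ⟨0, hr⟩
    · simpa [T, cyc] using h1
    · have h2 : l (∑ i ∈ Finset.range r, T i (a • v)) = 0 :=
        hl (Submodule.subset_span (hW (a • v)))
      have h3 : ∀ i, T i (a • v) = (σ ^ i) a • T i v := by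
        intro i
        show (_ : Mat) *ᵥ _ = _ • ((_ : Mat) *ᵥ _)
        rw [← Matrix.mulVec_smul]
        congr 1
        funext k
        simp
      simp only [h3, map_sum, map_smul, smul_eq_mul] at h2
      rw [Finset.sum_range] at h2
      simp only [Function.comp_apply, Finset.sum_apply, Pi.smul_apply, smul_eq_mul, Pi.zero_apply]
      rw [← h2]
      exact Finset.sum_congr rfl fun i _ => mul_comm _ _
  obtain ⟨b, hbW, hbs, hbli⟩ := exists_linearIndependent F W
  rw [hspan] at hbs
  let B : Module.Basis b F (Fin n → F) := Module.Basis.mk hbli (by rw [Subtype.range_coe, hbs])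
  let e : b ≃ Fin n := (B.indexEquiv (Pi.basisFun F (Fin n)))
  let M : Mat := Matrix.of fun k j => (e.symm j : Fin n → F) k
  have hM : IsUnit M := by
    rw [← Matrix.linearIndependent_cols_iff_isUnit]
    exact (hbli.comp _ e.symm.injective : _)
  refine ⟨hM.unit, Units.ext ?_⟩
  rw [Units.val_mul, glMap_coe]
  ext k j
  have hj := congrFun (hbW (e.symm j).2) k
  simpa [M, Matrix.mul_apply, Matrix.mulVec, dotProduct] using hj

/-- Hilbert 90. -/
theorem exists_hilbert90 (σ : F ≃+* F) (hr : 0 < orderOf σ) (c : Fˣ)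
    (hc : cyc (uMap σ) c (orderOf σ) = 1) : ∃ b : Fˣ, c = b * (uMap σ b)⁻¹ := by
  obtain ⟨h, hh⟩ := exists_descent (n := 1) σ hr (Matrix.GeneralLinearGroup.scalar (Fin 1) c) (by
    rw [← map_cyc (uMap σ) (glMap σ) (Matrix.GeneralLinearGroup.scalar (Fin 1))
      (fun x => Units.ext (by
        ext i j
        simp [uMap, glMap_coe, Subsingleton.elim i j, Matrix.GeneralLinearGroup.scalar])) c, hc,
      map_one])
  have h0 : (h : Matrix (Fin 1) (Fin 1) F) 0 0 ≠ 0 := by
    intro h0
    have := (Matrix.isUnit_iff_isUnit_det (h : Matrix (Fin 1) (Fin 1) F)).mp h.isUnit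
    rw [Matrix.det_fin_one, h0] at this
    exact not_isUnit_zero this
  refine ⟨Units.mk0 _ h0, eq_mul_inv_iff_mul_eq.mpr (Units.ext ?_)⟩
  have := congrArg (fun x : GL (Fin 1) F => (x : Matrix (Fin 1) (Fin 1) F) 0 0) hh
  simpa [uMap, glMap_coe, Matrix.GeneralLinearGroup.scalar, Matrix.mul_apply] using this

/-- The norm onto the fixed units of a finite field is surjective. -/
theorem exists_norm_eq [Finite F] (σ : F ≃+* F) (hr : 0 < orderOf σ) (c : Fˣ) (hc : uMap σ c = c) :
    ∃ l : Fˣ, cyc (uMap σ) l (orderOf σ) = c := by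
  classical
  haveI : Finite Fˣ := inferInstance
  set r := orderOf σ
  let Nm : Fˣ →* Fˣ := MonoidHom.mk' (fun l => cyc (uMap σ) l r) (fun a b => cyc_comm _ a b r)
  let D : Fˣ →* Fˣ := MonoidHom.mk' (fun l => l * (uMap σ l)⁻¹) (fun a b => by
    rw [map_mul, mul_inv, mul_mul_mul_comm])
  have hit : ∀ (i : ℕ) (b : Fˣ), (((uMap σ : Fˣ → Fˣ)^[i] b : Fˣ) : F) = (σ ^ i) (b : F) := by
    intro i b
    induction i with
    | zero => rfl
    | succ i ih =>
      rw [Function.iterate_succ_apply', pow_succ']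
      show σ _ = _
      rw [ih]
      rfl
  have hker : Nm.ker = D.range := by
    ext x
    constructor
    · intro hx
      obtain ⟨b, hb⟩ := exists_hilbert90 σ hr x hx
      exact ⟨b, hb.symm⟩
    · rintro ⟨b, rfl⟩
      show cyc (uMap σ) (b * (uMap σ b)⁻¹) r = 1
      rw [cyc_div_self, mul_inv_eq_one]
      refine Units.ext ?_
      rw [hit, pow_orderOf_eq_one]
      rfl
  let K : Subgroup Fˣ := (uMap σ).eqLocus (MonoidHom.id Fˣ)
  have hDker : D.ker = K := by
    ext x
    show x * (uMap σ x)⁻¹ = 1 ↔ uMap σ x = x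
    rw [mul_inv_eq_one]
    exact eq_comm
  have hle : Nm.range ≤ K := by
    rintro _ ⟨l, rfl⟩
    have hD : cyc (uMap σ) (uMap σ l) r = cyc (uMap σ) l r := by
      have h1 : cyc (uMap σ) (l * (uMap σ l)⁻¹) r = 1 := (hker.ge ⟨l, rfl⟩ : _)
      have h2 : cyc (uMap σ) l r = cyc (uMap σ) (uMap σ l) r * cyc (uMap σ) (l * (uMap σ l)⁻¹) r := by
        rw [← cyc_comm, mul_comm l, mul_inv_cancel_left]
      rw [h2, h1, mul_one]
    show uMap σ (cyc (uMap σ) l r) = cyc (uMap σ) l r
    rw [map_cyc (uMap σ) (uMap σ) (uMap σ) (fun _ => rfl) l r, hD]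
  have hcard : Nat.card Nm.range = Nat.card K := by
    have h1 := Subgroup.card_mul_index Nm.ker
    rw [Subgroup.index_ker] at h1
    have h2 := Subgroup.card_mul_index D.ker
    rw [Subgroup.index_ker, hDker] at h2
    rw [hker, ← h2, mul_comm (Nat.card K)] at h1
    exact Nat.eq_of_mul_eq_mul_left Nat.card_pos h1
  have heq : Nm.range = K := Subgroup.eq_of_le_of_card_ge hle hcard.ge
  have : c ∈ Nm.range := by rw [heq]; exact hc
  exact this

/-- A finite field has the expected order over the fixed field of an automorphism. -/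
theorem card_eq_card_fixed_pow [Finite F] (σ : F ≃+* F) :
    Nat.card F = Nat.card ((σ : F →+* F).eqLocusField (RingHom.id F)) ^ orderOf σ := by
  classical
  haveI : Finite (F ≃+* F) := Finite.of_injective _ DFunLike.coe_injective
  haveI := Fintype.ofFinite (Subgroup.zpowers σ)
  haveI : FaithfulSMul (Subgroup.zpowers σ) F :=
    ⟨fun h => Subtype.ext (RingEquiv.ext h)⟩
  have h1 := FixedPoints.finrank_eq_card (Subgroup.zpowers σ) F
  have h2 : FixedPoints.subfield (Subgroup.zpowers σ) F =
      (σ : F →+* F).eqLocusField (RingHom.id F) := by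
    ext a
    show (∀ g : Subgroup.zpowers σ, g • a = a) ↔ σ a = a
    refine ⟨fun h => h ⟨σ, Subgroup.mem_zpowers σ⟩, fun h g => ?_⟩
    have : σ ∈ MulAction.stabilizer (F ≃+* F) a := h
    exact Subgroup.zpowers_le.mpr this g.2
  rw [← h2, Module.natCard_eq_pow_finrank (K := FixedPoints.subfield (Subgroup.zpowers σ) F) (V := F), h1,
    ← Nat.card_eq_fintype_card, Nat.card_zpowers]

/-- Invertible Hermitian matrices over a finite field are congruent to `1`. -/
theorem exists_hermitian_congr [Finite F] (σ : F ≃+* F) (hσ : ∀ a, σ (σ a) = a)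
    (hne : σ ≠ RingEquiv.refl F) (H : GL (Fin n) F) (hH : ((H : Mat).map σ)ᵀ = (H : Mat)) :
    ∃ h : GL (Fin n) F, (H : Mat) = (h : Mat) * ((h : Mat).map σ)ᵀ := by
  classical
  have hord : orderOf σ = 2 := orderOf_eq_prime (RingEquiv.ext fun a => by
    rw [pow_two]; exact hσ a) hne
  obtain ⟨a0, ha0⟩ : ∃ a, σ a ≠ a := by
    by_contra hall
    push Not at hall
    exact hne (RingEquiv.ext hall)
  let B : (Fin n → F) → (Fin n → F) → F := fun u v => u ⬝ᵥ ((H : Mat) *ᵥ fun k => σ (v k))
  have hsymm : ∀ u v, σ (B u v) = B v u := by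
    intro u v
    have hh : ∀ i j, σ ((H : Mat) i j) = (H : Mat) j i := fun i j => congrFun (congrFun hH j) i
    simp only [B, dotProduct, Matrix.mulVec, Finset.mul_sum, map_sum, map_mul, hσ, hh]
    rw [Finset.sum_comm]
    exact Finset.sum_congr rfl fun i _ => Finset.sum_congr rfl fun j _ => by ring
  have haddl : ∀ u u' v, B (u + u') v = B u v + B u' v := fun u u' v => add_dotProduct _ _ _
  have hsmull : ∀ (a : F) u v, B (a • u) v = a * B u v := fun a u v => smul_dotProduct a u _
  have hsuml : ∀ {ι : Type} (s : Finset ι) (f : ι → Fin n → F) v,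
      B (∑ i ∈ s, f i) v = ∑ i ∈ s, B (f i) v := fun s f v => sum_dotProduct s f _
  have hnd : ∀ w, (∀ u, B u w = 0) → w = 0 := by
    intro w hw
    have h1 : (H : Mat) *ᵥ (fun k => σ (w k)) = 0 := dotProduct_eq_zero _ fun u => by
      rw [dotProduct_comm]; exact hw u
    have h2 := congrArg (fun x => ((H⁻¹ : GL (Fin n) F) : Mat) *ᵥ x) h1
    simp only [Matrix.mulVec_mulVec, Matrix.mulVec_zero, Units.inv_mul, Matrix.one_mulVec] at h2
    funext k
    simpa using congrFun h2 k
  have key : ∀ k ≤ n, ∃ v : Fin k → Fin n → F, ∀ i j, B (v i) (v j) = if i = j then 1 else 0 := by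
    intro k
    induction k with
    | zero => exact fun _ => ⟨Fin.elim0, fun i => i.elim0⟩
    | succ k ih =>
      intro hk
      obtain ⟨v, hv⟩ := ih (by omega)
      let L : (Fin n → F) →ₗ[F] (Fin k → F) :=
        { toFun := fun u i => B u (v i)
          map_add' := fun u u' => funext fun i => haddl u u' (v i)
          map_smul' := fun a u => funext fun i => hsmull a u (v i) }
      have hker : LinearMap.ker L ≠ ⊥ := LinearMap.ker_ne_bot_of_finrank_lt (by simp; omega)
      obtain ⟨w0, hw0, hw0ne⟩ := Submodule.exists_mem_ne_zero_of_ne_bot hker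
      have hexists : ∃ w, L w = 0 ∧ B w w ≠ 0 := by
        by_contra hall
        push Not at hall
        have hzero : ∀ w x, L w = 0 → L x = 0 → B w x = 0 := by
          intro w x hw hx
          have h1 : ∀ a : F, a * B w x + σ (a * B w x) = 0 := by
            intro a
            have hwx : L (a • w + x) = 0 := by rw [map_add, map_smul, hw, hx, smul_zero, add_zero]
            have h2 := hall _ hwx
            have haw : B (a • w) (a • w) = 0 := hall _ (by rw [map_smul, hw, smul_zero])
            have e : ∀ u y z, B u (y + z) = B u y + B u z := fun u y z => by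
              rw [← hsymm (y + z) u, haddl, map_add, hsymm, hsymm]
            rw [haddl, e, e, haw, hall _ hx, hsmull, ← hsymm (a • w) x, hsmull] at h2
            linear_combination h2
          have h3 := h1 1
          rw [one_mul] at h3
          have h4 := h1 a0
          rw [map_mul] at h4
          have h5 : (a0 - σ a0) * B w x = 0 := by linear_combination h4 - σ a0 * h3
          exact (mul_eq_zero.mp h5).resolve_left (sub_ne_zero.mpr ha0.symm)
        refine hw0ne (hnd w0 fun u => ?_)
        have hu' : L (u - ∑ i, B u (v i) • v i) = 0 := by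
          funext j
          rw [map_sub, map_sum]
          simp only [Pi.sub_apply, Finset.sum_apply, map_smul, Pi.smul_apply, Pi.zero_apply]
          show B u (v j) - ∑ i, B u (v i) • B (v i) (v j) = 0
          simp [hv]
        have h6 := hzero _ _ hu' (LinearMap.mem_ker.mp hw0)
        rw [show u = (u - ∑ i, B u (v i) • v i) + ∑ i, B u (v i) • v i from (sub_add_cancel _ _).symm,
          haddl, h6, zero_add, hsuml]
        refine Finset.sum_eq_zero fun i _ => ?_
        rw [hsmull, ← hsymm w0 (v i),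
          show B w0 (v i) = 0 from congrFun (LinearMap.mem_ker.mp hw0) i, map_zero, mul_zero]
      obtain ⟨w, hw, hww⟩ := hexists
      obtain ⟨l, hl⟩ := exists_norm_eq σ (by omega) (Units.mk0 _ hww)
        (Units.ext (hsymm w w))
      rw [hord, cyc_two] at hl
      have hl' : (l : F) * σ (l : F) = B w w := congrArg Units.val hl
      have hlne : (l : F) ≠ 0 := l.ne_zero
      have hl1 : B ((l : F)⁻¹ • w) ((l : F)⁻¹ • w) = 1 := by
        rw [hsmull, ← hsymm ((l : F)⁻¹ • w) w, hsmull, map_mul, hsymm, ← hl', map_inv₀]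
        have : σ (l : F) ≠ 0 := fun e => hlne (σ.injective (e.trans (map_zero σ).symm))
        field_simp
      refine ⟨Fin.snoc v ((l : F)⁻¹ • w), ?_⟩
      have hlw : ∀ i, B ((l : F)⁻¹ • w) (v i) = 0 := fun i => by
        rw [hsmull, show B w (v i) = 0 from congrFun hw i, mul_zero]
      intro i j
      refine Fin.lastCases ?_ (fun i => ?_) i <;> refine Fin.lastCases ?_ (fun j => ?_) j
      · simpa using hl1
      · simpa [Fin.castSucc_ne_last, (Fin.castSucc_ne_last j).symm] using hlw j
      · simp [Fin.castSucc_ne_last, ← hsymm ((l : F)⁻¹ • w) (v i), hlw i]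
      · simpa using hv i j
  obtain ⟨v, hv⟩ := key n le_rfl
  let P : Mat := Matrix.of v
  have hP : P * (H : Mat) * (P.map σ)ᵀ = 1 := by
    ext i j
    rw [Matrix.one_apply, ← hv i j]
    simp only [P, B, dotProduct, Matrix.mul_apply, Matrix.mulVec, Finset.sum_mul, Finset.mul_sum,
      Matrix.transpose_apply, Matrix.map_apply, Matrix.of_apply]
    rw [Finset.sum_comm]
    exact Finset.sum_congr rfl fun a _ => Finset.sum_congr rfl fun b _ => by ring
  have hPu : IsUnit P := by
    rw [Matrix.isUnit_iff_isUnit_det]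
    rw [mul_assoc] at hP
    exact Matrix.isUnit_det_of_right_inverse hP
  refine ⟨hPu.unit⁻¹, ?_⟩
  have h1 : (P.map σ)ᵀ * (((hPu.unit⁻¹ : GL (Fin n) F) : Mat).map σ)ᵀ = 1 := by
    rw [← Matrix.transpose_mul, ← Matrix.map_mul,
      show ((hPu.unit⁻¹ : GL (Fin n) F) : Mat) * P = 1 from hPu.val_inv_mul,
      Matrix.map_one _ (map_zero σ) (map_one σ), Matrix.transpose_one]
  calc (H : Mat) = ((hPu.unit⁻¹ : GL (Fin n) F) : Mat) * P * (H : Mat) * ((P.map σ)ᵀ *
        (((hPu.unit⁻¹ : GL (Fin n) F) : Mat).map σ)ᵀ) := by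
        rw [h1, mul_one, show ((hPu.unit⁻¹ : GL (Fin n) F) : Mat) * P = 1 from hPu.val_inv_mul,
          one_mul]
    _ = ((hPu.unit⁻¹ : GL (Fin n) F) : Mat) * (P * (H : Mat) * (P.map σ)ᵀ) *
        (((hPu.unit⁻¹ : GL (Fin n) F) : Mat).map σ)ᵀ := by simp only [mul_assoc]
    _ = _ := by rw [hP, mul_one]

end Cfsg.Agent.AutPSL
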