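import Mathlib
import Cfsg.Agent.Lib.AutPSL.Basic

set_option autoImplicit false

/-!
The Sylow `p`-subgroup of `PSL_n(p^f)` given by unitriangular matrices, its opposite, and the
intersections with other Sylow subgroups.
-/

namespace Cfsg.Agent.AutPSL

open Matrix

universe u
variable {n : ℕ} {F : Type u} [Field F]

local notation "SLn" => Matrix.SpecialLinearGroup (Fin n) F
local notation "PSLn" => Matrix.ProjectiveSpecialLinearGroup (Fin n) F
local notation "Mat" => Matrix (Fin n) (Fin n) F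

variable (n F) in
/-- The image of the upper unitriangular group in `PSL_n`. -/
def projU : Subgroup PSLn := (upperU n F).map (proj n F)

variable (n F) in
/-- The image of the lower unitriangular group in `PSL_n`. -/
def projL : Subgroup PSLn := (projU n F).map (descend (n := n) (F := F) itp).toMonoidHom

/-- The image of `simpleKer` in `PSL_n`. -/
def projK (i j : Fin n) (hij : j.val = i.val + 1) : Subgroup PSLn :=
  (simpleKer (F := F) i j hij).map (proj n F)

/-- The image of the opposite `simpleKer` in `PSL_n`. -/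
def projK' (i j : Fin n) (hij : j.val = i.val + 1) : Subgroup PSLn :=
  (projK (F := F) i j hij).map (descend (n := n) (F := F) itp).toMonoidHom

theorem projK_le (i j : Fin n) (hij : j.val = i.val + 1) : projK (F := F) i j hij ≤ projU n F :=
  Subgroup.map_mono fun _ hx => hx.1

theorem mem_itp_upperU {x : SLn} : itp x ∈ upperU n F ↔ IsUni (x : Mat).transpose := by
  rw [mem_upperU, itp_apply]
  constructor
  · intro h
    refine h.inv ?_
    rw [← Matrix.transpose_mul, ← Matrix.SpecialLinearGroup.coe_mul, mul_inv_cancel]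
    exact Matrix.transpose_one
  · intro h
    refine h.inv ?_
    rw [← Matrix.transpose_mul, ← Matrix.SpecialLinearGroup.coe_mul, inv_mul_cancel]
    exact Matrix.transpose_one

/-- A proper normalising element is upper triangular. -/
theorem upper_of_normalizes (g : SLn) (hg : ∀ u ∈ upperU n F, g⁻¹ * u * g ∈ upperU n F) :
    ∀ k j : Fin n, j < k → (g : Mat) k j = 0 := by
  intro k j hjk
  by_contra hne
  obtain ⟨a, b, hab, h⟩ := exists_simpleKer_of_conj g j k hjk hne
  have hlt : a < b := Fin.lt_def.mpr (by omega)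
  have h1 := (h _ (tv_mem_upperU a b hlt 1) (hg _ (tv_mem_upperU a b hlt 1))).2
  rw [tv_apply_same] at h1
  exact one_ne_zero h1

/-- Upper triangular elements normalise `U`. -/
theorem normalizes_of_upper (g : SLn) (hg : ∀ k j : Fin n, j < k → (g : Mat) k j = 0)
    {u : SLn} (hu : u ∈ upperU n F) : g * u * g⁻¹ ∈ upperU n F := by
  have hgT : (g : Mat).BlockTriangular id := fun a b h => hg a b h
  haveI : Invertible (g : Mat) := (Matrix.SpecialLinearGroup.toGL g).invertible
  have hgiT : ((g⁻¹ : SLn) : Mat).BlockTriangular id := by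
    have h1 := Matrix.blockTriangular_inv_of_blockTriangular hgT
    rwa [Matrix.inv_eq_right_inv (show (g : Mat) * ((g⁻¹ : SLn) : Mat) = 1 by
      rw [← Matrix.SpecialLinearGroup.coe_mul, mul_inv_cancel]; rfl)] at h1
  have huT : (u : Mat).BlockTriangular id := fun a b h => (mem_upperU.mp hu).1 a b h
  have hd : ∀ {A B : Mat}, A.BlockTriangular id → B.BlockTriangular id →
      ∀ a, (A * B) a a = A a a * B a a := by
    intro A B hA hB a
    rw [Matrix.mul_apply, Finset.sum_eq_single a]
    · intro c _ hc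
      rcases lt_or_gt_of_ne hc with h | h
      · rw [hA (show id c < id a from h), zero_mul]
      · rw [hB (show id a < id c from h), mul_zero]
    · simp
  refine mem_upperU.mpr ⟨fun a b h => ?_, fun a => ?_⟩
  · exact ((hgT.mul huT).mul hgiT) h
  · show ((g : Mat) * (u : Mat) * ((g⁻¹ : SLn) : Mat)) a a = 1
    rw [hd (hgT.mul huT) hgiT, hd hgT huT, (mem_upperU.mp hu).2, mul_one, ← hd hgT hgiT,
      ← Matrix.SpecialLinearGroup.coe_mul, mul_inv_cancel, Matrix.SpecialLinearGroup.coe_one,
      Matrix.one_apply_eq]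

variable (p : ℕ) [Fact p.Prime] [CharP F p]
include p

theorem upperU_conj_pow {g u : SLn} (hu : u ∈ upperU n F) : (g * u * g⁻¹) ^ p ^ n = 1 := by
  rw [conj_pow, upperU_pow p hu, mul_one, mul_inv_cancel]

theorem isPGroup_projU : IsPGroup p (projU n F) := by
  rintro ⟨x, u, hu, rfl⟩
  exact ⟨n, Subtype.ext (by
    rw [SubmonoidClass.coe_pow, OneMemClass.coe_one, ← map_pow, upperU_pow p hu, map_one])⟩

variable [Finite F]

/-- `projU` as a Sylow subgroup. -/
noncomputable def sylU : Sylow p PSLn := by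
  refine { toSubgroup := projU n F, isPGroup' := isPGroup_projU p, is_maximal' := ?_ }
  intro Q hQ hle
  by_contra hne
  have hlt : (projU n F).subgroupOf Q < ⊤ := by
    rw [lt_top_iff_ne_top, Ne, Subgroup.subgroupOf_eq_top]
    exact fun h => hne (le_antisymm h hle)
  haveI : Group.IsNilpotent Q := hQ.isNilpotent
  obtain ⟨y, hy, hy'⟩ := SetLike.exists_of_lt
    (Group.normalizerCondition_of_isNilpotent ((projU n F).subgroupOf Q) hlt)
  rw [Subgroup.mem_subgroupOf] at hy'
  obtain ⟨g, hg⟩ := proj_surjective (y : PSLn)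
  -- the lift normalises `U`
  have hn : ∀ u ∈ upperU n F, g⁻¹ * u * g ∈ upperU n F := by
    intro u hu
    have hu' : proj n F u ∈ projU n F := ⟨u, hu, rfl⟩
    have h1 := (Subgroup.mem_normalizer_iff.mp (inv_mem hy) ⟨proj n F u, hle hu'⟩).mp
      (Subgroup.mem_subgroupOf.mpr hu')
    rw [Subgroup.mem_subgroupOf, inv_inv, Subgroup.coe_mul, Subgroup.coe_mul, InvMemClass.coe_inv,
      ← hg] at h1
    obtain ⟨w, hw, hweq⟩ := h1
    have h2 : w = g⁻¹ * u * g := by
      refine eq_of_proj_eq p (l := n) (upperU_pow p hw) ?_ (by rw [hweq, map_mul, map_mul, map_inv])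
      have := upperU_conj_pow p (g := g⁻¹) hu
      rwa [inv_inv] at this
    rw [← h2]; exact hw
  have hT := upper_of_normalizes g hn
  obtain ⟨k, hk⟩ := hQ y
  have hz : g ^ p ^ k ∈ Subgroup.center SLn := by
    rw [← proj_eq_one_iff, map_pow, hg, ← SubmonoidClass.coe_pow, hk]; rfl
  obtain ⟨c, -, hc2⟩ := Matrix.SpecialLinearGroup.mem_center_iff.mp hz
  rcases Nat.eq_zero_or_pos n with rfl | hn0
  · exact hy' (by
      rw [← hg, show g = 1 from Subsingleton.elim _ _, map_one]; exact one_mem _)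
  have hdiag : ∀ a m, ((g : Mat) ^ m) a a = (g : Mat) a a ^ m := by
    intro a m
    induction m with
    | zero => simp
    | succ m ih =>
      rw [pow_succ, Matrix.mul_apply, Finset.sum_eq_single a, ih, pow_succ]
      · intro b _ hb
        have hgT : (g : Mat).BlockTriangular id := fun a b h => hT a b h
        rcases lt_or_gt_of_ne hb with h | h
        · rw [hgT.pow m (show id b < id a from h), zero_mul]
        · rw [hgT (show id a < id b from h), mul_zero]
      · simp
  set γ := (g : Mat) ⟨0, hn0⟩ ⟨0, hn0⟩ with hγ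
  have hall : ∀ a, (g : Mat) a a = γ := by
    intro a
    apply iterateFrobenius_inj F p k
    have h1 : ∀ b, (g : Mat) b b ^ p ^ k = c := by
      intro b
      rw [← hdiag, ← Matrix.SpecialLinearGroup.coe_pow, ← hc2]; simp
    rw [iterateFrobenius_def, iterateFrobenius_def, h1, hγ, h1]
  have hγn : γ ^ n = 1 := by
    have h1 := g.det_coe
    rw [Matrix.det_of_upperTriangular (fun a b h => hT a b h)] at h1
    simpa [hall] using h1
  have hγ0 : γ ≠ 0 := by
    intro h; rw [h, zero_pow hn0.ne'] at hγn; exact zero_ne_one hγn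
  obtain ⟨z, hz1⟩ : ∃ z : SLn, (z : Mat) = scalar (Fin n) γ :=
    ⟨⟨scalar (Fin n) γ, by simp [hγn]⟩, rfl⟩
  have hzc : z ∈ Subgroup.center SLn :=
    Matrix.SpecialLinearGroup.mem_center_iff.mpr ⟨γ, by simpa using hγn, hz1.symm⟩
  have hzi : ((z⁻¹ : SLn) : Mat) = scalar (Fin n) γ⁻¹ := by
    rw [← Matrix.inv_eq_right_inv (show (z : Mat) * ((z⁻¹ : SLn) : Mat) = 1 by
      rw [← Matrix.SpecialLinearGroup.coe_mul, mul_inv_cancel]; rfl), Matrix.inv_eq_right_inv]
    rw [hz1, ← map_mul, mul_inv_cancel₀ hγ0, map_one]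
  have hu : z⁻¹ * g ∈ upperU n F := by
    refine mem_upperU.mpr ⟨fun a b h => ?_, fun a => ?_⟩ <;>
      rw [Matrix.SpecialLinearGroup.coe_mul, hzi, Matrix.scalar_apply, Matrix.diagonal_mul]
    · rw [hT a b h, mul_zero]
    · rw [hall, inv_mul_cancel₀ hγ0]
  refine hy' ⟨z⁻¹ * g, hu, ?_⟩
  rw [map_mul, map_inv, (proj_eq_one_iff z).mpr hzc, inv_one, one_mul, hg]

/-- `projL` as a Sylow subgroup. -/
theorem projL_isSylow : ∃ S : Sylow p PSLn, (S : Subgroup PSLn) = projL n F :=
  ⟨(sylU p).mapSurjective (f := (descend (n := n) (F := F) itp).toMonoidHom)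
    (MulEquiv.surjective _), rfl⟩

theorem exists_conj_eq (S : Sylow p PSLn) :
    ∃ g : SLn, (S : Subgroup PSLn) = (projU n F).map (MulAut.conj (proj n F g)).toMonoidHom := by
  obtain ⟨y, hy⟩ := MulAction.exists_smul_eq PSLn (sylU (n := n) (F := F) p) S
  obtain ⟨g, rfl⟩ := proj_surjective y
  exact ⟨g, hy ▸ rfl⟩

theorem mem_conj_iff {g u : SLn} (hu : u ∈ upperU n F)
    (h : proj n F u ∈ (projU n F).map (MulAut.conj (proj n F g)).toMonoidHom) :
    g⁻¹ * u * g ∈ upperU n F := by
  obtain ⟨_, ⟨w, hw, rfl⟩, hwe⟩ := h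
  have h2 : g * w * g⁻¹ = u := eq_of_proj_eq p (upperU_conj_pow p hw) (upperU_pow p hu) (by
    rw [map_mul, map_mul, map_inv]; exact hwe)
  rw [← h2]; simpa [mul_assoc] using hw

/-- Intersections of `projU` with other Sylow subgroups lie in some `projK`. -/
theorem inter_le_projK (S : Sylow p PSLn) (hS : (S : Subgroup PSLn) ≠ projU n F) :
    ∃ (i j : Fin n) (hij : j.val = i.val + 1),
      projU n F ⊓ (S : Subgroup PSLn) ≤ projK i j hij := by
  obtain ⟨g, hg⟩ := exists_conj_eq p S
  by_cases hT : ∀ k j : Fin n, j < k → (g : Mat) k j = 0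
  · exfalso
    apply hS
    have hle : (S : Subgroup PSLn) ≤ projU n F := by
      rw [hg]
      rintro _ ⟨_, ⟨u, hu, rfl⟩, rfl⟩
      exact ⟨g * u * g⁻¹, normalizes_of_upper g hT hu, by simp [MulAut.conj_apply]⟩
    exact (S.is_maximal' (sylU (n := n) (F := F) p).isPGroup' hle).symm
  push Not at hT
  obtain ⟨k, j, hjk, hne⟩ := hT
  obtain ⟨a, b, hab, h⟩ := exists_simpleKer_of_conj g j k hjk hne
  refine ⟨a, b, hab, ?_⟩
  rintro _ ⟨⟨u, hu, rfl⟩, hx⟩
  rw [hg] at hx
  exact ⟨u, h u hu (mem_conj_iff p hu hx), rfl⟩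

omit [Finite F] in
theorem projK_inj {i j i' j' : Fin n} {hij : j.val = i.val + 1} {hij' : j'.val = i'.val + 1}
    (h : projK (F := F) i j hij ≤ projK i' j' hij') : i = i' ∧ j = j' := by
  refine simpleKer_inj (F := F) (hij := hij) (hij' := hij') fun u hu => ?_
  obtain ⟨w, hw, hwe⟩ := h ⟨u, hu, rfl⟩
  rw [← eq_of_proj_eq p (upperU_pow p hw.1) (upperU_pow p hu.1) hwe]
  exact hw

/-- Each `projK` is an intersection of `projU` with another Sylow subgroup. -/
theorem projK_eq_inter (i j : Fin n) (hij : j.val = i.val + 1) :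
    ∃ S : Sylow p PSLn, (S : Subgroup PSLn) ≠ projU n F ∧
      projU n F ⊓ (S : Subgroup PSLn) = projK i j hij := by
  have hne : i ≠ j := fun e => by subst e; omega
  set s := swapElt (F := F) i j hne with hs
  refine ⟨proj n F s • sylU p, ?_⟩
  have hS : ((proj n F s • sylU p : Sylow p PSLn) : Subgroup PSLn) =
      (projU n F).map (MulAut.conj (proj n F s)).toMonoidHom := rfl
  have h1 : ((proj n F s • sylU p : Sylow p PSLn) : Subgroup PSLn) ≠ projU n F := by
    intro h
    have hn : ∀ u ∈ upperU n F, s⁻¹ * u * s ∈ upperU n F := fun u hu =>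
      mem_conj_iff p hu (by rw [← hS, h]; exact ⟨u, hu, rfl⟩)
    have h2 := upper_of_normalizes s hn j i (Fin.lt_def.mpr (by omega))
    rw [hs, swapElt_coe] at h2
    simp [hne, hne.symm] at h2
  have hle : projK i j hij ≤ projU n F ⊓ ((proj n F s • sylU p : Sylow p PSLn) : Subgroup PSLn) := by
    refine le_inf (projK_le i j hij) ?_
    rw [hS]
    rintro _ ⟨u, hu, rfl⟩
    refine ⟨proj n F (s⁻¹ * u * s), ⟨_, simpleKer_conj i j hij hne u hu, rfl⟩, ?_⟩
    simp only [MulEquiv.coe_toMonoidHom, MulAut.conj_apply, map_mul, map_inv]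
    group
  obtain ⟨a, b, hab, h3⟩ := inter_le_projK p _ h1
  obtain ⟨rfl, rfl⟩ := projK_inj p (hle.trans h3)
  exact ⟨h1, le_antisymm h3 hle⟩

/-- An automorphism fixing `projU` permutes the `projK`. -/
theorem map_projK (φ : MulAut PSLn) (hφ : (projU n F).map φ.toMonoidHom = projU n F)
    (i j : Fin n) (hij : j.val = i.val + 1) :
    ∃ (a b : Fin n) (hab : b.val = a.val + 1),
      (projK i j hij).map φ.toMonoidHom = projK a b hab := by
  have step : ∀ (ψ : MulAut PSLn), (projU n F).map ψ.toMonoidHom = projU n F →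
      ∀ (i j : Fin n) (hij : j.val = i.val + 1), ∃ (a b : Fin n) (hab : b.val = a.val + 1),
        (projK i j hij).map ψ.toMonoidHom ≤ projK a b hab := by
    intro ψ hψ i j hij
    obtain ⟨S, hS, hSe⟩ := projK_eq_inter (F := F) p i j hij
    let S' : Sylow p PSLn := S.mapSurjective (f := ψ.toMonoidHom) ψ.surjective
    have hS' : (S' : Subgroup PSLn) ≠ projU n F := by
      intro h
      exact hS (Subgroup.map_injective (f := ψ.toMonoidHom) ψ.injective (h.trans hψ.symm))
    obtain ⟨a, b, hab, h⟩ := inter_le_projK p S' hS'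
    refine ⟨a, b, hab, ?_⟩
    rw [← hSe, Subgroup.map_inf _ _ _ ψ.injective, hψ]
    exact h
  obtain ⟨a, b, hab, h⟩ := step φ hφ i j hij
  have hφ' : (projU n F).map φ.symm.toMonoidHom = projU n F := by
    conv_lhs => rw [← hφ]
    rw [Subgroup.map_map]
    exact (congrArg (fun f => (projU n F).map f) (MonoidHom.ext fun x => φ.symm_apply_apply x)).trans
      (Subgroup.map_id _)
  obtain ⟨c, d, hcd, h'⟩ := step φ.symm hφ' a b hab
  have hback : ∀ H : Subgroup PSLn, (H.map φ.symm.toMonoidHom).map φ.toMonoidHom = H := fun H => by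
    rw [Subgroup.map_map]
    exact (congrArg (fun f => H.map f) (MonoidHom.ext fun x => φ.apply_symm_apply x)).trans
      (Subgroup.map_id _)
  have h2 : projK i j hij ≤ (projK a b hab).map φ.symm.toMonoidHom := by
    intro x hx
    exact ⟨φ x, h ⟨x, hx, rfl⟩, φ.symm_apply_apply x⟩
  obtain ⟨rfl, rfl⟩ := projK_inj p (h2.trans h')
  refine ⟨a, b, hab, le_antisymm h ?_⟩
  rw [← hback (projK a b hab)]
  exact Subgroup.map_mono h'

/-- A Sylow subgroup meeting `projU` trivially is a conjugate of `projL` under `projU`. -/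
theorem exists_conj_projL (S : Sylow p PSLn) (hS : projU n F ⊓ (S : Subgroup PSLn) = ⊥) :
    ∃ u ∈ upperU n F, (S : Subgroup PSLn) = (projL n F).map (MulAut.conj (proj n F u)).toMonoidHom := by
  obtain ⟨g, hg⟩ := exists_conj_eq p S
  obtain ⟨u, hu, hk⟩ := exists_antitriangular g (by
    intro x hx hx'
    refine eq_of_proj_eq p (upperU_pow p hx) (l := 0) (by simp) ?_
    rw [map_one, ← Subgroup.mem_bot, ← hS]
    refine ⟨⟨x, hx, rfl⟩, ?_⟩
    rw [hg]
    exact ⟨proj n F (g⁻¹ * x * g), ⟨_, hx', rfl⟩, by simp [MulAut.conj_apply, mul_assoc]⟩)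
  refine ⟨u, hu, ?_⟩
  obtain ⟨T, hT⟩ := projL_isSylow (n := n) (F := F) p
  have hT' : ((proj n F u • T : Sylow p PSLn) : Subgroup PSLn) =
      (projL n F).map (MulAut.conj (proj n F u)).toMonoidHom := by rw [← hT]; rfl
  have hle : (S : Subgroup PSLn) ≤ (proj n F u • T : Sylow p PSLn) := by
    rw [hT', hg]
    rintro _ ⟨_, ⟨x, hx, rfl⟩, rfl⟩
    set k := u⁻¹ * g with hkdef
    have h1 : itp (k * x * k⁻¹) ∈ upperU n F :=
      mem_itp_upperU.mpr (lower_of_antitriangular k x hk hx)
    refine ⟨proj n F (k * x * k⁻¹), ⟨proj n F (itp (k * x * k⁻¹)), ⟨_, h1, rfl⟩, ?_⟩, ?_⟩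
    · rw [MulEquiv.coe_toMonoidHom, descend_proj, itp_itp]
    · simp [hkdef, MulAut.conj_apply, mul_assoc]
  rw [← hT']
  exact (S.is_maximal' (proj n F u • T).isPGroup' hle).symm

omit [Finite F] in
theorem projU_inf_projL : projU n F ⊓ projL n F = ⊥ := by
  rw [eq_bot_iff]
  rintro _ ⟨⟨x, hx, rfl⟩, ⟨_, ⟨y, hy, rfl⟩, he⟩⟩
  rw [MulEquiv.coe_toMonoidHom, descend_proj] at he
  have h1 : itp y = x := eq_of_proj_eq p (k := n) (by rw [← map_pow, upperU_pow p hy, map_one])
    (upperU_pow p hx) he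
  have h2 : IsUni (x : Mat).transpose := mem_itp_upperU.mp (by rw [← h1, itp_itp]; exact hy)
  have h3 : x = 1 := by
    apply Subtype.ext
    ext a b
    rcases lt_trichotomy a b with h | rfl | h
    · rw [Matrix.SpecialLinearGroup.coe_one, Matrix.one_apply_ne h.ne]
      exact h2.1 b a h
    · rw [Matrix.SpecialLinearGroup.coe_one, Matrix.one_apply_eq]; exact (mem_upperU.mp hx).2 a
    · rw [Matrix.SpecialLinearGroup.coe_one, Matrix.one_apply_ne h.ne']
      exact (mem_upperU.mp hx).1 a b h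
  rw [h3, map_one]; exact one_mem _

end Cfsg.Agent.AutPSL
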