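import Mathlib
import Cfsg.Agent.Lib.AutPSL.Sylow

set_option autoImplicit false

/-!
Simple root subgroups of `PSL_n(F)`: identities between root elements, and their intrinsic
description inside the unitriangular subgroup.
-/

namespace Cfsg.Agent.AutPSL

open Matrix
open scoped commutatorElement

universe u
variable {n : ℕ} {F : Type u} [Field F]

local notation "SLn" => Matrix.SpecialLinearGroup (Fin n) F
local notation "PSLn" => Matrix.ProjectiveSpecialLinearGroup (Fin n) F
local notation "Mat" => Matrix (Fin n) (Fin n) F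

theorem mul_single_mul_apply (M N : Mat) (l k : Fin n) (c : F) (a b : Fin n) :
    (M * Matrix.single l k c * N) a b = M a l * c * N k b := by
  rw [Matrix.mul_apply, Finset.sum_eq_single k]
  · simp
  · intro x _ hx
    simp [hx]
  · simp

theorem mem_lowKer {i j : Fin n} {hij : j.val = i.val + 1} {x : SLn} :
    itp x ∈ simpleKer i j hij ↔ IsUni (x : Mat).transpose ∧ (x : Mat) j i = 0 := by
  rw [← inv_mem_iff, ← map_inv, mem_simpleKer, mem_upperU, itp_apply, inv_inv]
  simp only [Matrix.transpose_apply]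

theorem tv_conj_lowKer (i j : Fin n) (hij : j.val = i.val + 1) (hne : i ≠ j) (t : F) {x : SLn}
    (hx : itp x ∈ simpleKer i j hij) :
    itp (tv i j hne t * x * (tv i j hne t)⁻¹) ∈ simpleKer i j hij := by
  rw [mem_lowKer] at hx ⊢
  obtain ⟨⟨hlow, hdiag⟩, hji⟩ := hx
  simp only [Matrix.transpose_apply] at hlow hdiag
  have hent : ∀ a b, (↑(tv i j hne t * x * (tv i j hne t)⁻¹) : Mat) a b =
      (x : Mat) a b + (if a = i then t * (x : Mat) j b else 0)
        - (if b = j then t * (x : Mat) a i else 0) := by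
    intro a b
    rw [tv_inv, Matrix.SpecialLinearGroup.coe_mul, Matrix.SpecialLinearGroup.coe_mul, tv_coe, tv_coe]
    rw [add_mul, one_mul, mul_add, mul_one, add_mul, ← Matrix.single_neg, mul_neg, mul_neg]
    simp only [Matrix.add_apply, Matrix.neg_apply]
    have h1 : (Matrix.single i j t * (x : Mat)) a b = if a = i then t * (x : Mat) j b else 0 := by
      split_ifs with h
      · subst h; simp
      · simp [h]
    have h2 : ((x : Mat) * Matrix.single i j t) a b = if b = j then t * (x : Mat) a i else 0 := by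
      split_ifs with h
      · subst h; simp [mul_comm]
      · simp [h]
    have h3 : (Matrix.single i j t * (x : Mat) * Matrix.single i j t) a b = 0 := by
      rcases eq_or_ne b j with h' | h'
      · rw [h', Matrix.mul_single_apply_same]
        rcases eq_or_ne a i with h | h
        · rw [h, Matrix.single_mul_apply_same, hji, mul_zero, zero_mul]
        · rw [Matrix.single_mul_apply_of_ne _ _ _ _ _ h, zero_mul]
      · exact Matrix.mul_single_apply_of_ne _ _ _ _ _ h' _
    rw [h1, h2, h3]
    ring
  have hlt : i < j := Fin.lt_def.mpr (by omega)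
  refine ⟨⟨fun r c hcr => ?_, fun a => ?_⟩, ?_⟩
  · rw [Matrix.transpose_apply, hent, hlow r c hcr]
    by_cases hc : c = i <;> by_cases hr : r = j
    · subst hc hr; simp [hdiag]
    · subst hc
      have : j < r := Fin.lt_def.mpr (by
        have := Fin.lt_def.mp hcr
        have : r.val ≠ j.val := fun e => hr (Fin.ext e)
        omega)
      simp [hr, hlow r j this]
    · subst hr
      have : c < i := Fin.lt_def.mpr (by
        have := Fin.lt_def.mp hcr
        have : c.val ≠ i.val := fun e => hc (Fin.ext e)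
        omega)
      simp [hc, hlow i c this]
    · simp [hc, hr]
  · rw [Matrix.transpose_apply, hent, hdiag]
    by_cases h1 : a = i
    · subst h1; simp [hne, hji]
    · by_cases h2 : a = j
      · subst h2; simp [h1, hji]
      · simp [h1, h2]
  · rw [hent, hji]
    simp [hne, hne.symm]

/-- An element of `U` normalising the opposite `simpleKer` is a simple root element. -/
theorem eq_tv_of_normalizes (i j : Fin n) (hij : j.val = i.val + 1) (hne : i ≠ j) {w : SLn}
    (hw : w ∈ upperU n F)
    (h : ∀ x : SLn, itp x ∈ simpleKer i j hij → itp (w * x * w⁻¹) ∈ simpleKer i j hij) :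
    w = tv i j hne ((w : Mat) i j) := by
  have hwu := mem_upperU.mp hw
  have hz : ∀ a l : Fin n, a < l → ¬(a = i ∧ l = j) → (w : Mat) a l = 0 := by
    intro a l hal hne2
    have h0 : ¬ (l = j ∧ a = i) := fun e => hne2 ⟨e.2, e.1⟩
    have hmem : itp (tv l a hal.ne' (1 : F)) ∈ simpleKer i j hij := by
      rw [mem_lowKer, tv_coe]
      refine ⟨?_, ?_⟩
      · rw [Matrix.transpose_add, Matrix.transpose_one, Matrix.transpose_single, ← tv_coe a l hal.ne]
        exact mem_upperU.mp (tv_mem_upperU a l hal 1)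
      · simp [Matrix.single_apply, hne.symm, h0]
    have h1 := ((mem_lowKer.mp (h _ hmem)).1).2 a
    rw [Matrix.transpose_apply, Matrix.SpecialLinearGroup.coe_mul,
      Matrix.SpecialLinearGroup.coe_mul, tv_coe, mul_add, mul_one, add_mul, Matrix.add_apply,
      ← Matrix.SpecialLinearGroup.coe_mul, mul_inv_cancel, Matrix.SpecialLinearGroup.coe_one,
      Matrix.one_apply_eq, mul_single_mul_apply, (mem_upperU.mp (inv_mem hw)).2, mul_one,
      mul_one] at h1
    exact add_eq_left.mp h1
  apply Subtype.ext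
  ext a b
  rw [tv_coe, Matrix.add_apply]
  rcases lt_trichotomy a b with hab | rfl | hab
  · rw [Matrix.one_apply_ne hab.ne, zero_add]
    by_cases he : a = i ∧ b = j
    · obtain ⟨rfl, rfl⟩ := he; simp
    · rw [hz a b hab he, Matrix.single_apply, if_neg fun e => he ⟨e.1.symm, e.2.symm⟩]
  · rw [hwu.2, Matrix.one_apply_eq, Matrix.single_apply,
      if_neg fun e => hne (e.1.trans e.2.symm), add_zero]
  · rw [hwu.1 a b hab, Matrix.one_apply_ne hab.ne', Matrix.single_apply, if_neg fun e => ?_,
      add_zero]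
    have := Fin.lt_def.mp hab
    rw [← e.1, ← e.2] at this
    omega

section CharP

variable (p : ℕ) [Fact p.Prime] [CharP F p]

include p

omit [Field F] [Fact p.Prime] in
theorem pow_one_eq {G : Type*} [Monoid G] {x : G} (h : x ^ p = 1) : x ^ p ^ 1 = 1 := by
  rwa [pow_one]

/-- Intrinsic description of the image of a simple root subgroup. -/
theorem exists_eq_proj_tv (i j : Fin n) (hij : j.val = i.val + 1) (hne : i ≠ j) {y : PSLn}
    (hy : y ∈ projU n F)
    (h : ∀ z ∈ projK' (F := F) i j hij, y * z * y⁻¹ ∈ projK' (F := F) i j hij) :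
    ∃ t : F, y = proj n F (tv i j hne t) := by
  obtain ⟨w, hw, rfl⟩ := hy
  refine ⟨(w : Mat) i j, congrArg _ (eq_tv_of_normalizes i j hij hne hw fun x hx => ?_)⟩
  have hz : proj n F x ∈ projK' (F := F) i j hij :=
    ⟨proj n F (itp x), ⟨itp x, hx, rfl⟩, by rw [MulEquiv.coe_toMonoidHom, descend_proj, itp_itp]⟩
  obtain ⟨_, ⟨x', hx', rfl⟩, he⟩ := h _ hz
  rw [MulEquiv.coe_toMonoidHom, descend_proj, ← map_inv, ← map_mul, ← map_mul] at he
  have hx0 : x ^ p ^ n = 1 := itp.injective (by rw [map_pow, upperU_pow p hx.1, map_one])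
  have hc : (w * x * w⁻¹) ^ p ^ n = 1 := by
    rw [conj_pow, hx0, mul_one, mul_inv_cancel]
  have he' : itp x' = w * x * w⁻¹ :=
    eq_of_proj_eq p (by rw [← map_pow, upperU_pow p hx'.1, map_one]) hc he
  rw [← he', itp_itp]
  exact hx'

omit [Fact p.Prime] [CharP F p] p in
theorem conj_mem_projK' (i j : Fin n) (hij : j.val = i.val + 1) (hne : i ≠ j) (t : F) :
    ∀ z ∈ projK' (F := F) i j hij,
      proj n F (tv i j hne t) * z * (proj n F (tv i j hne t))⁻¹ ∈ projK' (F := F) i j hij := by
  rintro _ ⟨_, ⟨x, hx, rfl⟩, rfl⟩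
  rw [MulEquiv.coe_toMonoidHom, descend_proj, ← map_inv, ← map_mul, ← map_mul]
  refine ⟨_, ⟨_, tv_conj_lowKer i j hij hne t (x := itp x) (by rwa [itp_itp]), rfl⟩, ?_⟩
  rw [MulEquiv.coe_toMonoidHom, descend_proj, itp_itp]

theorem proj_tv_inj {i j : Fin n} (h : i ≠ j) {a b : F}
    (e : proj n F (tv i j h a) = proj n F (tv i j h b)) : a = b :=
  tv_inj i j h (eq_of_proj_eq p (pow_one_eq p (tv_pow p i j h a))
    (pow_one_eq p (tv_pow p i j h b)) e)

theorem proj_tv_eq_one {i j : Fin n} (h : i ≠ j) {a : F} (e : proj n F (tv i j h a) = 1) :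
    a = 0 :=
  proj_tv_inj p h (e.trans (by rw [tv_zero, map_one]))

omit [Fact p.Prime] [CharP F p] p in
theorem tv_commute {a b c d : Fin n} (hab : a ≠ b) (hcd : c ≠ d) (hbc : b ≠ c) (hda : d ≠ a)
    (t s : F) : Commute (tv a b hab t) (tv c d hcd s) := by
  apply Subtype.ext
  simp [tv_coe, mul_add, add_mul, Matrix.single_mul_single_of_ne, hbc, hda]
  abel

theorem not_commute_proj_tv {a b d : Fin n} (hab : a ≠ b) (hbd : b ≠ d) (t s : F) (ht : t ≠ 0)
    (hs : s ≠ 0) : ¬ Commute (proj n F (tv a b hab t)) (proj n F (tv b d hbd s)) := by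
  intro h
  have h1 : proj n F (tv a b hab t * tv b d hbd s * (tv a b hab t)⁻¹) =
      proj n F (tv b d hbd s) := by
    rw [map_mul, map_mul, map_inv, h.eq, mul_inv_cancel_right]
  have h2 := eq_of_proj_eq p (k := 1) (l := 1)
    (by rw [conj_pow, pow_one, tv_pow p, mul_one, mul_inv_cancel]) (pow_one_eq p (tv_pow p b d hbd s)) h1
  rw [mul_inv_eq_iff_eq_mul] at h2
  have h3 := congrArg (fun g : SLn => (g : Mat) a d) h2
  simp [tv_coe, mul_add, add_mul, Matrix.single_mul_single_same, Matrix.single_apply, hab,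
    hab.symm, hbd, hbd.symm] at h3
  rcases eq_or_ne a d with rfl | had
  · simp [hab, hab.symm, ht, hs] at h3
  · simp [had, had.symm, ht, hs] at h3

/-- If `x(t) y(u) x(t) = y(u) x(t) y(u)` in `PSL_n` then `t u = -1`. -/
theorem mul_eq_neg_one {i j : Fin n} (hij : i ≠ j) {t u : F} (ht : t ≠ 0)
    (h : proj n F (tv i j hij t * tv j i hij.symm u * tv i j hij t) =
      proj n F (tv j i hij.symm u * tv i j hij t * tv j i hij.symm u)) : t * u = -1 := by
  set X := tv i j hij t * tv j i hij.symm u * tv i j hij t with hX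
  set Y := tv j i hij.symm u * tv i j hij t * tv j i hij.symm u with hY
  have hc : Y⁻¹ * X ∈ Subgroup.center SLn := by
    rw [← proj_eq_one_iff, map_mul, map_inv, h, inv_mul_cancel]
  obtain ⟨c, -, hc2⟩ := Matrix.SpecialLinearGroup.mem_center_iff.mp hc
  have he : (X : Mat) = c • (Y : Mat) := by
    have : (X : Mat) = (Y : Mat) * ((Y⁻¹ * X : SLn) : Mat) := by
      rw [← Matrix.SpecialLinearGroup.coe_mul, mul_inv_cancel_left]
    rw [this, ← hc2, Matrix.scalar_apply]
    ext a b
    rw [Matrix.mul_diagonal, Matrix.smul_apply, smul_eq_mul, mul_comm]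
  have e1 := congrFun (congrFun he i) i
  have e2 := congrFun (congrFun he i) j
  simp [hX, hY, tv_coe, mul_add, add_mul, Matrix.single_mul_single_same,
    Matrix.single_mul_single_of_ne, Matrix.single_apply, hij, hij.symm] at e1 e2
  have e3 : (1 + t * u) * (1 - c) = 0 := by linear_combination e1
  rcases mul_eq_zero.mp e3 with h4 | h4
  · linear_combination h4
  · have hc1 : c = 1 := by linear_combination -h4
    subst hc1
    have : t * (1 + t * u) = 0 := by linear_combination e2
    linear_combination (mul_eq_zero.mp this).resolve_left ht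

end CharP

theorem xyx_eq {i j : Fin n} (hij : i ≠ j) (t : F) (ht : t ≠ 0) :
    tv i j hij t * tv j i hij.symm (-t⁻¹) * tv i j hij t =
      tv j i hij.symm (-t⁻¹) * tv i j hij t * tv j i hij.symm (-t⁻¹) := by
  apply Subtype.ext
  simp only [Matrix.SpecialLinearGroup.coe_mul, tv_coe, mul_add, add_mul, one_mul, mul_one,
    Matrix.single_mul_single_same, Matrix.single_mul_single_of_ne, ne_eq, hij, hij.symm,
    not_false_eq_true, zero_mul, add_zero, zero_add]
  ext a b
  simp only [Matrix.add_apply, Matrix.single_apply]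
  split_ifs <;> field_simp <;> ring

theorem weyl_conj {i j : Fin n} (hij : i ≠ j) (t u : F) (ht : t ≠ 0) :
    tv i j hij t * tv j i hij.symm (-t⁻¹) * tv i j hij t * tv j i hij.symm u =
      tv i j hij (-(t ^ 2 * u)) * (tv i j hij t * tv j i hij.symm (-t⁻¹) * tv i j hij t) := by
  apply Subtype.ext
  simp only [Matrix.SpecialLinearGroup.coe_mul, tv_coe, mul_add, add_mul, one_mul, mul_one,
    Matrix.single_mul_single_same, Matrix.single_mul_single_of_ne, ne_eq, hij, hij.symm,
    not_false_eq_true, zero_mul, add_zero, zero_add]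
  ext a b
  simp only [Matrix.add_apply, Matrix.single_apply]
  split_ifs <;> field_simp <;> ring

theorem tv_commutator {i j k : Fin n} (hik : i ≠ k) (hkj : k ≠ j) (hij : i ≠ j) (a b : F) :
    ⁅tv i k hik a, tv k j hkj b⁆ = tv i j hij (a * b) :=
  LinGrp.commutator_transvection hik hkj hij a b

end Cfsg.Agent.AutPSL
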