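import Mathlib
import Cfsg.Agent.Lib.AutPSL.Roots

set_option autoImplicit false

/-!
Every automorphism of `PSL_n(F)`, `F` a finite field, is a product of a conjugation by an element of
`GL_n(F)`, a field automorphism and possibly the inverse transpose.
-/

namespace Cfsg.Agent.AutPSL

open Matrix
open scoped commutatorElement

universe u
variable {F : Type u} [Field F]

section General

variable {n : ℕ}

local notation "SLn" => Matrix.SpecialLinearGroup (Fin n) F
local notation "PSLn" => Matrix.ProjectiveSpecialLinearGroup (Fin n) F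
local notation "Mat" => Matrix (Fin n) (Fin n) F

/-- `itp` or the identity. -/
def gpart (ε : Bool) : MulAut SLn := if ε then itp else 1

theorem gpart_mul_gpart (a b : Bool) : (gpart a * gpart b : MulAut SLn) = gpart (xor a b) := by
  cases a <;> cases b <;> simp [gpart, itp_mul_itp]

theorem gpart_mul_cj (a : Bool) (h : GL (Fin n) F) :
    (gpart a * cj h : MulAut SLn) = cj (if a then glItp h else h) * gpart a := by
  cases a <;> simp [gpart, itp_mul_cj]

theorem gpart_mul_fld (a : Bool) (σ : F ≃+* F) :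
    (gpart a * fld σ : MulAut SLn) = fld σ * gpart a := by
  cases a <;> simp [gpart, fld_mul_itp]

theorem nf_mul (g h : GL (Fin n) F) (σ τ : F ≃+* F) (a b : Bool) :
    (cj g * fld σ * gpart a) * (cj h * fld τ * gpart b) =
      cj (g * Matrix.GeneralLinearGroup.map (σ : F →+* F) (if a then glItp h else h)) *
        fld (τ.trans σ) * (gpart (xor a b) : MulAut SLn) := by
  rw [map_mul, ← fld_mul, ← gpart_mul_gpart]
  simp only [← mul_assoc]
  rw [mul_assoc (cj g * fld σ) (gpart a) (cj h), gpart_mul_cj, ← mul_assoc,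
    mul_assoc (cj g) (fld σ), fld_mul_cj, ← mul_assoc,
    mul_assoc _ (gpart a) (fld τ), gpart_mul_fld, ← mul_assoc]

theorem nf_inv (g : GL (Fin n) F) (σ : F ≃+* F) (a : Bool) :
    (cj g * fld σ * gpart a : MulAut SLn)⁻¹ = gpart a * fld σ.symm * cj g⁻¹ := by
  rw [_root_.mul_inv_rev, _root_.mul_inv_rev, map_inv, ← mul_assoc]
  congr 1
  congr 1
  rw [inv_eq_iff_mul_eq_one, gpart_mul_gpart, Bool.xor_self]; rfl

/-- The group of products of the standard automorphisms. -/
def stdSub (n : ℕ) (F : Type u) [Field F] :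
    Subgroup (MulAut (Matrix.ProjectiveSpecialLinearGroup (Fin n) F)) where
  carrier := {φ | ∃ (g : GL (Fin n) F) (σ : F ≃+* F) (ε : Bool),
    φ = descend (cj g * fld σ * gpart ε)}
  one_mem' := ⟨1, RingEquiv.refl F, false, by rw [map_one, fld_one]; simp [gpart]⟩
  mul_mem' := by
    rintro _ _ ⟨g, σ, a, rfl⟩ ⟨h, τ, b, rfl⟩
    exact ⟨_, _, _, by rw [← map_mul, nf_mul]⟩
  inv_mem' := by
    rintro _ ⟨g, σ, a, rfl⟩
    refine ⟨Matrix.GeneralLinearGroup.map (σ.symm : F →+* F) (if a then glItp g⁻¹ else g⁻¹),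
      σ.symm, a, ?_⟩
    rw [← map_inv, nf_inv, gpart_mul_fld, mul_assoc, gpart_mul_cj, ← mul_assoc, fld_mul_cj]

theorem descend_cj_mem (g : GL (Fin n) F) : descend (cj g) ∈ stdSub n F :=
  ⟨g, RingEquiv.refl F, false, by simp [gpart, fld_one]⟩

theorem descend_fld_mem (σ : F ≃+* F) : descend (fld σ) ∈ stdSub n F :=
  ⟨1, σ, false, by simp [gpart]⟩

theorem descend_itp_mem : descend (itp : MulAut SLn) ∈ stdSub n F :=
  ⟨1, RingEquiv.refl F, true, by simp [gpart, fld_one]⟩

theorem conj_mem_stdSub (x : PSLn) : MulAut.conj x ∈ stdSub n F := by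
  obtain ⟨s, rfl⟩ := proj_surjective x
  rw [← descend_conj, ← cj_toGL]
  exact descend_cj_mem _

section Adjust

variable (p : ℕ) [Fact p.Prime] [CharP F p] [Finite F]
include p

/-- Up to an inner automorphism an automorphism fixes `U` and the opposite of `U`. -/
theorem exists_fix_projU_projL (φ : MulAut PSLn) : ∃ x : PSLn,
    (projU n F).map (MulAut.conj x * φ).toMonoidHom = projU n F ∧
      (projL n F).map (MulAut.conj x * φ).toMonoidHom = projL n F := by
  have hcomp : ∀ (a b : MulAut PSLn) (H : Subgroup PSLn),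
      H.map (a * b).toMonoidHom = (H.map b.toMonoidHom).map a.toMonoidHom := fun a b H => by
    rw [Subgroup.map_map]; rfl
  have hone : ∀ H : Subgroup PSLn, H.map (1 : MulAut PSLn).toMonoidHom = H := fun H =>
    Subgroup.map_id H
  let S : Sylow p PSLn := (sylU (n := n) (F := F) p).mapSurjective (f := φ.toMonoidHom) φ.surjective
  obtain ⟨g, hg⟩ := exists_conj_eq p S
  have hS : (projU n F).map φ.toMonoidHom = (projU n F).map (MulAut.conj (proj n F g)).toMonoidHom := hg
  set y := (proj n F g)⁻¹ with hy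
  have hU : (projU n F).map (MulAut.conj y * φ).toMonoidHom = projU n F := by
    rw [hcomp, hS, ← hcomp, hy, ← map_mul, inv_mul_cancel, map_one, hone]
  obtain ⟨T, hT⟩ := projL_isSylow (n := n) (F := F) p
  let T' : Sylow p PSLn :=
    T.mapSurjective (f := (MulAut.conj y * φ).toMonoidHom) (MulAut.conj y * φ).surjective
  have hT' : (T' : Subgroup PSLn) = (projL n F).map (MulAut.conj y * φ).toMonoidHom := by
    rw [← hT]; rfl
  obtain ⟨u, hu, hue⟩ := exists_conj_projL p T' (by
    rw [hT']
    conv_lhs => arg 1; rw [← hU]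
    rw [← Subgroup.map_inf _ _ _ (MulAut.conj y * φ).injective, projU_inf_projL p, Subgroup.map_bot])
  refine ⟨(proj n F u)⁻¹ * y, ?_, ?_⟩
  · rw [map_mul, mul_assoc, hcomp, hU]
    refine le_antisymm ?_ ?_
    · rintro _ ⟨z, hz, rfl⟩
      have hu' : proj n F u ∈ projU n F := ⟨u, hu, rfl⟩
      simpa [MulAut.conj_apply] using mul_mem (mul_mem (inv_mem hu') hz) hu'
    · intro z hz
      have hu' : proj n F u ∈ projU n F := ⟨u, hu, rfl⟩
      exact ⟨proj n F u * z * (proj n F u)⁻¹, mul_mem (mul_mem hu' hz) (inv_mem hu'),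
        by simp [MulAut.conj_apply, mul_assoc]⟩
  · rw [map_mul, mul_assoc, hcomp, ← hT', hue, ← hcomp, ← map_mul, inv_mul_cancel, map_one, hone]

end Adjust

end General

section Simple

variable {m : ℕ}

local notation "SLn" => Matrix.SpecialLinearGroup (Fin (m + 1)) F
local notation "PSLn" => Matrix.ProjectiveSpecialLinearGroup (Fin (m + 1)) F

/-- A positive simple root element. -/
def xs (k : Fin m) (t : F) : PSLn :=
  proj (m + 1) F (tv k.castSucc k.succ (Fin.castSucc_lt_succ).ne t)

/-- A negative simple root element. -/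
def ys (k : Fin m) (t : F) : PSLn :=
  proj (m + 1) F (tv k.succ k.castSucc (Fin.castSucc_lt_succ).ne' t)

theorem xs_add (k : Fin m) (a b : F) : xs k (a + b) = xs k a * xs k b := by
  rw [xs, xs, xs, ← map_mul, tv_mul]

theorem ys_add (k : Fin m) (a b : F) : ys k (a + b) = ys k a * ys k b := by
  rw [ys, ys, ys, ← map_mul, tv_mul]

theorem descend_itp_xs (k : Fin m) (t : F) :
    descend (itp : MulAut SLn) (xs k t) = ys k (-t) := by
  rw [xs, ys, descend_proj, itp_tv]

theorem descend_itp_ys (k : Fin m) (t : F) :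
    descend (itp : MulAut SLn) (ys k t) = xs k (-t) := by
  rw [xs, ys, descend_proj, itp_tv]

theorem descend_itp_itp (x : PSLn) :
    descend (itp : MulAut SLn) (descend (itp : MulAut SLn) x) = x := by
  rw [← MulAut.mul_apply, ← map_mul, itp_mul_itp, map_one, MulAut.one_apply]

variable (p : ℕ) [Fact p.Prime] [CharP F p]
include p

theorem xs_inj (k : Fin m) {a b : F} (h : xs k a = xs k b) : a = b := proj_tv_inj p _ h

theorem ys_inj (k : Fin m) {a b : F} (h : ys k a = ys k b) : a = b := proj_tv_inj p _ h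

theorem commute_xs_ys_iff (k l : Fin m) :
    Commute (xs (F := F) k 1) (ys l 1) ↔ k ≠ l := by
  constructor
  · rintro h rfl
    exact not_commute_proj_tv p _ _ 1 1 one_ne_zero one_ne_zero h
  · intro h
    exact (tv_commute _ _ (fun e => h (Fin.succ_injective _ e))
      (fun e => h (Fin.castSucc_injective _ e).symm) 1 1).map (proj (m + 1) F)

theorem not_commute_xs_xs_iff {k l : Fin m} (hkl : k ≠ l) {a b : F} (ha : a ≠ 0) (hb : b ≠ 0) :
    ¬ Commute (xs k a) (xs l b) ↔ (k.val + 1 = l.val ∨ l.val + 1 = k.val) := by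
  constructor
  · intro h
    by_contra hc
    push Not at hc
    refine h ((tv_commute _ _ (fun e => ?_) (fun e => ?_) a b).map (proj (m + 1) F))
    · exact hc.1 (by simpa [Fin.ext_iff] using e)
    · exact hc.2 (by simpa [Fin.ext_iff] using e)
  · have key : ∀ {k l : Fin m}, k.val + 1 = l.val → ∀ {a b : F}, a ≠ 0 → b ≠ 0 →
        ¬ Commute (xs k a) (xs l b) := by
      intro k l h a b ha hb
      have e : k.succ = l.castSucc := Fin.ext (by simpa using h)
      unfold xs
      simp only [← e]
      exact not_commute_proj_tv p _ _ a b ha hb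
    rintro (h | h)
    · exact key h ha hb
    · exact fun hc => key h hb ha hc.symm

variable [Finite F]

/-- An automorphism fixing `U` and its opposite permutes the simple root subgroups. -/
theorem exists_xs_image (φ : MulAut PSLn) (hU : (projU (m + 1) F).map φ.toMonoidHom = projU (m + 1) F)
    (hL : (projL (m + 1) F).map φ.toMonoidHom = projL (m + 1) F) (k : Fin m) :
    ∃ k' : Fin m, ∀ t : F, ∃ t' : F, φ (xs k t) = xs k' t' := by
  set I := descend (itp : MulAut SLn) with hI
  have hsq : ∀ H : Subgroup PSLn, (H.map I.toMonoidHom).map I.toMonoidHom = H := fun H => by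
    rw [Subgroup.map_map]
    exact (congrArg (fun f => H.map f) (MonoidHom.ext fun x => descend_itp_itp x)).trans
      (Subgroup.map_id H)
  have hcomp : ∀ (a b : MulAut PSLn) (H : Subgroup PSLn),
      H.map (a * b).toMonoidHom = (H.map b.toMonoidHom).map a.toMonoidHom := fun a b H => by
    rw [Subgroup.map_map]; rfl
  have hψ : (projU (m + 1) F).map (I * φ * I).toMonoidHom = projU (m + 1) F := by
    rw [hcomp, hcomp]
    change ((projL (m + 1) F).map φ.toMonoidHom).map I.toMonoidHom = _
    rw [hL]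
    exact hsq _
  have hij : k.succ.val = k.castSucc.val + 1 := by simp
  obtain ⟨a, b, hab, hK⟩ := map_projK p (I * φ * I) hψ k.castSucc k.succ hij
  have ha : a.val < m := by have := b.isLt; omega
  refine ⟨⟨a.val, ha⟩, fun t => ?_⟩
  have hca : (⟨a.val, ha⟩ : Fin m).castSucc = a := Fin.ext rfl
  have hcb : (⟨a.val, ha⟩ : Fin m).succ = b := Fin.ext (by simp [hab])
  have hK' : (projK' k.castSucc k.succ hij).map φ.toMonoidHom = projK' (F := F) a b hab := by
    unfold projK'
    rw [← hK, hcomp, hcomp]
    exact (hsq _).symm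
  have hlt : a < b := Fin.lt_def.mpr (by omega)
  obtain ⟨t', ht'⟩ := exists_eq_proj_tv p a b hab hlt.ne (y := φ (xs k t)) (by
    rw [← hU]
    exact ⟨_, ⟨_, tv_mem_upperU _ _ Fin.castSucc_lt_succ t, rfl⟩, rfl⟩) (by
    intro z hz
    rw [← hK'] at hz ⊢
    obtain ⟨w, hw, rfl⟩ := hz
    exact ⟨_, conj_mem_projK' _ _ hij Fin.castSucc_lt_succ.ne t w hw, by simp [xs]⟩)
  exact ⟨t', by rw [ht', xs]; simp only [hca, hcb]⟩

/-- Coordinates of an automorphism fixing `U` and its opposite on simple root elements. -/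
theorem exists_root_maps (φ : MulAut PSLn)
    (hU : (projU (m + 1) F).map φ.toMonoidHom = projU (m + 1) F)
    (hL : (projL (m + 1) F).map φ.toMonoidHom = projL (m + 1) F) :
    ∃ π : Fin m → Fin m, Function.Injective π ∧
      (∀ k l : Fin m, k.val + 1 = l.val → (π k).val + 1 = (π l).val ∨ (π l).val + 1 = (π k).val) ∧
      ∃ f g : Fin m → F → F,
        (∀ k t, φ (xs k t) = xs (π k) (f k t)) ∧ (∀ k t, φ (ys k t) = ys (π k) (g k t)) := by
  set I := descend (itp : MulAut SLn) with hI
  have hcomp : ∀ (a b : MulAut PSLn) (H : Subgroup PSLn),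
      H.map (a * b).toMonoidHom = (H.map b.toMonoidHom).map a.toMonoidHom := fun a b H => by
    rw [Subgroup.map_map]; rfl
  have hIL : (projL (m + 1) F).map I.toMonoidHom = projU (m + 1) F := by
    unfold projL
    rw [Subgroup.map_map]
    exact (congrArg (fun f => (projU (m + 1) F).map f)
      (MonoidHom.ext fun x => descend_itp_itp x)).trans (Subgroup.map_id _)
  have hU' : (projU (m + 1) F).map (I * φ * I).toMonoidHom = projU (m + 1) F := by
    rw [hcomp, hcomp]
    change ((projL (m + 1) F).map φ.toMonoidHom).map I.toMonoidHom = _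
    rw [hL, hIL]
  have hL' : (projL (m + 1) F).map (I * φ * I).toMonoidHom = projL (m + 1) F := by
    rw [hcomp, hcomp, hIL, hU]
    rfl
  choose π hπ using exists_xs_image p φ hU hL
  choose f hf using hπ
  choose π' hπ' using exists_xs_image p (I * φ * I) hU' hL'
  choose f' hf' using hπ'
  have hg : ∀ k t, φ (ys k t) = ys (π' k) (-(f' k (-t))) := by
    intro k t
    have h1 := hf' k (-t)
    rw [MulAut.mul_apply, MulAut.mul_apply, hI, descend_itp_xs, neg_neg] at h1
    rw [← descend_itp_itp (φ (ys k t)), h1, descend_itp_xs]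
  have hf0 : ∀ k, f k 1 ≠ 0 := by
    intro k h
    have h1 : φ (xs k (1 : F)) = φ (xs k 0) := by
      rw [hf k 1, h, xs, tv_zero, map_one, xs, tv_zero, map_one, map_one]
    exact one_ne_zero (xs_inj p k (φ.injective h1))
  have hinj : Function.Injective π := by
    intro k l hkl
    have hfi : Function.Injective (f k) := fun a b h =>
      xs_inj p k (φ.injective (by rw [hf, hf, h]))
    obtain ⟨t, ht⟩ := (Finite.injective_iff_surjective.mp hfi) (f l 1)
    have h1 : xs k t = xs l (1 : F) := φ.injective (by rw [hf, hf, ht, hkl])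
    by_contra hne
    exact (commute_xs_ys_iff p l l).mp (by
      rw [← h1]
      exact (tv_commute _ _ (fun e => hne (Fin.succ_injective _ e))
        (fun e => hne (Fin.castSucc_injective _ e).symm) t 1).map (proj (m + 1) F)) rfl
  have hπ' : ∀ k, π' k = π k := by
    intro k
    by_contra hne
    have hc : ¬ Commute (φ (xs k (1 : F))) (φ (ys k 1)) := fun h =>
      (commute_xs_ys_iff p k k).mp (h.of_map φ.injective) rfl
    rw [hf, hg] at hc
    exact hc ((tv_commute _ _ (fun e => hne (Fin.succ_injective _ e).symm)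
      (fun e => hne (Fin.castSucc_injective _ e)) _ _).map (proj (m + 1) F))
  refine ⟨π, hinj, fun k l hkl => ?_, f, fun k t => -(f' k (-t)), hf,
    fun k t => by rw [hg, hπ']⟩
  have hne : k ≠ l := fun e => by subst e; omega
  refine (not_commute_xs_xs_iff p (fun e => hne (hinj e)) (hf0 k) (hf0 l)).mp fun h => ?_
  refine (not_commute_xs_xs_iff (F := F) p hne (a := 1) (b := 1) one_ne_zero one_ne_zero).mpr (Or.inl hkl) ?_
  exact Commute.of_map (f := φ) φ.injective (by rwa [hf, hf])

omit [Fact p.Prime] [CharP F p] [Finite F] [Field F] p in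
theorem id_or_rev (π : Fin m → Fin m) (hinj : Function.Injective π)
    (hadj : ∀ k l : Fin m, k.val + 1 = l.val →
      (π k).val + 1 = (π l).val ∨ (π l).val + 1 = (π k).val) :
    (∀ k, π k = k) ∨ (∀ k, π k = k.rev) := by
  by_cases hm : m < 2
  · left; intro k; apply Fin.ext
    have := k.isLt; have := (π k).isLt; omega
  have h0 : 0 < m := by omega
  have h1 : 1 < m := by omega
  rcases hadj ⟨0, h0⟩ ⟨1, h1⟩ rfl with hd | hd
  · left
    have step : ∀ j : ℕ, ∀ hj : j + 1 < m,
        (π ⟨j, by omega⟩).val = (π ⟨0, h0⟩).val + j ∧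
        (π ⟨j + 1, hj⟩).val = (π ⟨0, h0⟩).val + (j + 1) := by
      intro j
      induction j with
      | zero => intro hj; exact ⟨by simp, by simpa using hd.symm⟩
      | succ j ih =>
        intro hj
        obtain ⟨a, b⟩ := ih (by omega)
        refine ⟨b, ?_⟩
        rcases hadj ⟨j + 1, by omega⟩ ⟨j + 1 + 1, hj⟩ rfl with h | h
        · omega
        · exfalso
          have : π ⟨j + 1 + 1, hj⟩ = π ⟨j, by omega⟩ := Fin.ext (by omega)
          exact absurd (congrArg Fin.val (hinj this)) (by simp; omega)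
    have hz : (π ⟨0, h0⟩).val = 0 := by
      have := (step (m - 2) (by omega)).2
      have := (π ⟨m - 2 + 1, by omega⟩).isLt
      omega
    intro k
    apply Fin.ext
    by_cases hk : k.val + 1 < m
    · have := (step k.val hk).1; simp only [Fin.eta] at this; omega
    · have := (step (m - 2) (by omega)).2
      have e : (⟨m - 2 + 1, by omega⟩ : Fin m) = k := Fin.ext (by have := k.isLt; simp; omega)
      rw [e] at this
      have := k.isLt
      omega
  · right
    have step : ∀ j : ℕ, ∀ hj : j + 1 < m,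
        (π ⟨j, by omega⟩).val + j = (π ⟨0, h0⟩).val ∧
        (π ⟨j + 1, hj⟩).val + (j + 1) = (π ⟨0, h0⟩).val := by
      intro j
      induction j with
      | zero => intro hj; exact ⟨by simp, by simpa using hd⟩
      | succ j ih =>
        intro hj
        obtain ⟨a, b⟩ := ih (by omega)
        refine ⟨b, ?_⟩
        rcases hadj ⟨j + 1, by omega⟩ ⟨j + 1 + 1, hj⟩ rfl with h | h
        · exfalso
          have : π ⟨j + 1 + 1, hj⟩ = π ⟨j, by omega⟩ := Fin.ext (by omega)
          exact absurd (congrArg Fin.val (hinj this)) (by simp; omega)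
        · omega
    have hz : (π ⟨0, h0⟩).val = m - 1 := by
      have := (step (m - 2) (by omega)).2
      have := (π ⟨0, h0⟩).isLt
      omega
    intro k
    apply Fin.ext
    rw [Fin.val_rev]
    by_cases hk : k.val + 1 < m
    · have := (step k.val hk).1; simp only [Fin.eta] at this; omega
    · have := (step (m - 2) (by omega)).2
      have e : (⟨m - 2 + 1, by omega⟩ : Fin m) = k := Fin.ext (by have := k.isLt; simp; omega)
      rw [e] at this
      have := k.isLt
      omega

omit [Fact p.Prime] [CharP F p] [Finite F] p in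
/-- The graph automorphism preserving `U`. -/
theorem exists_graph : ∃ R ∈ stdSub (m + 1) F,
    (∀ (k : Fin m) (t : F), R (xs k t) = xs k.rev (-t)) ∧
      ∀ (k : Fin m) (t : F), R (ys k t) = ys k.rev (-t) := by
  classical
  have hrr : (Fin.revPerm * Fin.revPerm : Equiv.Perm (Fin (m + 1))) = 1 :=
    Equiv.ext fun x => Fin.rev_rev x
  have hre : ∀ x y : Fin (m + 1), x = y.rev ↔ y = x.rev := fun x y =>
    ⟨fun e => by rw [e, Fin.rev_rev], fun e => by rw [e, Fin.rev_rev]⟩
  let P : GL (Fin (m + 1)) F :=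
    { val := Equiv.Perm.permMatrix F (Fin.revPerm (n := m + 1))
      inv := Equiv.Perm.permMatrix F (Fin.revPerm (n := m + 1))
      val_inv := by rw [← Matrix.permMatrix_mul, hrr, Matrix.permMatrix_one]
      inv_val := by rw [← Matrix.permMatrix_mul, hrr, Matrix.permMatrix_one] }
  have hP : ∀ (i j : Fin (m + 1)) (h : i ≠ j) (a : F),
      cj P (tv i j h a) = tv i.rev j.rev (fun e => h (Fin.rev_injective e)) a := by
    intro i j h a
    apply Subtype.ext
    rw [cj_apply, tv_coe, tv_coe]
    ext r s
    simp [P, Equiv.Perm.permMatrix, PEquiv.toMatrix_toPEquiv_mul, PEquiv.mul_toMatrix_toPEquiv,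
      Matrix.one_apply, Matrix.single_apply, Fin.rev_inj, hre r, hre s, eq_comm]
  refine ⟨descend (cj P * itp), ?_, fun k t => ?_, fun k t => ?_⟩
  · rw [map_mul]; exact mul_mem (descend_cj_mem _) descend_itp_mem
  · rw [xs, xs, descend_proj, MulAut.mul_apply, itp_tv, hP]
    simp only [Fin.rev_succ, Fin.rev_castSucc]
  · rw [ys, ys, descend_proj, MulAut.mul_apply, itp_tv, hP]
    simp only [Fin.rev_succ, Fin.rev_castSucc]

omit [Finite F] in
/-- The functions on a single pair of opposite simple roots. -/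
theorem root_relation (φ : MulAut PSLn) (k : Fin m) (f g : F → F)
    (hf : ∀ t, φ (xs k t) = xs k (f t)) (hg : ∀ t, φ (ys k t) = ys k (g t)) :
    (∀ a b, f (a + b) = f a + f b) ∧ f 0 = 0 ∧ (∀ t, t ≠ 0 → f t * g (-t⁻¹) = -1) ∧
      ∀ t u, t ≠ 0 → f (t ^ 2 * u) = f t ^ 2 * g u := by
  have hadd : ∀ a b, f (a + b) = f a + f b := fun a b =>
    xs_inj p k (by rw [← hf, xs_add, map_mul, hf, hf, xs_add])
  have h0 : f 0 = 0 := by
    have := hadd 0 0
    rw [add_zero] at this
    simpa using this
  have hne : ∀ t, t ≠ 0 → f t ≠ 0 := by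
    intro t ht h
    exact ht (xs_inj p k (φ.injective (by rw [hf, hf, h, h0])))
  have hx : ∀ t, φ (proj (m + 1) F (tv k.castSucc k.succ Fin.castSucc_lt_succ.ne t)) =
      proj (m + 1) F (tv k.castSucc k.succ Fin.castSucc_lt_succ.ne (f t)) := hf
  have hy : ∀ t, φ (proj (m + 1) F (tv k.succ k.castSucc Fin.castSucc_lt_succ.ne' t)) =
      proj (m + 1) F (tv k.succ k.castSucc Fin.castSucc_lt_succ.ne' (g t)) := hg
  have hrel : ∀ t, t ≠ 0 → f t * g (-t⁻¹) = -1 := by
    intro t ht
    refine mul_eq_neg_one p (i := k.castSucc) (j := k.succ) Fin.castSucc_lt_succ.ne (hne t ht) ?_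
    have h := congrArg (fun s => φ (proj (m + 1) F s)) (xyx_eq Fin.castSucc_lt_succ.ne (i := k.castSucc) (j := k.succ) t ht)
    simpa only [map_mul, hx, hy] using h
  refine ⟨hadd, h0, hrel, fun t u ht => ?_⟩
  have hg' : g (-t⁻¹) = -(f t)⁻¹ := by
    have := hrel t ht
    exact mul_left_cancel₀ (hne t ht) (by rw [this, mul_neg, mul_inv_cancel₀ (hne t ht)])
  have h := congrArg (fun s => φ (proj (m + 1) F s))
    (weyl_conj (i := k.castSucc) (j := k.succ) Fin.castSucc_lt_succ.ne t u ht)
  simp only [map_mul, hx, hy, hg'] at h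
  have h2 := congrArg (proj (m + 1) F)
    (weyl_conj (i := k.castSucc) (j := k.succ) Fin.castSucc_lt_succ.ne (f t) (g u) (hne t ht))
  simp only [map_mul] at h2
  have h3 := proj_tv_inj p _ (mul_right_cancel (h.symm.trans h2))
  have hneg : f (-(t ^ 2 * u)) = -f (t ^ 2 * u) := by
    have := hadd (t ^ 2 * u) (-(t ^ 2 * u))
    rw [add_neg_cancel, h0] at this
    linear_combination -this
  rw [hneg] at h3
  linear_combination -h3

omit [Fact p.Prime] in
/-- An additive map with `f (t² u) = f(t)² f(u)` and `f 1 = 1` is multiplicative. -/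
theorem mul_of_sq_mul (hp : p.Prime) (f : F → F) (hadd : ∀ a b, f (a + b) = f a + f b)
    (h1 : f 1 = 1) (hsq : ∀ t u, f (t ^ 2 * u) = f t ^ 2 * f u) (a b : F) :
    f (a * b) = f a * f b := by
  by_cases h2 : (2 : F) = 0
  · haveI := Fintype.ofFinite F
    have hp2 : ringChar F = 2 := by
      haveI : CharP F 2 := CharTwo.of_one_ne_zero_of_two_eq_zero one_ne_zero h2
      exact ringChar.eq F 2
    obtain ⟨c, hc⟩ := (FiniteField.isSquare_of_char_two (F := F) hp2 a : IsSquare a)
    subst hc
    have e : c * c = c ^ 2 * 1 := by ring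
    rw [e, hsq, h1, show c ^ 2 * 1 * b = c ^ 2 * b by ring, hsq]
    ring
  · have h := hsq (a + 1) b
    have e : (a + 1) ^ 2 * b = a ^ 2 * b + a * b + a * b + 1 ^ 2 * b := by ring
    rw [e, hadd, hadd, hadd, hsq, hsq, hadd a 1, h1] at h
    have h3 : (2 : F) * (f (a * b) - f a * f b) = 0 := by linear_combination h
    exact sub_eq_zero.mp ((mul_eq_zero.mp h3).resolve_left h2)

omit [Fact p.Prime] [CharP F p] [Finite F] p in
theorem fix_commutator (φ : MulAut PSLn) {i j k : Fin (m + 1)} (hik : i ≠ k) (hkj : k ≠ j)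
    (hij : i ≠ j) (h1 : ∀ a, φ (proj (m + 1) F (tv i k hik a)) = proj (m + 1) F (tv i k hik a))
    (h2 : ∀ a, φ (proj (m + 1) F (tv k j hkj a)) = proj (m + 1) F (tv k j hkj a)) (a : F) :
    φ (proj (m + 1) F (tv i j hij a)) = proj (m + 1) F (tv i j hij a) := by
  rw [← mul_one a, ← tv_commutator hik hkj hij a 1, map_commutatorElement, map_commutatorElement,
    h1, h2]

omit [Fact p.Prime] [CharP F p] [Finite F] p in
theorem eq_one_of_fix (φ : MulAut PSLn) (hx : ∀ k t, φ (xs k t) = xs k t)
    (hy : ∀ k t, φ (ys k t) = ys k t) : φ = 1 := by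
  have key : ∀ d : ℕ, ∀ i j : Fin (m + 1), ∀ h : i ≠ j,
      (i.val + d + 1 = j.val ∨ j.val + d + 1 = i.val) →
      ∀ a, φ (proj (m + 1) F (tv i j h a)) = proj (m + 1) F (tv i j h a) := by
    intro d
    induction d with
    | zero =>
      intro i j h hd a
      rcases hd with hd | hd
      · have hi : i.val < m := by have := j.isLt; omega
        have e1 : i = (⟨i.val, hi⟩ : Fin m).castSucc := Fin.ext rfl
        have e2 : j = (⟨i.val, hi⟩ : Fin m).succ := Fin.ext (by simp; omega)
        have := hx ⟨i.val, hi⟩ a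
        simp only [xs, ← e1, ← e2] at this
        exact this
      · have hi : j.val < m := by have := i.isLt; omega
        have e1 : j = (⟨j.val, hi⟩ : Fin m).castSucc := Fin.ext rfl
        have e2 : i = (⟨j.val, hi⟩ : Fin m).succ := Fin.ext (by simp; omega)
        have := hy ⟨j.val, hi⟩ a
        simp only [ys, ← e1, ← e2] at this
        exact this
    | succ d ih =>
      intro i j h hd a
      rcases hd with hd | hd
      · have hk : i.val + d + 1 < m + 1 := by have := j.isLt; omega
        have h1 : i ≠ ⟨i.val + d + 1, hk⟩ := fun e => by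
          have := congrArg Fin.val e; simp at this; omega
        have h2 : (⟨i.val + d + 1, hk⟩ : Fin (m + 1)) ≠ j := fun e => by
          have := congrArg Fin.val e; simp at this; omega
        refine fix_commutator φ h1 h2 h (ih _ _ h1 (Or.inl rfl)) (fun c => ?_) a
        have hi : i.val + d + 1 < m := by have := j.isLt; omega
        have e1 : (⟨i.val + d + 1, hk⟩ : Fin (m + 1)) = (⟨i.val + d + 1, hi⟩ : Fin m).castSucc :=
          Fin.ext rfl
        have e2 : j = (⟨i.val + d + 1, hi⟩ : Fin m).succ := Fin.ext (by simp; omega)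
        have := hx ⟨i.val + d + 1, hi⟩ c
        simp only [xs, ← e1, ← e2] at this
        exact this
      · have hk : j.val + 1 < m + 1 := by have := i.isLt; omega
        have h1 : i ≠ ⟨j.val + 1, hk⟩ := fun e => by
          have := congrArg Fin.val e; simp at this; omega
        have h2 : (⟨j.val + 1, hk⟩ : Fin (m + 1)) ≠ j := fun e => by
          have := congrArg Fin.val e; simp at this
        refine fix_commutator φ h1 h2 h (ih _ _ h1 (Or.inr (by simp; omega))) (fun c => ?_) a
        have hi : j.val < m := by omega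
        have e1 : j = (⟨j.val, hi⟩ : Fin m).castSucc := Fin.ext rfl
        have e2 : (⟨j.val + 1, hk⟩ : Fin (m + 1)) = (⟨j.val, hi⟩ : Fin m).succ :=
          Fin.ext (by simp)
        have := hy ⟨j.val, hi⟩ c
        simp only [ys, ← e1, ← e2] at this
        exact this
  have h : φ = descend (1 : MulAut SLn) := by
    refine eq_descend_of_tv fun i j h a => ?_
    rcases lt_or_gt_of_ne (fun e => h (Fin.ext e)) with hl | hl
    · simpa using key (j.val - i.val - 1) i j h (Or.inl (by omega)) a
    · simpa using key (i.val - j.val - 1) i j h (Or.inr (by omega)) a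
  rw [h, map_one]

/-- An automorphism fixing every simple root subgroup is standard. -/
theorem mem_stdSub_of_roots (hm : 0 < m) (φ : MulAut PSLn) (f g : Fin m → F → F)
    (hf : ∀ k t, φ (xs k t) = xs k (f k t)) (hg : ∀ k t, φ (ys k t) = ys k (g k t)) :
    φ ∈ stdSub (m + 1) F := by
  classical
  have hf1 : ∀ k, f k 1 ≠ 0 := by
    intro k h
    obtain ⟨-, h0, -, -⟩ := root_relation p φ k (f k) (g k) (hf k) (hg k)
    exact one_ne_zero (xs_inj p k (φ.injective (by rw [hf, hf, h, h0])))
  let d : Fin (m + 1) → Fˣ := fun i =>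
    Fin.induction (motive := fun _ => Fˣ) 1 (fun k prev => prev * Units.mk0 (f k 1) (hf1 k)) i
  have hd : ∀ k : Fin m, d k.succ = d k.castSucc * Units.mk0 (f k 1) (hf1 k) := fun k => by
    simp only [d, Fin.induction_succ]
  set D := descend (cj (diagUnit d) : MulAut SLn) with hD
  have hDx : ∀ k t, D (xs k t) = xs k (t * (f k 1)⁻¹ : F) := by
    intro k t
    rw [hD, xs, xs, descend_proj, cj_diag_tv, hd]
    congr 2
    simp only [Units.val_inv_eq_inv_val, Units.val_mul, Units.val_mk0]
    field_simp [hf1 k, (d k.castSucc).ne_zero]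
  have hDy : ∀ k t, D (ys k t) = ys k (t * f k 1 : F) := by
    intro k t
    rw [hD, ys, ys, descend_proj, cj_diag_tv, hd]
    congr 2
    simp only [Units.val_inv_eq_inv_val, Units.val_mul, Units.val_mk0]
    field_simp [hf1 k, (d k.castSucc).ne_zero]
  set φ' := D * φ with hφ'
  set f' := fun k t => f k t * (f k 1)⁻¹ with hf'
  set g' := fun k t => g k t * f k 1 with hg'
  have hfx : ∀ k t, φ' (xs k t) = xs k (f' k t) := fun k t => by
    rw [hφ', MulAut.mul_apply, hf, hDx]
  have hgy : ∀ k t, φ' (ys k t) = ys k (g' k t) := fun k t => by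
    rw [hφ', MulAut.mul_apply, hg, hDy]
  have hone : ∀ k, f' k 1 = 1 := fun k => mul_inv_cancel₀ (hf1 k)
  have hrel := fun k => root_relation p φ' k (f' k) (g' k) (hfx k) (hgy k)
  have hgf : ∀ k u, g' k u = f' k u := by
    intro k u
    have := (hrel k).2.2.2 1 u one_ne_zero
    rw [one_pow, one_mul, hone, one_pow, one_mul] at this
    exact this.symm
  have hmul : ∀ k a b, f' k (a * b) = f' k a * f' k b := by
    intro k
    refine mul_of_sq_mul p Fact.out (f' k) (hrel k).1 (hone k) fun t u => ?_
    rcases eq_or_ne t 0 with rfl | ht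
    · simp [(hrel k).2.1]
    · rw [(hrel k).2.2.2 t u ht, hgf]
  have hstep : ∀ j : ℕ, ∀ hj : j < m, f' ⟨j, hj⟩ = f' ⟨0, hm⟩ := by
    intro j
    induction j with
    | zero => intro hj; rfl
    | succ j ih =>
      intro hj
      rw [← ih (by omega)]
      funext b
      set k : Fin m := ⟨j, by omega⟩
      set l : Fin m := ⟨j + 1, hj⟩
      have hkl : k.succ = l.castSucc := Fin.ext rfl
      have h13 : k.castSucc ≠ l.succ := fun e => by
        have := congrArg Fin.val e; simp [k, l] at this; omega
      have hk2 : k.castSucc ≠ l.castSucc := hkl ▸ Fin.castSucc_lt_succ.ne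
      have hcom : ∀ a b : F, ⁅xs k a, xs l b⁆ =
          proj (m + 1) F (tv k.castSucc l.succ h13 (a * b)) := by
        intro a b
        rw [← tv_commutator hk2 Fin.castSucc_lt_succ.ne h13 a b, map_commutatorElement]
        unfold xs
        simp only [hkl]
      have h1 := congrArg φ' (hcom b 1)
      have h2 := congrArg φ' (hcom 1 b)
      rw [map_commutatorElement, hfx, hfx, hone, hcom, mul_one, mul_one] at h1
      rw [map_commutatorElement, hfx, hfx, hone, hcom, one_mul, one_mul, ← h1] at h2
      exact proj_tv_inj p h13 h2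
  let σ0 : F →+* F :=
    { toFun := f' ⟨0, hm⟩
      map_one' := hone _
      map_mul' := hmul _
      map_zero' := (hrel _).2.1
      map_add' := (hrel _).1 }
  have hb : Function.Bijective σ0 :=
    ⟨σ0.injective, Finite.injective_iff_surjective.mp σ0.injective⟩
  let σ : F ≃+* F := RingEquiv.ofBijective σ0 hb
  have hσ : ∀ k t, f' k t = σ t := fun k t => congrFun (hstep k.val k.isLt) t
  have hfin : descend (fld σ.symm : MulAut SLn) * φ' = 1 := by
    refine eq_one_of_fix _ (fun k t => ?_) (fun k t => ?_)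
    · rw [MulAut.mul_apply, hfx, xs, xs, descend_proj, fld_tv, hσ, σ.symm_apply_apply]
    · rw [MulAut.mul_apply, hgy, hgf, ys, ys, descend_proj, fld_tv, hσ, σ.symm_apply_apply]
  have : φ = D⁻¹ * (descend (fld σ.symm : MulAut SLn))⁻¹ := by
    rw [inv_eq_of_mul_eq_one_right hfin, hφ', inv_mul_cancel_left]
  rw [this]
  exact mul_mem (inv_mem (descend_cj_mem _)) (inv_mem (descend_fld_mem _))

/-- Every automorphism of `PSL_{m+1}(F)` is standard. -/
theorem mem_stdSub (hm : 0 < m) (φ : MulAut PSLn) : φ ∈ stdSub (m + 1) F := by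
  obtain ⟨x, hU, hL⟩ := exists_fix_projU_projL p φ
  suffices h : MulAut.conj x * φ ∈ stdSub (m + 1) F from
    (Subgroup.mul_mem_cancel_left _ (conj_mem_stdSub x)).mp h
  obtain ⟨π, hinj, hadj, f, g, hf, hg⟩ := exists_root_maps p _ hU hL
  rcases id_or_rev π hinj hadj with h | h
  · exact mem_stdSub_of_roots p hm _ f g (fun k t => by rw [hf, h]) (fun k t => by rw [hg, h])
  · obtain ⟨R, hR, hRx, hRy⟩ := exists_graph (m := m) (F := F)
    refine (Subgroup.mul_mem_cancel_left _ hR).mp ?_
    refine mem_stdSub_of_roots p hm _ (fun k t => -(f k t)) (fun k t => -(g k t)) (fun k t => ?_)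
      (fun k t => ?_)
    · rw [MulAut.mul_apply, hf, hRx, h, Fin.rev_rev]
    · rw [MulAut.mul_apply, hg, hRy, h, Fin.rev_rev]

end Simple

end Cfsg.Agent.AutPSL
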