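import Mathlib
import Cfsg.Prelude.Def_LieTypeDatum
import Cfsg.Agent.Lib.AutPSL.Main

set_option autoImplicit false

/-!
Uniqueness of the normal form of automorphisms of `PSL_n(F)` and the comparison with the predicates
of the definition modules.
-/

namespace Cfsg.Agent.AutPSL

open Matrix

universe u
variable {n : ℕ} {F : Type u} [Field F]

local notation "SLn" => Matrix.SpecialLinearGroup (Fin n) F
local notation "PSLn" => Matrix.ProjectiveSpecialLinearGroup (Fin n) F
local notation "Mat" => Matrix (Fin n) (Fin n) F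

theorem isInducedBySemilinearPSL_iff (g : GL (Fin n) F) (σ : F ≃+* F) (β : MulAut PSLn) :
    Cfsg.IsInducedBySemilinearPSL g σ β ↔ β = descend (cj g * fld σ) := by
  constructor
  · intro h
    refine MulEquiv.ext fun x => ?_
    obtain ⟨s, rfl⟩ := proj_surjective x
    exact h s (cj g (fld σ s)) (by rw [cj_apply, fld_apply])
  · rintro rfl s s' h
    show descend (cj g * fld σ) (proj n F s) = proj n F s'
    rw [descend_proj]
    congr 1
    exact Subtype.ext (by rw [MulAut.mul_apply, cj_apply, fld_apply, h])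

theorem isStdFieldAutPSL_iff (σ : F ≃+* F) (β : MulAut PSLn) :
    Cfsg.IsStdFieldAutPSL σ β ↔ β = descend (fld σ) := by
  constructor
  · intro h
    refine MulEquiv.ext fun x => ?_
    obtain ⟨s, rfl⟩ := proj_surjective x
    exact h s (fld σ s) (fld_apply σ s)
  · rintro rfl s s' h
    show descend (fld σ) (proj n F s) = proj n F s'
    rw [descend_proj]
    congr 1
    exact Subtype.ext (by rw [fld_apply, h])

theorem isInverseTransposeAutPSL_iff (β : MulAut PSLn) :
    Cfsg.IsInverseTransposeAutPSL β ↔ β = descend itp := by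
  constructor
  · intro h
    refine MulEquiv.ext fun x => ?_
    obtain ⟨s, rfl⟩ := proj_surjective x
    exact h s (itp s) (itp_apply s)
  · rintro rfl s s' h
    show descend itp (proj n F s) = proj n F s'
    rw [descend_proj]
    congr 1
    exact Subtype.ext (by rw [itp_apply, h])

theorem isInnerDiagonalAutPSL_iff (β : MulAut PSLn) :
    Cfsg.IsInnerDiagonalAutPSL β ↔ ∃ g : GL (Fin n) F, β = descend (cj g) := by
  constructor
  · rintro ⟨g, h⟩
    refine ⟨g, MulEquiv.ext fun x => ?_⟩
    obtain ⟨s, rfl⟩ := proj_surjective x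
    exact h s (cj g s) (cj_apply g s)
  · rintro ⟨g, rfl⟩
    refine ⟨g, fun s s' h => ?_⟩
    show descend (cj g) (proj n F s) = proj n F s'
    rw [descend_proj]
    congr 1
    exact Subtype.ext (by rw [cj_apply, h])

theorem inndiagPSL_eq : Cfsg.inndiagPSL n F = (descend.comp cj).range := by
  refine le_antisymm ((Subgroup.closure_le _).mpr fun β hβ => ?_) ?_
  · obtain ⟨g, rfl⟩ := (isInnerDiagonalAutPSL_iff β).mp hβ
    exact ⟨g, rfl⟩
  · rintro _ ⟨g, rfl⟩
    exact Subgroup.subset_closure ((isInnerDiagonalAutPSL_iff _).mpr ⟨g, rfl⟩)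

section Finite

variable (p : ℕ) [Fact p.Prime] [CharP F p] [Finite F]
include p

/-- Normal form of an automorphism. -/
theorem exists_normal_form (hn : 2 ≤ n) (φ : MulAut PSLn) :
    ∃ (g : GL (Fin n) F) (σ : F ≃+* F) (ε : Bool), φ = descend (cj g * fld σ * gpart ε) := by
  obtain ⟨m, rfl⟩ : ∃ m, n = m + 1 := ⟨n - 1, by omega⟩
  exact mem_stdSub p (by omega) φ

omit [Finite F] in
theorem fix_tv_of_descend_eq_one {e : MulAut SLn} (he : descend e = 1) (i j : Fin n) (h : i ≠ j)
    (a : F) : e (tv i j h a) = tv i j h a :=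
  eq_of_proj_eq p (k := 1) (l := 1)
    (by rw [pow_one, ← map_pow, tv_pow p, map_one]) (by rw [pow_one, tv_pow p])
    (by rw [← descend_proj, he]; rfl)

omit [Finite F] in
/-- `cj g * fld σ` is trivial on `PSL_n` only if `g` is scalar and `σ = 1`. -/
theorem eq_of_descend_eq_one (hn : 2 ≤ n) {g : GL (Fin n) F} {σ : F ≃+* F}
    (h : descend (cj g * fld σ) = 1) :
    g ∈ Subgroup.center (GL (Fin n) F) ∧ σ = RingEquiv.refl F := by
  have hfix : ∀ (i j : Fin n) (hij : i ≠ j) (a : F),
      (g : Mat) * Matrix.single i j (σ a) = Matrix.single i j a * (g : Mat) := by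
    intro i j hij a
    have h1 := congrArg (fun s : SLn => (s : Mat) * (g : Mat)) (fix_tv_of_descend_eq_one p h i j hij a)
    simp only [MulAut.mul_apply, fld_tv, cj_apply, tv_coe, mul_assoc, Units.inv_mul, mul_one] at h1
    rw [mul_add, mul_one, add_mul, one_mul] at h1
    exact add_left_cancel h1
  have hoff : ∀ r i : Fin n, r ≠ i → (g : Mat) r i = 0 := by
    intro r i hri
    obtain ⟨j, hj⟩ : ∃ j : Fin n, i ≠ j := ⟨r, hri.symm⟩
    have h1 := congrFun (congrFun (hfix i j hj 1) r) j
    rw [map_one, Matrix.mul_single_apply_same, mul_one,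
      Matrix.single_mul_apply_of_ne _ _ _ _ _ hri] at h1
    exact h1
  have hdiag : ∀ i j : Fin n, i ≠ j → ∀ a, (g : Mat) i i * σ a = a * (g : Mat) j j := by
    intro i j hij a
    have h1 := congrFun (congrFun (hfix i j hij a) i) j
    rwa [Matrix.mul_single_apply_same, Matrix.single_mul_apply_same] at h1
  have hnz : ∀ i, (g : Mat) i i ≠ 0 := by
    intro i hi
    refine (Matrix.isUnit_iff_isUnit_det (g : Mat)).mp g.isUnit |>.ne_zero ?_
    refine Matrix.det_eq_zero_of_column_eq_zero i fun r => ?_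
    rcases eq_or_ne r i with rfl | hri
    · exact hi
    · exact hoff r i hri
  have heq : ∀ i j : Fin n, (g : Mat) i i = (g : Mat) j j := by
    intro i j
    rcases eq_or_ne i j with rfl | hij
    · rfl
    · simpa using hdiag i j hij 1
  obtain ⟨i0, j0, h0⟩ : ∃ i j : Fin n, i ≠ j :=
    ⟨⟨0, by omega⟩, ⟨1, by omega⟩, fun e => by simpa using congrArg Fin.val e⟩
  have hscal : (g : Mat) = Matrix.scalar (Fin n) ((g : Mat) i0 i0) := by
    ext r c
    rcases eq_or_ne r c with rfl | hrc
    · simp [heq r i0]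
    · simp [hoff r c hrc, hrc]
  refine ⟨Subgroup.mem_center_iff.mpr fun x => Units.ext ?_, RingEquiv.ext fun a => ?_⟩
  · rw [Units.val_mul, Units.val_mul, hscal]
    exact (Matrix.scalar_commute _ (fun r => Commute.all _ r) (x : Mat)).symm.eq
  · refine mul_left_cancel₀ (hnz i0) ?_
    rw [hdiag i0 j0 h0 a, heq j0 i0, mul_comm]
    rfl

omit [Finite F] in
/-- For `n ≥ 3` the inverse transpose is not semilinear. -/
theorem descend_itp_ne (hn : 3 ≤ n) (g : GL (Fin n) F) (σ : F ≃+* F) :
    descend (cj g * fld σ * itp) ≠ (1 : MulAut PSLn) := by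
  intro h
  have hfix : ∀ (i j : Fin n) (hij : i ≠ j),
      (g : Mat) * Matrix.single j i (-1) = Matrix.single i j 1 * (g : Mat) := by
    intro i j hij
    have h1 := congrArg (fun s : SLn => (s : Mat) * (g : Mat)) (fix_tv_of_descend_eq_one p h i j hij 1)
    simp only [MulAut.mul_apply, itp_tv, fld_tv, map_neg, map_one, cj_apply, tv_coe, mul_assoc,
      Units.inv_mul, mul_one] at h1
    rw [mul_add, mul_one, add_mul, one_mul] at h1
    exact add_left_cancel h1
  let j : Fin n := ⟨0, by omega⟩
  have hcol : ∀ i : Fin n, i ≠ j → ∀ r, r ≠ i → (g : Mat) r j = 0 := by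
    intro i hij r hri
    have h1 := congrFun (congrFun (hfix i j hij) r) i
    rw [Matrix.mul_single_apply_same, Matrix.single_mul_apply_of_ne _ _ _ _ _ hri] at h1
    simpa using h1
  refine (Matrix.isUnit_iff_isUnit_det (g : Mat)).mp g.isUnit |>.ne_zero ?_
  refine Matrix.det_eq_zero_of_column_eq_zero j fun r => ?_
  by_cases hr : r = ⟨1, by omega⟩
  · refine hcol ⟨2, by omega⟩ (fun e => ?_) r (fun e => ?_)
    · simpa [j] using congrArg Fin.val e
    · rw [hr] at e; simpa using congrArg Fin.val e
  · exact hcol ⟨1, by omega⟩ (fun e => by simpa [j] using congrArg Fin.val e) r hr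

end Finite

/-- For `n = 2` the inverse transpose is a conjugation. -/
theorem itp_eq_cj_two {F : Type u} [Field F] :
    (itp : MulAut (Matrix.SpecialLinearGroup (Fin 2) F)) =
      cj (Matrix.SpecialLinearGroup.toGL (swapElt 0 1 (by decide))) := by
  refine MulEquiv.ext fun s => Subtype.ext ?_
  rw [cj_toGL, MulAut.conj_apply, itp_apply, Matrix.SpecialLinearGroup.coe_mul,
    Matrix.SpecialLinearGroup.coe_mul, Matrix.SpecialLinearGroup.coe_inv,
    Matrix.SpecialLinearGroup.coe_inv, swapElt_coe]
  ext a b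
  fin_cases a <;> fin_cases b <;>
    simp [Matrix.adjugate_fin_two, Matrix.mul_apply, Fin.sum_univ_two, Matrix.single_apply]

end Cfsg.Agent.AutPSL

namespace Cfsg.Agent.AutPSL

universe u

theorem charP_of_card {F : Type u} [Field F] [Fintype F] {p f : ℕ} [Fact p.Prime]
    (hF : Fintype.card F = p ^ f) (hf : 1 ≤ f) : CharP F p := by
  have h0 : (p : F) = 0 := eq_zero_of_pow_eq_zero (n := f) (by rw [← Nat.cast_pow, ← hF]; simp)
  haveI : CharP F (ringChar F) := ringChar.charP F
  have h1 : ringChar F ∣ p := (CharP.cast_eq_zero_iff F (ringChar F) p).mp h0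
  rcases (Nat.dvd_prime (Fact.out : p.Prime)).mp h1 with h | h
  · exact absurd h (CharP.ringChar_ne_one)
  · exact h ▸ ‹CharP F (ringChar F)›

end Cfsg.Agent.AutPSL
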