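import Mathlib
import Cfsg.Agent.Lib.AutPSL.Normal

set_option autoImplicit false

/-!
Parametrisation and order of the automorphism group of `PSL_n(q)`.
-/

namespace Cfsg.Agent.AutPSL

open Matrix

universe u
variable {n : ℕ} {F : Type u} [Field F]

local notation "SLn" => Matrix.SpecialLinearGroup (Fin n) F
local notation "PSLn" => Matrix.ProjectiveSpecialLinearGroup (Fin n) F
local notation "Mat" => Matrix (Fin n) (Fin n) F

theorem cj_eq_one_of_mem_center {z : GL (Fin n) F} (hz : z ∈ Subgroup.center (GL (Fin n) F)) :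
    cj z = (1 : MulAut SLn) := by
  refine MulEquiv.ext fun s => Subtype.ext ?_
  have h := congrArg Units.val ((Subgroup.mem_center_iff.mp hz) (Matrix.SpecialLinearGroup.toGL s))
  rw [Units.val_mul, Units.val_mul] at h
  rw [cj_apply, MulAut.one_apply]
  calc (z : Mat) * (s : Mat) * ((z⁻¹ : GL (Fin n) F) : Mat)
      = (s : Mat) * (z : Mat) * ((z⁻¹ : GL (Fin n) F) : Mat) :=
        congrArg (· * ((z⁻¹ : GL (Fin n) F) : Mat)) h.symm
    _ = (s : Mat) := by rw [mul_assoc, Units.mul_inv, mul_one]

theorem fld_injective_mul (σ τ : F ≃+* F) :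
    (fld σ * (fld τ)⁻¹ : MulAut SLn) = fld (τ.symm.trans σ) := by
  rw [mul_inv_eq_iff_eq_mul, fld_mul]
  congr 1
  ext x
  simp

section Finite

variable (p : ℕ) [Fact p.Prime] [CharP F p]
include p

/-- The parameters of a normal form are unique. -/
theorem normal_form_unique (hn : 2 ≤ n) {g h : GL (Fin n) F} {σ τ : F ≃+* F} {a b : Bool}
    (hab : 3 ≤ n ∨ a = b)
    (he : descend (cj g * fld σ * gpart a : MulAut SLn) = descend (cj h * fld τ * gpart b)) :
    h⁻¹ * g ∈ Subgroup.center (GL (Fin n) F) ∧ σ = τ ∧ a = b := by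
  have h1 : descend (cj (h⁻¹ * g) * fld (τ.symm.trans σ) * gpart (xor a b) : MulAut SLn) = 1 := by
    have e : (cj (h⁻¹ * g) * fld (τ.symm.trans σ) * gpart (xor a b) : MulAut SLn) =
        cj h⁻¹ * (cj g * fld σ * gpart a) * gpart b * (fld τ)⁻¹ := by
      rw [map_mul, ← gpart_mul_gpart, ← fld_injective_mul]
      simp only [mul_assoc]
      congr 3
      rw [← mul_assoc (gpart a) (gpart b) _, gpart_mul_gpart]
      rw [eq_mul_inv_iff_mul_eq, mul_assoc, gpart_mul_fld, ← mul_assoc, inv_mul_cancel, one_mul]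
    rw [e, map_mul, map_mul, map_mul, he, ← map_mul, ← map_mul, ← map_mul, ← mul_assoc,
      ← mul_assoc, ← map_mul, inv_mul_cancel, map_one, one_mul, mul_assoc (fld τ),
      gpart_mul_gpart, Bool.xor_self]
    simp [gpart]
  have hx : xor a b = false := by
    rcases hab with h3 | rfl
    · by_contra hc
      rw [Bool.not_eq_false] at hc
      rw [hc] at h1
      exact descend_itp_ne p h3 _ _ h1
    · exact Bool.xor_self a
  rw [hx] at h1
  obtain ⟨h2, h3⟩ := eq_of_descend_eq_one p hn (g := h⁻¹ * g) (σ := τ.symm.trans σ)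
    (by simpa [gpart] using h1)
  refine ⟨h2, RingEquiv.ext fun x => ?_, by simpa using hx⟩
  have := RingEquiv.congr_fun h3 (τ x)
  simpa using this

end Finite

/-- Allowed values of the graph parameter. -/
abbrev GraphParam (n : ℕ) : Type := {ε : Bool // n = 2 → ε = false}

theorem card_graphParam (n : ℕ) : Nat.card (GraphParam n) = if n = 2 then 1 else 2 := by
  rw [Nat.card_eq_fintype_card, Fintype.card_subtype]
  split_ifs with h <;> simp [h] <;> rfl

variable (n F) in
/-- The automorphism attached to a parameter. -/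
noncomputable def param
    (x : (GL (Fin n) F ⧸ Subgroup.center (GL (Fin n) F)) × (F ≃+* F) × GraphParam n) :
    MulAut PSLn :=
  descend (cj x.1.out * fld x.2.1 * gpart x.2.2.1)

theorem param_mk (g : GL (Fin n) F) (σ : F ≃+* F) (ε : GraphParam n) :
    param n F (QuotientGroup.mk g, σ, ε) = descend (cj g * fld σ * gpart ε.1) := by
  obtain ⟨z, hz⟩ := QuotientGroup.mk_out_eq_mul (Subgroup.center (GL (Fin n) F)) g
  rw [param, hz, map_mul cj, cj_eq_one_of_mem_center z.2, mul_one]

theorem param_bijective (p : ℕ) [Fact p.Prime] [CharP F p] [Finite F] (hn : 2 ≤ n) :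
    Function.Bijective (param n F) := by
  constructor
  · rintro ⟨c, σ, a⟩ ⟨d, τ, b⟩ he
    obtain ⟨g, rfl⟩ := QuotientGroup.mk_surjective c
    obtain ⟨h, rfl⟩ := QuotientGroup.mk_surjective d
    rw [param_mk, param_mk] at he
    have hab : 3 ≤ n ∨ a.1 = b.1 := by
      by_cases h2 : n = 2
      · exact Or.inr ((a.2 h2).trans (b.2 h2).symm)
      · exact Or.inl (by omega)
    obtain ⟨h1, rfl, h3⟩ := normal_form_unique p hn hab he
    have : (QuotientGroup.mk g : GL (Fin n) F ⧸ Subgroup.center (GL (Fin n) F)) =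
        QuotientGroup.mk h := (QuotientGroup.eq.mpr h1).symm
    rw [this, Subtype.ext h3]
  · intro φ
    obtain ⟨g, σ, ε, rfl⟩ := exists_normal_form p hn φ
    by_cases h2 : n = 2
    · subst h2
      cases ε
      · exact ⟨(QuotientGroup.mk g, σ, ⟨false, fun _ => rfl⟩), param_mk g σ _⟩
      · refine ⟨(QuotientGroup.mk (g * Matrix.GeneralLinearGroup.map (σ : F →+* F)
          (Matrix.SpecialLinearGroup.toGL (swapElt 0 1 (by decide)))), σ, ⟨false, fun _ => rfl⟩), ?_⟩
        rw [param_mk]
        congr 1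
        show _ * gpart false = cj g * fld σ * itp
        rw [itp_eq_cj_two, mul_assoc (cj g), fld_mul_cj, map_mul, ← mul_assoc]
        simp [gpart]
    · exact ⟨(QuotientGroup.mk g, σ, ⟨ε, fun e => absurd e h2⟩), param_mk g σ _⟩

/-- Ring automorphisms are algebra automorphisms over the prime field. -/
def ringAutEquiv (p : ℕ) [Algebra (ZMod p) F] : (F ≃+* F) ≃* (F ≃ₐ[ZMod p] F) where
  toFun σ := AlgEquiv.ofRingEquiv (f := σ) fun x =>
    RingHom.congr_fun (Subsingleton.elim ((σ : F →+* F).comp (algebraMap (ZMod p) F))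
      (algebraMap (ZMod p) F)) x
  invFun e := e.toRingEquiv
  left_inv _ := rfl
  right_inv _ := rfl
  map_mul' _ _ := rfl

theorem card_ringAut [Fintype F] (p f : ℕ) [Fact p.Prime] [CharP F p]
    (hF : Fintype.card F = p ^ f) : Nat.card (F ≃+* F) = f := by
  letI : Algebra (ZMod p) F := ZMod.algebra F p
  rw [Nat.card_congr (ringAutEquiv (F := F) p).toEquiv,
    ← Nat.card_congr (Equiv.ofBijective _
      (FiniteField.bijective_frobeniusAlgEquivOfAlgebraic_pow (ZMod p) F)), Nat.card_fin]
  have h := Module.card_eq_pow_finrank (K := ZMod p) (V := F)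
  rw [hF, ZMod.card] at h
  exact (Nat.pow_right_injective (Fact.out : p.Prime).two_le h).symm

theorem isCyclic_ringAut [Finite F] (p : ℕ) [Fact p.Prime] [CharP F p] : IsCyclic (F ≃+* F) := by
  letI : Algebra (ZMod p) F := ZMod.algebra F p
  exact isCyclic_of_surjective (ringAutEquiv (F := F) p).symm (MulEquiv.surjective _)

end Cfsg.Agent.AutPSL
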