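import Mathlib
import Cfsg.Prelude.Def_KGroupFacts
import Cfsg.Agent.Lib.AutPSL.Counts

set_option autoImplicit false

/-!
The outer automorphism group of `PSL_n(q)`.
-/

namespace Cfsg.Agent.AutPSL

open Matrix

universe u
variable {n : ℕ} {F : Type u} [Field F]

local notation "SLn" => Matrix.SpecialLinearGroup (Fin n) F
local notation "PSLn" => Matrix.ProjectiveSpecialLinearGroup (Fin n) F
local notation "Mat" => Matrix (Fin n) (Fin n) F

section Comps

variable (p : ℕ) [Fact p.Prime] [CharP F p] [Finite F] (hn : 2 ≤ n)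

/-- The field part of an automorphism. -/
noncomputable def fieldPart (φ : MulAut PSLn) : F ≃+* F :=
  ((Equiv.ofBijective _ (param_bijective (n := n) (F := F) p hn)).symm φ).2.1

/-- The graph part of an automorphism. -/
noncomputable def graphPart (φ : MulAut PSLn) : Bool :=
  ((Equiv.ofBijective _ (param_bijective (n := n) (F := F) p hn)).symm φ).2.2.1

theorem parts_eq {φ : MulAut PSLn} {g : GL (Fin n) F} {σ : F ≃+* F} {a : Bool}
    (ha : n = 2 → a = false) (h : φ = descend (cj g * fld σ * gpart a)) :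
    fieldPart p hn φ = σ ∧ graphPart p hn φ = a := by
  have e : (Equiv.ofBijective _ (param_bijective (n := n) (F := F) p hn)).symm φ =
      (QuotientGroup.mk g, σ, ⟨a, ha⟩) := by
    rw [Equiv.symm_apply_eq]
    exact h.trans (param_mk g σ ⟨a, ha⟩).symm
  unfold fieldPart graphPart
  rw [e]
  exact ⟨rfl, rfl⟩

theorem exists_rep (φ : MulAut PSLn) :
    ∃ g : GL (Fin n) F, φ = descend (cj g * fld (fieldPart p hn φ) * gpart (graphPart p hn φ)) ∧
      (n = 2 → graphPart p hn φ = false) :=
  ⟨_, ((Equiv.ofBijective _ (param_bijective (n := n) (F := F) p hn)).apply_symm_apply φ).symm,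
    ((Equiv.ofBijective _ (param_bijective (n := n) (F := F) p hn)).symm φ).2.2.2⟩

theorem parts_mul (φ ψ : MulAut PSLn) :
    fieldPart p hn (φ * ψ) = fieldPart p hn φ * fieldPart p hn ψ ∧
      graphPart p hn (φ * ψ) = xor (graphPart p hn φ) (graphPart p hn ψ) := by
  obtain ⟨g, hg, ha⟩ := exists_rep p hn φ
  obtain ⟨h, hh, hb⟩ := exists_rep p hn ψ
  refine parts_eq p hn (fun e => by rw [ha e, hb e]; rfl) (g := g *
    Matrix.GeneralLinearGroup.map (fieldPart p hn φ : F →+* F)
      (if graphPart p hn φ then glItp h else h)) ?_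
  conv_lhs => rw [hg, hh, ← map_mul, nf_mul]
  rfl

theorem parts_cj (g : GL (Fin n) F) :
    fieldPart p hn (descend (cj g)) = RingEquiv.refl F ∧ graphPart p hn (descend (cj g)) = false :=
  parts_eq p hn (fun _ => rfl) (g := g) (by simp [gpart, fld_one])

theorem exists_cj_of_parts {φ : MulAut PSLn} (h1 : fieldPart p hn φ = RingEquiv.refl F)
    (h2 : graphPart p hn φ = false) : ∃ g : GL (Fin n) F, φ = descend (cj g) := by
  obtain ⟨g, hg, -⟩ := exists_rep p hn φ
  rw [h1, h2] at hg
  exact ⟨g, by simpa [gpart, fld_one] using hg⟩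

end Comps

/-- The diagonal matrices with a single free entry. -/
def oneDiag (hn : 0 < n) : Fˣ →* GL (Fin n) F :=
  Units.map (((Matrix.diagonalRingHom (Fin n) F).toMonoidHom).comp
    (MonoidHom.mulSingle (fun _ : Fin n => F) ⟨0, hn⟩))

theorem det_oneDiag (hn : 0 < n) (u : Fˣ) :
    Matrix.GeneralLinearGroup.det (oneDiag (F := F) hn u) = u := by
  apply Units.ext
  rw [Matrix.GeneralLinearGroup.val_det_apply]
  show (Matrix.diagonal (Pi.mulSingle (⟨0, hn⟩ : Fin n) (u : F))).det = u
  rw [Matrix.det_diagonal, Fintype.prod_pi_mulSingle']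

theorem det_scalar (l : Fˣ) :
    Matrix.GeneralLinearGroup.det (Matrix.GeneralLinearGroup.scalar (Fin n) l) = l ^ n := by
  apply Units.ext
  simp [Matrix.GeneralLinearGroup.val_det_apply, Matrix.GeneralLinearGroup.scalar]

variable (n F) in
/-- Diagonal automorphisms modulo inner ones. -/
def diagOut (hn : 0 < n) : Fˣ →* Cfsg.Out PSLn :=
  ((QuotientGroup.mk' _).comp ((descend (n := n) (F := F)).comp cj)).comp (oneDiag hn)

theorem mk_cj_eq_diagOut (hn : 0 < n) (g : GL (Fin n) F) :
    (QuotientGroup.mk (descend (cj g)) : Cfsg.Out PSLn) =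
      diagOut n F hn (Matrix.GeneralLinearGroup.det g) := by
  have h : (oneDiag hn (Matrix.GeneralLinearGroup.det g))⁻¹ * g ∈
      (Matrix.SpecialLinearGroup.toGL : SLn →* GL (Fin n) F).range := by
    rw [LinGrp.range_toGL_eq_ker_det, MonoidHom.mem_ker, map_mul, map_inv, det_oneDiag,
      inv_mul_cancel]
  obtain ⟨s, hs⟩ := h
  show _ = (QuotientGroup.mk (descend (cj (oneDiag hn (Matrix.GeneralLinearGroup.det g)))) :
    Cfsg.Out PSLn)
  refine ((QuotientGroup.eq (s := Cfsg.Inn PSLn)).mpr ⟨proj n F s, ?_⟩).symm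
  rw [← descend_conj, ← cj_toGL, hs]
  simp only [map_mul, map_inv]

theorem ker_diagOut (p : ℕ) [Fact p.Prime] [CharP F p] (hn : 2 ≤ n) :
    (diagOut n F (by omega : 0 < n)).ker = (powMonoidHom n : Fˣ →* Fˣ).range := by
  ext u
  constructor
  · intro h
    obtain ⟨x, hx⟩ := (QuotientGroup.eq_one_iff _).mp (MonoidHom.mem_ker.mp h)
    obtain ⟨s, rfl⟩ := proj_surjective x
    rw [← descend_conj, ← cj_toGL] at hx
    obtain ⟨hz, -, -⟩ := normal_form_unique p hn (Or.inr rfl) (a := false)
      (σ := RingEquiv.refl F) (τ := RingEquiv.refl F)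
      (g := oneDiag (by omega : 0 < n) u) (h := Matrix.SpecialLinearGroup.toGL s)
      (by simpa [gpart, fld_one] using hx.symm)
    rw [Matrix.GeneralLinearGroup.center_eq_range_scalar] at hz
    obtain ⟨l, hl⟩ := hz
    refine ⟨l, ?_⟩
    have := congrArg Matrix.GeneralLinearGroup.det hl
    rw [det_scalar, map_mul, map_inv, det_oneDiag] at this
    rw [powMonoidHom_apply, this]
    have hs : Matrix.GeneralLinearGroup.det (Matrix.SpecialLinearGroup.toGL s) = 1 := by
      ext; simp
    rw [hs, inv_one, one_mul]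
  · rintro ⟨l, rfl⟩
    rw [MonoidHom.mem_ker, powMonoidHom_apply, ← det_scalar (n := n) l, ← mk_cj_eq_diagOut]
    rw [cj_eq_one_of_mem_center, map_one]
    · rfl
    · rw [Matrix.GeneralLinearGroup.center_eq_range_scalar]; exact ⟨l, rfl⟩

theorem range_diagOut_facts [Finite F] (p : ℕ) [Fact p.Prime] [CharP F p] (hn : 2 ≤ n) :
    IsCyclic (diagOut n F (by omega : 0 < n)).range ∧
      Nat.card (diagOut n F (by omega : 0 < n)).range = Nat.gcd n (Nat.card F - 1) := by
  refine ⟨isCyclic_of_surjective (diagOut n F _).rangeRestrict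
    (MonoidHom.rangeRestrict_surjective _), ?_⟩
  rw [← Subgroup.index_ker, ker_diagOut p hn, IsCyclic.index_powMonoidHom_range, Nat.card_units, Nat.gcd_comm]

section Structure

variable [Fintype F] (p f : ℕ) [Fact p.Prime] [CharP F p] (hn : 2 ≤ n)
  (hF : Fintype.card F = p ^ f)

/-- Field automorphisms form a cyclic group of order `f`. -/
noncomputable def fieldIso : (F ≃+* F) ≃* Multiplicative (ZMod f) :=
  haveI : IsCyclic (F ≃+* F) := isCyclic_ringAut p
  mulEquivOfCyclicCardEq (by
    rw [card_ringAut p f hF, Nat.card_congr Multiplicative.toAdd, Nat.card_zmod])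

/-- The class of an automorphism in `ZMod f × ZMod 2`. -/
noncomputable def autClass : MulAut PSLn →* Multiplicative (ZMod f × ZMod 2) :=
  MonoidHom.mk' (fun φ => Multiplicative.ofAdd
    (Multiplicative.toAdd (fieldIso p f hF (fieldPart p hn φ)),
      if graphPart p hn φ then 1 else 0)) (by
    intro φ ψ
    obtain ⟨h1, h2⟩ := parts_mul p hn φ ψ
    rw [h1, h2, map_mul, ← ofAdd_add, Prod.mk_add_mk, toAdd_mul]
    congr 2
    cases graphPart p hn φ <;> cases graphPart p hn ψ <;> decide)

theorem autClass_eq_one_iff (φ : MulAut PSLn) :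
    autClass p f hn hF φ = 1 ↔ fieldPart p hn φ = RingEquiv.refl F ∧ graphPart p hn φ = false := by
  have hb : ∀ b : Bool, (if b then (1 : ZMod 2) else 0) = 0 ↔ b = false := by decide
  show Multiplicative.ofAdd _ = 1 ↔ _
  rw [ofAdd_eq_one, Prod.mk_eq_zero, toAdd_eq_zero, MulEquiv.map_eq_one_iff, hb]
  rfl

theorem inn_le_ker_autClass : Cfsg.Inn PSLn ≤ (autClass p f hn hF).ker := by
  rintro _ ⟨x, rfl⟩
  obtain ⟨s, rfl⟩ := proj_surjective x
  rw [MonoidHom.mem_ker, autClass_eq_one_iff, ← descend_conj, ← cj_toGL]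
  exact parts_cj p hn _

/-- The map `Out(PSL_n) → ZMod f × ZMod 2`. -/
noncomputable def outClass : Cfsg.Out PSLn →* Multiplicative (ZMod f × ZMod 2) :=
  QuotientGroup.lift _ (autClass p f hn hF) (inn_le_ker_autClass p f hn hF)

theorem ker_outClass : (outClass p f hn hF).ker = (diagOut n F (by omega : 0 < n)).range := by
  ext x
  obtain ⟨φ, rfl⟩ := QuotientGroup.mk_surjective x
  rw [MonoidHom.mem_ker]
  show autClass p f hn hF φ = 1 ↔ _
  rw [autClass_eq_one_iff]
  constructor
  · rintro ⟨h1, h2⟩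
    obtain ⟨g, rfl⟩ := exists_cj_of_parts p hn h1 h2
    exact ⟨_, (mk_cj_eq_diagOut _ g).symm⟩
  · rintro ⟨u, hu⟩
    obtain ⟨y, hy⟩ := QuotientGroup.eq.mp hu
    obtain ⟨s, rfl⟩ := proj_surjective y
    rw [← descend_conj, ← cj_toGL] at hy
    have : φ = descend (cj (oneDiag (by omega : 0 < n) u * Matrix.SpecialLinearGroup.toGL s)) := by
      rw [map_mul, map_mul, hy]
      exact (mul_inv_cancel_left _ _).symm
    rw [this]
    exact parts_cj p hn _

theorem outClass_mk (φ : MulAut PSLn) :
    outClass p f hn hF (QuotientGroup.mk φ) = autClass p f hn hF φ := rfl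

theorem autClass_surjective_three (h3 : 3 ≤ n) : Function.Surjective (autClass p f hn hF) := by
  intro z
  refine ⟨descend (fld ((fieldIso p f hF).symm (Multiplicative.ofAdd (Multiplicative.toAdd z).1)) *
    gpart (decide ((Multiplicative.toAdd z).2 = 1))), ?_⟩
  obtain ⟨h1, h2⟩ := parts_eq p hn (g := 1) (σ := (fieldIso p f hF).symm
      (Multiplicative.ofAdd (Multiplicative.toAdd z).1))
      (a := decide ((Multiplicative.toAdd z).2 = 1)) (fun e => absurd e (by omega))
      (φ := descend (fld ((fieldIso p f hF).symm (Multiplicative.ofAdd (Multiplicative.toAdd z).1)) *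
        gpart (decide ((Multiplicative.toAdd z).2 = 1)))) (by rw [map_one, one_mul])
  show Multiplicative.ofAdd _ = z
  rw [h1, h2, MulEquiv.apply_symm_apply, toAdd_ofAdd]
  have : ∀ w : ZMod 2, (if decide (w = 1) then (1 : ZMod 2) else 0) = w := by decide
  rw [this, Prod.mk.eta, ofAdd_toAdd]

end Structure

end Cfsg.Agent.AutPSL
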