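import Mathlib
import Cfsg.Prelude.Def_LieTypeDatum
import Cfsg.Agent.Lib.AutPSL.OutGroup
import Cfsg.Agent.Lib.AutPSL.Descent

set_option autoImplicit false

/-!
Standard field and graph-field automorphisms of `PSL_n(q)`: conjugacy in their cosets, centralisers
and splitting of classes.
-/

namespace Cfsg.Agent.AutPSL

open Matrix

universe u
variable {n : ℕ} {F : Type u} [Field F]

local notation "SLn" => Matrix.SpecialLinearGroup (Fin n) F
local notation "PSLn" => Matrix.ProjectiveSpecialLinearGroup (Fin n) F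
local notation "Mat" => Matrix (Fin n) (Fin n) F
local notation "scal" => Matrix.GeneralLinearGroup.scalar (Fin n)

theorem scalar_mem_center (c : Fˣ) : (scal c : GL (Fin n) F) ∈ Subgroup.center (GL (Fin n) F) := by
  rw [Matrix.GeneralLinearGroup.center_eq_range_scalar]; exact ⟨c, rfl⟩

theorem scalar_injective (hn : 0 < n) {a b : Fˣ} (h : (scal a : GL (Fin n) F) = scal b) : a = b := by
  have := congrArg (fun x : GL (Fin n) F => (x : Mat) ⟨0, hn⟩ ⟨0, hn⟩) h
  simpa [Matrix.GeneralLinearGroup.scalar, Units.val_inj] using this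

theorem scalar_coe (c : Fˣ) : ((scal c : GL (Fin n) F) : Mat) = (c : F) • 1 := by
  simp [Matrix.GeneralLinearGroup.scalar, Matrix.smul_one_eq_diagonal]

/-- The action on `GL_n` matching `fld σ * gpart ε`. -/
def twist (σ : F ≃+* F) (ε : Bool) : GL (Fin n) F →* GL (Fin n) F :=
  MonoidHom.mk' (fun g => glMap σ (if ε then glItp g else g)) (fun g h => by
    cases ε
    · exact map_mul _ g h
    · show glMap σ (glItp (g * h)) = glMap σ (glItp g) * glMap σ (glItp h)
      rw [← map_mul]
      congr 1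
      refine Units.ext ?_
      simp [glItp, Matrix.transpose_mul])

theorem twist_false (σ : F ≃+* F) : (twist σ false : GL (Fin n) F →* GL (Fin n) F) = glMap σ := rfl

theorem twist_true_inv (σ : F ≃+* F) (g : GL (Fin n) F) :
    (((twist σ true g)⁻¹ : GL (Fin n) F) : Mat) = ((g : Mat).map σ)ᵀ := by
  show (((glMap σ (glItp g))⁻¹ : GL (Fin n) F) : Mat) = _
  rw [← map_inv, glMap_coe]
  show ((g : Mat)ᵀ).map σ = _
  rw [Matrix.transpose_map]

theorem glMap_scalar (σ : F ≃+* F) (c : Fˣ) :
    glMap σ (scal c : GL (Fin n) F) = scal (uMap σ c) := by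
  refine Units.ext ?_
  rw [glMap_coe, scalar_coe, scalar_coe, Matrix.map_smul' _ _ _ (map_mul σ),
    Matrix.map_one _ (map_zero σ) (map_one σ)]
  rfl

theorem twist_true_scalar (σ : F ≃+* F) (c : Fˣ) :
    twist σ true (scal c : GL (Fin n) F) = scal (uMap σ c)⁻¹ := by
  rw [← _root_.inv_inj, map_inv, inv_inv]
  refine Units.ext ?_
  rw [twist_true_inv, ← glMap_coe, glMap_scalar, scalar_coe]
  simp

theorem twist_true_twist_true (σ : F ≃+* F) (hσ : ∀ a, σ (σ a) = a) (g : GL (Fin n) F) :
    twist σ true (twist σ true g) = g := by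
  rw [← _root_.inv_inj, ← map_inv]
  refine Units.ext ?_
  show (((twist σ true ((twist σ true g)⁻¹)) : GL (Fin n) F) : Mat) = _
  have h : ∀ x : GL (Fin n) F, ((twist σ true x : GL (Fin n) F) : Mat) = (((x⁻¹ : GL (Fin n) F) : Mat).map σ)ᵀ :=
    fun x => by rw [← twist_true_inv, map_inv, inv_inv]
  rw [map_inv, twist_true_inv, h]
  ext i j
  simp [hσ]

theorem fld_gpart_mul_cj (σ : F ≃+* F) (ε : Bool) (g : GL (Fin n) F) :
    (fld σ * gpart ε * cj g : MulAut SLn) = cj (twist σ ε g) * (fld σ * gpart ε) := by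
  rw [mul_assoc, gpart_mul_cj, ← mul_assoc, fld_mul_cj, mul_assoc]
  rfl

variable (n) in
/-- A standard field or graph-field automorphism. -/
def stdAut (σ : F ≃+* F) (ε : Bool) : MulAut PSLn := descend (fld σ * gpart ε)

theorem stdAut_mul_cj (σ : F ≃+* F) (ε : Bool) (g : GL (Fin n) F) :
    stdAut n σ ε * descend (cj g) = descend (cj (twist σ ε g)) * stdAut n σ ε := by
  rw [stdAut, ← map_mul, fld_gpart_mul_cj, map_mul]

theorem conj_stdAut (σ : F ≃+* F) (ε : Bool) (g : GL (Fin n) F) :
    descend (cj g) * stdAut n σ ε * (descend (cj g))⁻¹ =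
      descend (cj (g * (twist σ ε g)⁻¹)) * stdAut n σ ε := by
  rw [mul_assoc, ← map_inv, ← map_inv, stdAut_mul_cj, ← mul_assoc, ← map_mul, ← map_mul, map_inv]

theorem cyc_pow (σ : F ≃+* F) (ε : Bool) (g : GL (Fin n) F) : ∀ i,
    (descend (cj g) * stdAut n σ ε) ^ i = descend (cj (cyc (twist σ ε) g i)) * stdAut n σ ε ^ i
  | 0 => by simp [cyc]
  | i + 1 => by
    rw [pow_succ', cyc_pow σ ε g i, cyc, map_mul cj, map_mul descend, pow_succ']
    simp only [mul_assoc]
    congr 1
    rw [← mul_assoc, stdAut_mul_cj, mul_assoc]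

theorem cyc_add {G : Type*} [Group G] (θ : G →* G) (g : G) :
    ∀ i j, cyc θ g (i + j) = cyc θ g i * (θ : G → G)^[i] (cyc θ g j)
  | 0, j => by simp [cyc]
  | i + 1, j => by
    rw [Nat.succ_add, cyc, cyc, cyc_add θ g i j, map_mul, Function.iterate_succ_apply' (θ : G → G),
      mul_assoc]

theorem fixed_of_central {G : Type*} [Group G] (θ : G →* G) (g : G) (r : ℕ)
    (hper : (θ : G → G)^[r] g = g) (hc : cyc θ g r ∈ Subgroup.center G) :
    θ (cyc θ g r) = cyc θ g r := by
  have h1 := cyc_add θ g r 1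
  rw [show cyc θ g 1 = g by simp [cyc], hper, cyc] at h1
  rw [← Subgroup.mem_center_iff.mp hc g] at h1
  exact mul_left_cancel h1

theorem glMap_iterate (σ : F ≃+* F) (g : GL (Fin n) F) :
    ∀ i, (((glMap σ : GL (Fin n) F → GL (Fin n) F)^[i] g : GL (Fin n) F) : Mat) =
      (g : Mat).map (σ ^ i : F ≃+* F)
  | 0 => by ext; rfl
  | i + 1 => by
    rw [Function.iterate_succ_apply', glMap_coe, glMap_iterate σ g i, pow_succ']
    rfl

section Finite

variable (p : ℕ) [Fact p.Prime] [CharP F p] [Finite F]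
include p

omit [Finite F] in
theorem descend_cj_eq_one_iff (hn : 2 ≤ n) (g : GL (Fin n) F) :
    descend (cj g) = (1 : MulAut PSLn) ↔ g ∈ Subgroup.center (GL (Fin n) F) := by
  refine ⟨fun h => (eq_of_descend_eq_one p hn (g := g) (σ := RingEquiv.refl F)
    (by rw [fld_one, mul_one, h])).1, fun h => by rw [cj_eq_one_of_mem_center h, map_one]⟩

omit [Finite F] in
/-- Conjugacy in the coset of a standard field automorphism. -/
theorem exists_conj_field [Finite F] (hn : 2 ≤ n) (σ : F ≃+* F) (hr : 0 < orderOf σ)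
    (g : GL (Fin n) F)
    (h : (descend (cj g) * stdAut n σ false) ^ orderOf σ = 1) :
    ∃ k : GL (Fin n) F, descend (cj g) * stdAut n σ false =
      descend (cj k) * stdAut n σ false * (descend (cj k))⁻¹ := by
  have hp : stdAut n σ false ^ orderOf σ = 1 := by
    have hfld : ∀ i, (fld σ : MulAut SLn) ^ i = fld (σ ^ i) := by
      intro i
      induction i with
      | zero => exact fld_one.symm
      | succ i ih => rw [pow_succ, ih, pow_succ, fld_mul]; rfl
    rw [stdAut, ← map_pow, show (fld σ * gpart false : MulAut SLn) = fld σ by simp [gpart], hfld,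
      pow_orderOf_eq_one]
    rw [show ((1 : F ≃+* F)) = RingEquiv.refl F from rfl, fld_one, map_one]
  rw [cyc_pow, hp, mul_one, descend_cj_eq_one_iff p hn, twist_false] at h
  have hfix := fixed_of_central (glMap σ) g (orderOf σ) (Units.ext (by
    rw [glMap_iterate, pow_orderOf_eq_one]; rfl)) h
  rw [Matrix.GeneralLinearGroup.center_eq_range_scalar] at h
  obtain ⟨c, hc⟩ := h
  rw [← hc, glMap_scalar] at hfix
  have hcσ : uMap σ c = c := scalar_injective (by omega) hfix
  obtain ⟨l, hl⟩ := exists_norm_eq σ hr c hcσ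
  have hcl : ∀ i, cyc (glMap σ) (scal l⁻¹ : GL (Fin n) F) i = scal (cyc (uMap σ) l⁻¹ i) := fun i =>
    (map_cyc (uMap σ) (glMap σ) (scal : Fˣ →* GL (Fin n) F) (fun x => (glMap_scalar σ x).symm) l⁻¹ i).symm
  obtain ⟨k, hk⟩ := exists_descent σ hr (g * scal l⁻¹) (by
    rw [cyc_mul_central _ _ _ (fun i => by rw [hcl]; exact scalar_mem_center _), hcl, ← hc, ← map_mul]
    have h1 : cyc (uMap σ) l⁻¹ (orderOf σ) = c⁻¹ := by
      refine eq_inv_of_mul_eq_one_left ?_
      rw [← hl, ← cyc_comm, inv_mul_cancel]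
      have : ∀ i, cyc (uMap σ) (1 : Fˣ) i = 1 := by
        intro i
        induction i with
        | zero => rfl
        | succ i ih => rw [cyc, ih, map_one, one_mul]
      exact this _
    rw [h1, mul_inv_cancel, map_one])
  refine ⟨k, ?_⟩
  rw [conj_stdAut, twist_false]
  have : g * scal l⁻¹ = k * (glMap σ k)⁻¹ := eq_mul_inv_iff_mul_eq.mpr hk
  rw [← this, map_mul cj, cj_eq_one_of_mem_center (scalar_mem_center _), mul_one]

/-- Conjugacy in the coset of a standard graph-field automorphism. -/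
theorem exists_conj_graphField (hn : 2 ≤ n) (σ : F ≃+* F) (hσ : ∀ a, σ (σ a) = a)
    (hne : σ ≠ RingEquiv.refl F) (g : GL (Fin n) F)
    (h : (descend (cj g) * stdAut n σ true) ^ 2 = 1) :
    ∃ k : GL (Fin n) F, descend (cj g) * stdAut n σ true =
      descend (cj k) * stdAut n σ true * (descend (cj k))⁻¹ := by
  have hp : stdAut n σ true ^ 2 = 1 := by
    rw [stdAut, ← map_pow, pow_two, show (fld σ * gpart true : MulAut SLn) = fld σ * itp from rfl,
      mul_assoc, ← mul_assoc itp, ← fld_mul_itp, mul_assoc, itp_mul_itp, mul_one, fld_mul]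
    rw [show σ.trans σ = RingEquiv.refl F from RingEquiv.ext hσ, fld_one, map_one]
  rw [cyc_pow, hp, mul_one, descend_cj_eq_one_iff p hn] at h
  have hfix := fixed_of_central (twist σ true) g 2 (twist_true_twist_true σ hσ g) h
  rw [Matrix.GeneralLinearGroup.center_eq_range_scalar] at h
  obtain ⟨c, hc⟩ := h
  rw [← hc, twist_true_scalar] at hfix
  have hcσ : (uMap σ c)⁻¹ = c := scalar_injective (by omega) hfix
  have hord : orderOf σ = 2 := orderOf_eq_prime (RingEquiv.ext fun a => by rw [pow_two]; exact hσ a) hne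
  obtain ⟨b, hb⟩ := exists_hilbert90 σ (by omega) c (by
    rw [hord, cyc_two, ← inv_eq_iff_mul_eq_one.mp (inv_eq_iff_eq_inv.mp hcσ).symm])
  set g' := g * scal b⁻¹ with hg'
  have hHerm : ((g' : Mat).map σ)ᵀ = (g' : Mat) := by
    rw [← twist_true_inv]
    refine congrArg Units.val (inv_eq_of_mul_eq_one_left ?_)
    rw [cyc_two] at hc
    rw [hg', map_mul, twist_true_scalar, mul_assoc, ← mul_assoc (scal b⁻¹ : GL (Fin n) F),
      ← Subgroup.mem_center_iff.mp (scalar_mem_center b⁻¹) (twist σ true g), mul_assoc, ← mul_assoc g,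
      ← hc, ← map_mul, ← map_mul, map_inv (uMap σ), inv_inv, hb]
    rw [mul_assoc, ← mul_assoc (uMap σ b)⁻¹]
    rw [show b * ((uMap σ b)⁻¹ * b⁻¹ * uMap σ b) = 1 by
      rw [mul_comm (uMap σ b)⁻¹, inv_mul_cancel_right, mul_inv_cancel], map_one]
  obtain ⟨k, hk⟩ := exists_hermitian_congr σ hσ hne g' hHerm
  refine ⟨k, ?_⟩
  rw [conj_stdAut]
  have : g' = k * (twist σ true k)⁻¹ :=
    Units.ext (hk.trans (by rw [Units.val_mul, twist_true_inv]))
  rw [← this, hg', map_mul cj, cj_eq_one_of_mem_center (scalar_mem_center _), mul_one]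

omit [Finite F] in
theorem commute_stdAut_iff (hn : 2 ≤ n) (σ : F ≃+* F) (ε : Bool) (g : GL (Fin n) F) :
    Commute (descend (cj g)) (stdAut n σ ε) ↔
      g⁻¹ * twist σ ε g ∈ Subgroup.center (GL (Fin n) F) := by
  rw [← descend_cj_eq_one_iff p hn, commute_iff_eq, stdAut_mul_cj, mul_left_inj, map_mul, map_mul,
    map_inv, map_inv, inv_mul_eq_one]

/-- An element commuting with a standard field automorphism is fixed up to a scalar. -/
theorem exists_fixed_field (hn : 2 ≤ n) (σ : F ≃+* F) (hr : 0 < orderOf σ) (g : GL (Fin n) F)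
    (h : g⁻¹ * twist σ false g ∈ Subgroup.center (GL (Fin n) F)) :
    ∃ b : Fˣ, twist σ false (g * scal b) = g * scal b := by
  rw [Matrix.GeneralLinearGroup.center_eq_range_scalar] at h
  obtain ⟨c, hc⟩ := h
  rw [eq_inv_mul_iff_mul_eq, twist_false] at hc
  have hiter : ∀ i, (glMap σ : GL (Fin n) F → GL (Fin n) F)^[i] g =
      g * scal (cyc (uMap σ) c i) := by
    intro i
    induction i with
    | zero => simp [cyc]
    | succ i ih =>
      rw [Function.iterate_succ_apply', ih, map_mul, glMap_scalar, ← hc, cyc, mul_assoc, map_mul]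
  have h1 : cyc (uMap σ) c (orderOf σ) = 1 := by
    refine scalar_injective (n := n) (by omega) (mul_left_cancel (a := g) ?_)
    rw [← hiter, map_one, mul_one]
    exact Units.ext (by rw [glMap_iterate, pow_orderOf_eq_one]; rfl)
  obtain ⟨b, hb⟩ := exists_hilbert90 σ hr c h1
  refine ⟨b, ?_⟩
  rw [twist_false, map_mul, glMap_scalar, ← hc, mul_assoc, ← map_mul, hb, inv_mul_cancel_right]

/-- An element commuting with a standard graph-field automorphism is unitary up to a scalar. -/
theorem exists_fixed_graphField (hn : 2 ≤ n) (σ : F ≃+* F) (hσ : ∀ a, σ (σ a) = a)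
    (hne : σ ≠ RingEquiv.refl F) (g : GL (Fin n) F)
    (h : g⁻¹ * twist σ true g ∈ Subgroup.center (GL (Fin n) F)) :
    ∃ b : Fˣ, twist σ true (g * scal b) = g * scal b := by
  rw [Matrix.GeneralLinearGroup.center_eq_range_scalar] at h
  obtain ⟨c, hc⟩ := h
  rw [eq_inv_mul_iff_mul_eq] at hc
  have h1 := twist_true_twist_true σ hσ g
  rw [← hc, map_mul, twist_true_scalar, ← hc, mul_assoc, ← map_mul, mul_eq_left] at h1
  have hcσ : uMap σ c = c := (mul_inv_eq_one.mp (scalar_injective (n := n) (by omega) (h1.trans (map_one _).symm))).symm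
  have hord : orderOf σ = 2 := orderOf_eq_prime (RingEquiv.ext fun a => by rw [pow_two]; exact hσ a) hne
  obtain ⟨l, hl⟩ := exists_norm_eq σ (by omega) c hcσ
  rw [hord, cyc_two] at hl
  refine ⟨l, ?_⟩
  rw [map_mul, twist_true_scalar, ← hc, mul_assoc, ← map_mul, ← hl, mul_inv_cancel_right]

/-- The centraliser of a standard automorphism in the inner-diagonal group. -/
theorem centralizer_equiv (hn : 2 ≤ n) (σ : F ≃+* F) (ε : Bool) {M : Type*} [Group M]
    (ι : M →* GL (Fin n) F) (hfix : ∀ m, twist σ ε (ι m) = ι m)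
    (hsurj : ∀ g : GL (Fin n) F, g⁻¹ * twist σ ε g ∈ Subgroup.center (GL (Fin n) F) →
      ∃ (m : M) (b : Fˣ), g * scal b = ι m)
    (N : Subgroup M) [N.Normal] (hN : N = (Subgroup.center (GL (Fin n) F)).comap ι) :
    Nonempty (↥(Cfsg.inndiagPSL n F ⊓ Subgroup.centralizer {stdAut n σ ε}) ≃* M ⧸ N) := by
  let Φ : M →* ↥(Cfsg.inndiagPSL n F ⊓ Subgroup.centralizer {stdAut n σ ε}) :=
    ((descend.comp cj).comp ι).codRestrict _ (fun m => ⟨by rw [inndiagPSL_eq]; exact ⟨ι m, rfl⟩,
      Subgroup.mem_centralizer_singleton_iff.mpr (((commute_stdAut_iff p hn σ ε (ι m)).mpr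
        (by rw [hfix, inv_mul_cancel]; exact one_mem _)).eq)⟩)
  have hΦ : Function.Surjective Φ := by
    rintro ⟨x, hx1, hx2⟩
    rw [inndiagPSL_eq] at hx1
    obtain ⟨g, rfl⟩ := hx1
    have hcom : Commute (descend (cj g)) (stdAut n σ ε) :=
      Subgroup.mem_centralizer_singleton_iff.mp hx2
    obtain ⟨m, b, hm⟩ := hsurj g ((commute_stdAut_iff p hn σ ε g).mp hcom)
    refine ⟨m, Subtype.ext ?_⟩
    show descend (cj (ι m)) = descend (cj g)
    rw [← hm, map_mul cj, cj_eq_one_of_mem_center (scalar_mem_center _), mul_one]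
  refine ⟨((QuotientGroup.quotientMulEquivOfEq ?_).trans
    (QuotientGroup.quotientKerEquivOfSurjective Φ hΦ)).symm⟩
  ext m
  rw [hN, Subgroup.mem_comap, MonoidHom.mem_ker, ← descend_cj_eq_one_iff p hn]
  exact ⟨fun h => Subtype.ext h, fun h => congrArg Subtype.val h⟩

omit [Finite F] in
/-- The number of classes under inner automorphisms inside the class of a standard automorphism. -/
theorem splitClassCount_eq (hn : 2 ≤ n) (σ : F ≃+* F) (ε : Bool) {M : Type*} [Group M]
    (ι : M →* GL (Fin n) F) (hfix : ∀ m, twist σ ε (ι m) = ι m)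
    (hsurj : ∀ g : GL (Fin n) F, g⁻¹ * twist σ ε g ∈ Subgroup.center (GL (Fin n) F) →
      ∃ (m : M) (b : Fˣ), g * scal b = ι m) :
    Cfsg.splitClassCount (Cfsg.inndiagPSL n F) (Cfsg.Inn PSLn) (stdAut n σ ε) =
      ((powMonoidHom n : Fˣ →* Fˣ).range ⊔
        (Matrix.GeneralLinearGroup.det.comp ι).range).index := by
  set D := (powMonoidHom n : Fˣ →* Fˣ).range ⊔ (Matrix.GeneralLinearGroup.det.comp ι).range with hD
  set x := stdAut n σ ε with hx
  have hrep : ∀ y : {y // Cfsg.IsConjUnder (Cfsg.inndiagPSL n F) x y},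
      ∃ g : GL (Fin n) F, y.1 = descend (cj g) * x * (descend (cj g))⁻¹ := by
    rintro ⟨y, h, hh, rfl⟩
    rw [inndiagPSL_eq] at hh
    obtain ⟨g, rfl⟩ := hh
    exact ⟨g, rfl⟩
  choose rep hrep using hrep
  have hcls : ∀ g g' : GL (Fin n) F,
      descend (cj g) * x * (descend (cj g))⁻¹ = descend (cj g') * x * (descend (cj g'))⁻¹ →
      (QuotientGroup.mk (Matrix.GeneralLinearGroup.det g) : Fˣ ⧸ D) =
        QuotientGroup.mk (Matrix.GeneralLinearGroup.det g') := by
    intro g g' h
    have hcom : Commute (descend (cj (g⁻¹ * g'))) x := by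
      rw [commute_iff_eq, map_mul, map_mul, map_inv, map_inv]
      have h2 := congrArg (fun z => (descend (cj g))⁻¹ * z * descend (cj g')) h
      simp only [mul_assoc, inv_mul_cancel_left, inv_mul_cancel, mul_one] at h2
      simpa [mul_assoc] using h2.symm
    obtain ⟨m, b, hm⟩ := hsurj _ ((commute_stdAut_iff p hn σ ε _).mp hcom)
    refine QuotientGroup.eq.mpr ?_
    have h3 : (Matrix.GeneralLinearGroup.det g)⁻¹ * Matrix.GeneralLinearGroup.det g' =
        (b ^ n)⁻¹ * Matrix.GeneralLinearGroup.det (ι m) := by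
      rw [← hm, map_mul, map_mul, map_inv, det_scalar,
        mul_comm ((Matrix.GeneralLinearGroup.det g)⁻¹ * _) (b ^ n), inv_mul_cancel_left]
    rw [h3]
    exact mul_mem (inv_mem (Subgroup.mem_sup_left ⟨b, rfl⟩)) (Subgroup.mem_sup_right ⟨m, rfl⟩)
  let f : {y // Cfsg.IsConjUnder (Cfsg.inndiagPSL n F) x y} → Fˣ ⧸ D :=
    fun y => QuotientGroup.mk (Matrix.GeneralLinearGroup.det (rep y))
  have hresp : ∀ y z, Cfsg.IsConjUnder (Cfsg.Inn PSLn) y.1 z.1 → f y = f z := by
    rintro y z ⟨k, ⟨a, rfl⟩, hk⟩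
    obtain ⟨s, rfl⟩ := proj_surjective a
    rw [hrep y, hrep z, ← descend_conj, ← cj_toGL] at hk
    have := hcls (Matrix.SpecialLinearGroup.toGL s * rep y) (rep z) (by
      rw [hk]
      simp [mul_assoc])
    rw [map_mul, show Matrix.GeneralLinearGroup.det (Matrix.SpecialLinearGroup.toGL s) = (1 : Fˣ) from
      Units.ext (by simp), one_mul] at this
    exact this
  show Nat.card (Quot fun y z : {y // Cfsg.IsConjUnder (Cfsg.inndiagPSL n F) x y} =>
    Cfsg.IsConjUnder (Cfsg.Inn PSLn) y.1 z.1) = Nat.card (Fˣ ⧸ D)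
  refine Nat.card_congr (Equiv.ofBijective (Quot.lift f hresp) ⟨?_, ?_⟩)
  · intro q q'
    induction q using Quot.ind with | _ y => ?_
    induction q' using Quot.ind with | _ z => ?_
    intro h
    obtain ⟨u, ⟨b, hb⟩, v, ⟨m, hm⟩, he⟩ := Subgroup.mem_sup.mp (QuotientGroup.eq.mp h)
    set g1 := rep y * (scal b * ι m) with hg1
    have hmem : rep z * g1⁻¹ ∈ (Matrix.SpecialLinearGroup.toGL : SLn →* GL (Fin n) F).range := by
      rw [LinGrp.range_toGL_eq_ker_det, MonoidHom.mem_ker, map_mul, map_inv, mul_inv_eq_one, hg1,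
        map_mul, map_mul, det_scalar]
      rw [powMonoidHom_apply] at hb
      rw [MonoidHom.comp_apply] at hm
      rw [hb, hm, he, mul_inv_cancel_left]
    obtain ⟨s, hs⟩ := hmem
    refine Quot.sound ⟨MulAut.conj (proj n F s), ⟨_, rfl⟩, ?_⟩
    rw [hrep y, hrep z, ← descend_conj, ← cj_toGL, hs]
    have hc : descend (cj (scal b * ι m)) * x * (descend (cj (scal b * ι m)))⁻¹ = x := by
      have hh : Commute (descend (cj (scal b * ι m))) x := by
        refine (commute_stdAut_iff p hn σ ε _).mpr ?_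
        rw [map_mul, hfix, _root_.mul_inv_rev, mul_assoc]
        have h1 : twist σ ε (scal b) ∈ Subgroup.center (GL (Fin n) F) := by
          cases ε
          · rw [twist_false, glMap_scalar]; exact scalar_mem_center _
          · rw [twist_true_scalar]; exact scalar_mem_center _
        rw [← mul_assoc (scal b)⁻¹,
          ← Subgroup.mem_center_iff.mp (mul_mem (inv_mem (scalar_mem_center b)) h1) (ι m),
          inv_mul_cancel_left]
        exact mul_mem (inv_mem (scalar_mem_center b)) h1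
      rw [hh.eq, mul_inv_cancel_right]
    have hz : descend (cj (rep z)) = descend (cj (rep z * g1⁻¹)) *
        (descend (cj (rep y)) * descend (cj (scal b * ι m))) := by
      simp only [← map_mul]
      rw [← hg1, inv_mul_cancel_right]
    conv_lhs => rw [hz]
    generalize descend (cj (scal b * ι m)) = A at hc
    generalize descend (cj (rep y)) = B
    generalize descend (cj (rep z * g1⁻¹)) = C
    conv_rhs => rw [← hc]
    simp only [_root_.mul_inv_rev, mul_assoc]
  · intro w
    obtain ⟨u, rfl⟩ := QuotientGroup.mk_surjective w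
    have hy : Cfsg.IsConjUnder (Cfsg.inndiagPSL n F) x
        (descend (cj (oneDiag (by omega : 0 < n) u)) * x *
          (descend (cj (oneDiag (by omega : 0 < n) u)))⁻¹) :=
      ⟨_, by rw [inndiagPSL_eq]; exact ⟨_, rfl⟩, rfl⟩
    refine ⟨Quot.mk _ ⟨_, hy⟩, ?_⟩
    have := hcls _ _ (hrep ⟨_, hy⟩).symm
    rw [det_oneDiag] at this
    exact this

/-- Every element of the class of a standard automorphism is conjugate to it in the inner-diagonal
group. -/
theorem exists_inndiag_conj (hn : 2 ≤ n) (σ : F ≃+* F) (ε : Bool)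
    (α : MulAut PSLn) : ∃ g : GL (Fin n) F,
      α * stdAut n σ ε * α⁻¹ = descend (cj g) * stdAut n σ ε * (descend (cj g))⁻¹ := by
  obtain ⟨g, τ, a, rfl⟩ := exists_normal_form p hn α
  refine ⟨g, ?_⟩
  haveI : IsCyclic (F ≃+* F) := isCyclic_ringAut p
  have hcomm : Commute (fld τ * gpart a : MulAut SLn) (fld σ * gpart ε) := by
    have h1 : (fld τ * fld σ : MulAut SLn) = fld σ * fld τ := by
      rw [fld_mul, fld_mul]
      exact congrArg fld ((IsCyclic.commutative (α := F ≃+* F)).is_comm.comm τ σ)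
    show _ = _
    rw [mul_assoc, ← mul_assoc (gpart a), gpart_mul_fld, mul_assoc (fld σ),
      gpart_mul_gpart, Bool.xor_comm, ← gpart_mul_gpart, ← mul_assoc, h1]
    rw [mul_assoc (fld σ) (gpart ε), ← mul_assoc (gpart ε), gpart_mul_fld]
    simp only [mul_assoc]
  have hc' := hcomm.map descend
  rw [mul_assoc (cj g), map_mul descend (cj g), _root_.mul_inv_rev]
  simp only [mul_assoc]
  congr 1
  rw [← mul_assoc, ← mul_assoc, stdAut, hc'.eq, mul_inv_cancel_right]

end Finite

end Cfsg.Agent.AutPSL
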