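import Mathlib
import Cfsg.Prelude.Def_LieTypeDatum
import Cfsg.Agent.Lib.AutPSL.Twisted

set_option autoImplicit false

/-!
The classes of field and graph-field automorphisms of prime order of `PSL_n(q)`.
-/

namespace Cfsg.Agent.AutPSL

open Matrix

universe u
variable {n : ℕ} {F : Type u} [Field F]

local notation "SLn" => Matrix.SpecialLinearGroup (Fin n) F
local notation "PSLn" => Matrix.ProjectiveSpecialLinearGroup (Fin n) F
local notation "Mat" => Matrix (Fin n) (Fin n) F
local notation "scal" => Matrix.GeneralLinearGroup.scalar (Fin n)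

section Group

variable {X : Type*} [Group X]

theorem isConjUnder_iff_of_conj (H : Subgroup X) {h x : X} (hh : h ∈ H) (y : X) :
    Cfsg.IsConjUnder H (h * x * h⁻¹) y ↔ Cfsg.IsConjUnder H x y := by
  constructor
  · rintro ⟨k, hk, rfl⟩
    exact ⟨k * h, mul_mem hk hh, by simp [mul_assoc]⟩
  · rintro ⟨k, hk, rfl⟩
    exact ⟨k * h⁻¹, mul_mem hk (inv_mem hh), by simp [mul_assoc]⟩

theorem splitClassCount_conj (H K : Subgroup X) {h x : X} (hh : h ∈ H) :
    Cfsg.splitClassCount H K (h * x * h⁻¹) = Cfsg.splitClassCount H K x := by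
  have : Cfsg.IsConjUnder H (h * x * h⁻¹) = Cfsg.IsConjUnder H x :=
    funext fun y => propext (isConjUnder_iff_of_conj H hh y)
  unfold Cfsg.splitClassCount
  rw [this]

theorem orderOf_conj (h x : X) : orderOf (h * x * h⁻¹) = orderOf x :=
  (MulAut.conj h).orderOf_eq x

/-- Transport of a centraliser along conjugation. -/
theorem centralizer_conj (H : Subgroup X) {h x : X} (hh : h ∈ H) :
    Nonempty (↥(H ⊓ Subgroup.centralizer {h * x * h⁻¹}) ≃* ↥(H ⊓ Subgroup.centralizer {x})) := by
  refine ⟨MulEquiv.symm ((Subgroup.equivMapOfInjective _ (MulAut.conj h).toMonoidHom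
    (MulAut.conj h).injective).trans (MulEquiv.subgroupCongr ?_))⟩
  refine le_antisymm ?_ ?_
  · rintro _ ⟨c, ⟨hc, hcx⟩, rfl⟩
    refine ⟨H.mul_mem (H.mul_mem hh hc) (H.inv_mem hh), Subgroup.mem_centralizer_singleton_iff.mpr ?_⟩
    have := Subgroup.mem_centralizer_singleton_iff.mp hcx
    simp only [MulEquiv.coe_toMonoidHom, MulAut.conj_apply, mul_assoc, inv_mul_cancel_left]
    rw [← mul_assoc c x, this, mul_assoc]
  · rintro d ⟨hd, hdx⟩
    refine ⟨h⁻¹ * d * h, ⟨H.mul_mem (H.mul_mem (H.inv_mem hh) hd) hh,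
      Subgroup.mem_centralizer_singleton_iff.mpr ?_⟩, by simp [mul_assoc]⟩
    have := Subgroup.mem_centralizer_singleton_iff.mp hdx
    have h2 := congrArg (fun z => h⁻¹ * z * h) this
    simpa [mul_assoc] using h2

end Group

theorem stdAut_false (σ : F ≃+* F) : stdAut n σ false = descend (fld σ : MulAut SLn) := by
  simp [stdAut, gpart]

theorem stdAut_true (σ : F ≃+* F) : stdAut n σ true = descend (fld σ * itp : MulAut SLn) := rfl

theorem pow_stdAut_false (σ : F ≃+* F) : ∀ i, stdAut n σ false ^ i = stdAut n (σ ^ i) false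
  | 0 => by
    rw [stdAut_false]
    show _ = descend (fld (RingEquiv.refl F))
    rw [fld_one, map_one, pow_zero]
  | i + 1 => by
    rw [pow_succ, pow_stdAut_false σ i, stdAut_false, stdAut_false, stdAut_false, ← map_mul,
      fld_mul, pow_succ]
    rfl

theorem sq_stdAut_true (σ : F ≃+* F) : stdAut n σ true ^ 2 = stdAut n (σ ^ 2) false := by
  rw [stdAut_true, stdAut_false, pow_two, ← map_mul, mul_assoc, ← mul_assoc itp, ← fld_mul_itp,
    mul_assoc, itp_mul_itp, mul_one, fld_mul, pow_two]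
  rfl

section Finite

variable (p : ℕ) [Fact p.Prime] [CharP F p] [Finite F]
include p

theorem inndiag_mem (g : GL (Fin n) F) : descend (cj g) ∈ Cfsg.inndiagPSL n F := by
  rw [inndiagPSL_eq]; exact ⟨g, rfl⟩

omit [Finite F] in
theorem stdAut_eq_one_iff (hn : 2 ≤ n) (σ : F ≃+* F) :
    stdAut n σ false = 1 ↔ σ = RingEquiv.refl F := by
  rw [stdAut_false]
  refine ⟨fun h => (eq_of_descend_eq_one p hn (g := 1) (σ := σ) (by rw [map_one, one_mul, h])).2, ?_⟩
  rintro rfl
  rw [fld_one, map_one]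

omit [Finite F] in
theorem orderOf_stdAut_false (hn : 2 ≤ n) (σ : F ≃+* F) :
    orderOf (stdAut n σ false) = orderOf σ := by
  refine orderOf_eq_orderOf_iff.mpr fun i => ?_
  rw [pow_stdAut_false, stdAut_eq_one_iff p hn]
  rfl

/-- A field automorphism is conjugate in the inner-diagonal group to a standard one. -/
theorem exists_field_rep (hn : 2 ≤ n) {x : MulAut PSLn} (hx : Cfsg.IsFieldAutClassPSL x) :
    ∃ (σ : F ≃+* F) (k : GL (Fin n) F), σ ≠ RingEquiv.refl F ∧
      x = descend (cj k) * stdAut n σ false * (descend (cj k))⁻¹ := by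
  obtain ⟨α, σ, hσ, hs⟩ := hx
  rw [isStdFieldAutPSL_iff] at hs
  obtain ⟨k, hk⟩ := exists_inndiag_conj p hn σ false α⁻¹
  refine ⟨σ, k, hσ, ?_⟩
  rw [← hk, stdAut_false, ← hs, inv_inv]
  simp [mul_assoc]

/-- A graph-field automorphism is conjugate in the inner-diagonal group to a standard one. -/
theorem exists_graphField_rep {x : MulAut PSLn} (hx : Cfsg.IsGraphFieldAutClassPSL x) :
    ∃ (σ : F ≃+* F) (k : GL (Fin n) F), 3 ≤ n ∧ σ ≠ RingEquiv.refl F ∧
      x = descend (cj k) * stdAut n σ true * (descend (cj k))⁻¹ := by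
  obtain ⟨h3, α, φ, γ, σ, hσ, hs, hg, he⟩ := hx
  rw [isStdFieldAutPSL_iff] at hs
  rw [isInverseTransposeAutPSL_iff] at hg
  obtain ⟨k, hk⟩ := exists_inndiag_conj p (by omega : 2 ≤ n) σ true α⁻¹
  refine ⟨σ, k, h3, hσ, ?_⟩
  rw [← hk, stdAut_true, map_mul, ← hs, ← hg, ← he, inv_inv]
  simp [mul_assoc]

omit [Finite F] in
/-- A graph-field automorphism of prime order is an involution. -/
theorem graphField_prime_order (hn : 3 ≤ n) (σ : F ≃+* F) {r : ℕ} (hr : r.Prime)
    (h : orderOf (stdAut n σ true) = r) : r = 2 ∧ ∀ a, σ (σ a) = a := by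
  have h2 : r = 2 := by
    by_contra hne
    obtain ⟨i, hi⟩ := hr.odd_of_ne_two hne
    have hp := pow_orderOf_eq_one (stdAut n σ true)
    rw [h, hi, pow_succ, pow_mul, sq_stdAut_true, pow_stdAut_false, stdAut_false, stdAut_true,
      ← map_mul, ← mul_assoc, fld_mul] at hp
    refine descend_itp_ne p hn 1 (σ.trans ((σ ^ 2) ^ i)) ?_
    rw [map_one, one_mul]
    exact hp
  subst h2
  have hp := pow_orderOf_eq_one (stdAut n σ true)
  rw [h, sq_stdAut_true, stdAut_eq_one_iff p (by omega)] at hp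
  exact ⟨rfl, fun a => by rw [pow_two] at hp; exact RingEquiv.congr_fun hp a⟩

/-- Conjugacy in the coset of a field or graph-field automorphism of prime order. -/
theorem coset_conj_iff (hn : 2 ≤ n) {x δ : MulAut PSLn}
    (hx : Cfsg.IsFieldAutClassPSL x ∨ Cfsg.IsGraphFieldAutClassPSL x) {r : ℕ} (hr : r.Prime)
    (hxr : orderOf x = r) (hδ : δ ∈ Cfsg.inndiagPSL n F) :
    orderOf (δ * x) = r ↔ Cfsg.IsConjUnder (Cfsg.inndiagPSL n F) x (δ * x) := by
  constructor
  swap
  · rintro ⟨h, -, he⟩
    rw [he, orderOf_conj, hxr]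
  intro hord
  have key : ∀ (k : GL (Fin n) F) (σ : F ≃+* F) (ε : Bool),
      x = descend (cj k) * stdAut n σ ε * (descend (cj k))⁻¹ →
      (∀ g : GL (Fin n) F, (descend (cj g) * stdAut n σ ε) ^ r = 1 → ∃ l : GL (Fin n) F,
        descend (cj g) * stdAut n σ ε = descend (cj l) * stdAut n σ ε * (descend (cj l))⁻¹) →
      Cfsg.IsConjUnder (Cfsg.inndiagPSL n F) x (δ * x) := by
    intro k σ ε hxe hcore
    rw [inndiagPSL_eq] at hδ
    obtain ⟨d, rfl⟩ := hδ
    have e1 : (descend.comp cj) d * x = descend (cj k) *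
        (descend (cj (k⁻¹ * d * k)) * stdAut n σ ε) * (descend (cj k))⁻¹ := by
      rw [hxe, MonoidHom.comp_apply, map_mul cj, map_mul cj, map_mul descend, map_mul descend,
        map_inv, map_inv]
      simp [mul_assoc]
    rw [e1, orderOf_conj] at hord
    obtain ⟨l, hl⟩ := hcore _ (by rw [← hord]; exact pow_orderOf_eq_one _)
    rw [e1, hl, hxe, isConjUnder_iff_of_conj _ (inndiag_mem p k)]
    exact ⟨descend (cj k) * descend (cj l), mul_mem (inndiag_mem p k) (inndiag_mem p l),
      by simp [mul_assoc]⟩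
  rcases hx with hx | hx
  · obtain ⟨σ, k, -, hxe⟩ := exists_field_rep p hn hx
    have hσr : orderOf σ = r := by rw [← hxr, hxe, orderOf_conj, orderOf_stdAut_false p hn]
    exact key k σ false hxe fun g hg =>
      exists_conj_field p hn σ (by rw [hσr]; exact hr.pos) g (by rwa [hσr])
  · obtain ⟨σ, k, h3, hσ, hxe⟩ := exists_graphField_rep p hx
    obtain ⟨rfl, hσ2⟩ := graphField_prime_order p h3 σ hr (by rw [← hxr, hxe, orderOf_conj])
    exact key k σ true hxe fun g hg => exists_conj_graphField p hn σ hσ2 hσ g hg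

end Finite

theorem index_pow_sup [Finite F] (S : Subgroup Fˣ) (k : ℕ) :
    ((powMonoidHom k : Fˣ →* Fˣ).range ⊔ S).index = Nat.gcd S.index k := by
  have hQ : IsCyclic (Fˣ ⧸ S) := isCyclic_of_surjective _ (QuotientGroup.mk'_surjective S)
  have h1 : (powMonoidHom k : Fˣ →* Fˣ).range.map (QuotientGroup.mk' S) =
      (powMonoidHom (α := Fˣ ⧸ S) k).range := by
    ext x
    constructor
    · rintro ⟨_, ⟨b, rfl⟩, rfl⟩
      exact ⟨QuotientGroup.mk' S b, by simp⟩
    · rintro ⟨b, rfl⟩
      obtain ⟨b, rfl⟩ := QuotientGroup.mk'_surjective S b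
      exact ⟨b ^ k, ⟨b, rfl⟩, by simp⟩
  have h2 := Subgroup.index_map (powMonoidHom k : Fˣ →* Fˣ).range (QuotientGroup.mk' S)
  rw [h1, IsCyclic.index_powMonoidHom_range, QuotientGroup.ker_mk',
    MonoidHom.range_eq_top.mpr (QuotientGroup.mk'_surjective S), Subgroup.index_top, mul_one] at h2
  rw [← h2]
  rfl

section FieldFix

variable [Finite F] (σ : F ≃+* F) {F₀ : Type*} [Field F₀] (j : F₀ →+* F)
  (hj : ∀ a, σ a = a ↔ a ∈ j.range)

include hj

omit [Finite F] in
theorem glMap_fixed (m : GL (Fin n) F₀) :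
    glMap σ (Matrix.GeneralLinearGroup.map j m) = Matrix.GeneralLinearGroup.map j m := by
  refine Units.ext ?_
  ext a b
  rw [glMap_coe, Matrix.map_apply]
  exact (hj _).mpr ⟨_, rfl⟩

omit [Finite F] in
theorem exists_map_eq (g : GL (Fin n) F) (hg : glMap σ g = g) :
    ∃ m : GL (Fin n) F₀, Matrix.GeneralLinearGroup.map j m = g := by
  have hent : ∀ a b, (g : Mat) a b ∈ j.range := fun a b =>
    (hj _).mp (congrArg (fun x : GL (Fin n) F => (x : Mat) a b) hg)
  choose M hM using hent
  have hmap : (Matrix.of M).map j = (g : Mat) := by ext a b; exact hM a b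
  have hu : IsUnit (Matrix.of M) := by
    rw [Matrix.isUnit_iff_isUnit_det, isUnit_iff_ne_zero]
    intro h0
    have := (Matrix.isUnit_iff_isUnit_det (g : Mat)).mp g.isUnit
    rw [← hmap, ← RingHom.mapMatrix_apply, ← RingHom.map_det, h0, map_zero] at this
    exact not_isUnit_zero this
  exact ⟨hu.unit, Units.ext hmap⟩

omit [Finite F] hj in
theorem center_comap (hn : 0 < n) :
    Subgroup.center (GL (Fin n) F₀) =
      (Subgroup.center (GL (Fin n) F)).comap (Matrix.GeneralLinearGroup.map j) := by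
  refine le_antisymm (fun m hm => ?_) (fun m hm => ?_)
  · rw [Matrix.GeneralLinearGroup.center_eq_range_scalar] at hm
    obtain ⟨c, rfl⟩ := hm
    rw [Subgroup.mem_comap, Matrix.GeneralLinearGroup.center_eq_range_scalar]
    exact ⟨Units.map j.toMonoidHom c, Units.ext (by
      ext a b; rw [scalar_coe]; show _ = j ((Matrix.GeneralLinearGroup.scalar (Fin n) c).val a b)
      rw [scalar_coe]; simp [Matrix.one_apply, apply_ite j])⟩
  · refine Subgroup.mem_center_iff.mpr fun z => ?_
    have h := Subgroup.mem_center_iff.mp hm (Matrix.GeneralLinearGroup.map j z)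
    rw [← map_mul, ← map_mul] at h
    refine Units.ext ?_
    ext a b
    exact j.injective (congrArg (fun x : GL (Fin n) F => (x : Mat) a b) h)

omit [Finite F] hj in
theorem det_range_field (hn : 0 < n) :
    ((Matrix.GeneralLinearGroup.det : GL (Fin n) F →* Fˣ).comp
      (Matrix.GeneralLinearGroup.map j)).range = (Units.map j.toMonoidHom).range := by
  haveI : Nonempty (Fin n) := ⟨⟨0, hn⟩⟩
  refine le_antisymm ?_ ?_
  · rintro _ ⟨m, rfl⟩
    exact ⟨Matrix.GeneralLinearGroup.det m, by
      ext; simp [Matrix.GeneralLinearGroup.val_det_apply, RingHom.map_det]⟩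
  · rintro _ ⟨c, rfl⟩
    obtain ⟨m, rfl⟩ := LinGrp.det_surjective (n := Fin n) c
    exact ⟨m, by ext; simp [Matrix.GeneralLinearGroup.val_det_apply, RingHom.map_det]⟩

end FieldFix

end Cfsg.Agent.AutPSL

namespace Cfsg.Agent.AutPSL

open Matrix

universe u
variable {n : ℕ} {F : Type u} [Field F]

local notation "Mat" => Matrix (Fin n) (Fin n) F
local notation "scal" => Matrix.GeneralLinearGroup.scalar (Fin n)

theorem card_fixedField [Fintype F] {p f r : ℕ} [Fact p.Prime] [CharP F p]
    (hF : Fintype.card F = p ^ f) (σ : F ≃+* F) (hr : orderOf σ = r) (hr0 : 0 < r) :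
    r ∣ f ∧ Nat.card ((σ : F →+* F).eqLocusField (RingHom.id F)) = p ^ (f / r) := by
  have hd : r ∣ f := by
    rw [← hr, ← card_ringAut p f hF]
    exact orderOf_dvd_natCard σ
  refine ⟨hd, Nat.pow_left_injective (by omega : r ≠ 0) ?_⟩
  show _ ^ r = _ ^ r
  have h := card_eq_card_fixed_pow σ
  rw [hr, Nat.card_eq_fintype_card (α := F), hF] at h
  rw [← h, ← pow_mul, Nat.div_mul_cancel hd]

theorem index_units_range [Finite F] {F₀ : Type*} [Field F₀] (j : F₀ →+* F) :
    (Units.map j.toMonoidHom).range.index = (Nat.card F - 1) / (Nat.card F₀ - 1) := by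
  haveI : Finite F₀ := Finite.of_injective j j.injective
  have h := Subgroup.card_mul_index (Units.map j.toMonoidHom).range
  rw [← Nat.card_congr (MonoidHom.ofInjective (Units.map_injective (f := j.toMonoidHom) j.injective)).toEquiv,
    Nat.card_units, Nat.card_units] at h
  rw [← h, Nat.mul_div_cancel_left]
  have : 1 < Nat.card F₀ := Finite.one_lt_card
  omega

/-- The involution of a field of order `p^f` is the power map with exponent `p^(f/2)`. -/
theorem involution_eq_pow [Fintype F] {p f : ℕ} [Fact p.Prime] [CharP F p]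
    (hF : Fintype.card F = p ^ f) (σ : F ≃+* F) (hσ : ∀ a, σ (σ a) = a)
    (hne : σ ≠ RingEquiv.refl F) : Even f ∧ ∀ a, σ a = a ^ p ^ (f / 2) := by
  classical
  have hord : orderOf σ = 2 :=
    orderOf_eq_prime (RingEquiv.ext fun a => by rw [pow_two]; exact hσ a) hne
  obtain ⟨hd, -⟩ := card_fixedField hF σ hord two_pos
  refine ⟨even_iff_two_dvd.mpr hd, ?_⟩
  set τ : F ≃+* F := iterateFrobeniusEquiv F p (f / 2) with hτ
  have hτa : ∀ a, τ a = a ^ p ^ (f / 2) := fun a => iterateFrobeniusEquiv_def _ _ _ a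
  have hτ2 : τ ^ 2 = 1 := RingEquiv.ext fun a => by
    show τ (τ a) = a
    rw [hτa, hτa, ← pow_mul, ← pow_add, show f / 2 + f / 2 = f by omega, ← hF, FiniteField.pow_card]
  have hτne : τ ≠ 1 := by
    intro h1
    obtain ⟨g, hg⟩ := IsCyclic.exists_generator (α := Fˣ)
    have hcard := orderOf_eq_card_of_forall_mem_zpowers hg
    rw [Nat.card_units, Nat.card_eq_fintype_card, hF] at hcard
    have hpos : 0 < f := by
      rcases Nat.eq_zero_or_pos f with rfl | h
      · exact absurd (Fintype.one_lt_card (α := F)) (by rw [hF]; simp)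
      · exact h
    have h0 : 0 < p ^ (f / 2) := pow_pos (Fact.out : p.Prime).pos _
    have h2 : g ^ (p ^ (f / 2) - 1) = 1 := by
      refine mul_right_cancel (b := g) ?_
      rw [← pow_succ, Nat.sub_add_cancel h0, one_mul]
      refine Units.ext ?_
      rw [Units.val_pow_eq_pow_val, ← hτa, h1]
      rfl
    have h3 := orderOf_dvd_of_pow_eq_one h2
    rw [hcard] at h3
    have h4 : p ^ (f / 2) < p ^ f := Nat.pow_lt_pow_right (Fact.out : p.Prime).one_lt (by omega)
    have h5 : 1 < p ^ (f / 2) := Nat.one_lt_pow (by omega) (Fact.out : p.Prime).one_lt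
    have := Nat.le_of_dvd (by omega) h3
    omega
  haveI : IsCyclic (F ≃+* F) := isCyclic_ringAut p
  haveI : Finite (F ≃+* F) := Finite.of_injective _ DFunLike.coe_injective
  haveI : Fintype (F ≃+* F) := Fintype.ofFinite _
  have hστ : σ = τ := by
    by_contra hne2
    have hle := IsCyclic.card_pow_eq_one_le (α := F ≃+* F) (n := 2) two_pos
    have hsub : ({1, σ, τ} : Finset (F ≃+* F)) ⊆ Finset.univ.filter (fun x => x ^ 2 = 1) := by
      intro x hx
      simp only [Finset.mem_insert, Finset.mem_singleton] at hx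
      rw [Finset.mem_filter]
      refine ⟨Finset.mem_univ _, ?_⟩
      rcases hx with rfl | rfl | rfl
      · exact one_pow 2
      · rw [← hord]; exact pow_orderOf_eq_one _
      · exact hτ2
    have h3 := (Finset.card_le_card hsub).trans hle
    rw [Finset.card_insert_of_notMem (by
        simp only [Finset.mem_insert, Finset.mem_singleton, not_or]
        exact ⟨fun e => hne e.symm, fun e => hτne e.symm⟩), Finset.card_pair hne2] at h3
    omega
  intro a
  rw [hστ, hτa]

theorem mem_GU_iff (σ : F ≃+* F) {q : ℕ} (hq : ∀ a, σ a = a ^ q) (hσ : ∀ a, σ (σ a) = a)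
    (g : GL (Fin n) F) : g ∈ Cfsg.GU n F q ↔ twist σ true g = g := by
  have hform : ∀ u v : Fin n → F, Cfsg.hermForm n F q u v = u ⬝ᵥ fun i => σ (v i) := by
    intro u v
    simp [Cfsg.hermForm, dotProduct, hq]
  have hmul : ∀ u v : Fin n → F,
      Cfsg.hermForm n F q ((g : Mat) *ᵥ u) ((g : Mat) *ᵥ v) =
        u ⬝ᵥ (((g : Mat)ᵀ * (g : Mat).map σ) *ᵥ fun i => σ (v i)) := by
    intro u v
    rw [hform, ← Matrix.mulVec_mulVec, Matrix.dotProduct_mulVec u ((g : Mat)ᵀ), Matrix.vecMul_transpose]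
    congr 1
    funext i
    simp [Matrix.mulVec, dotProduct, map_sum]
  have key : g ∈ Cfsg.GU n F q ↔ (g : Mat)ᵀ * (g : Mat).map σ = 1 := by
    constructor
    · intro h
      ext a b
      have h1 : Cfsg.hermForm n F q ((g : Mat) *ᵥ Pi.single a 1) ((g : Mat) *ᵥ Pi.single b 1) =
          Cfsg.hermForm n F q (Pi.single a 1) (Pi.single b 1) := h (Pi.single a 1) (Pi.single b 1)
      rw [hmul, hform] at h1
      have e : (fun i => σ ((Pi.single b 1 : Fin n → F) i)) = Pi.single b 1 := by
        funext i; simp [Pi.single_apply, apply_ite σ]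
      rw [e] at h1
      simpa [Matrix.mulVec_single, Matrix.one_apply, Pi.single_apply, eq_comm] using h1
    · intro h u v
      show Cfsg.hermForm n F q ((g : Mat) *ᵥ u) ((g : Mat) *ᵥ v) = Cfsg.hermForm n F q u v
      rw [hmul, hform, h, Matrix.one_mulVec]
  rw [key]
  constructor
  · intro h
    rw [← _root_.inv_inj]
    refine Units.ext ?_
    rw [twist_true_inv]
    have h2 : ((g : Mat).map σ)ᵀ * (g : Mat) = 1 := by
      have := congrArg Matrix.transpose h
      rwa [Matrix.transpose_mul, Matrix.transpose_transpose, Matrix.transpose_one] at this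
    exact (Units.inv_eq_of_mul_eq_one_left h2).symm
  · intro h
    have h1 := twist_true_inv σ g
    rw [h] at h1
    have h2 : ((g : Mat).map σ)ᵀ * (g : Mat) = 1 := by rw [← h1, Units.inv_mul]
    have := congrArg Matrix.transpose h2
    rwa [Matrix.transpose_mul, Matrix.transpose_transpose, Matrix.transpose_one] at this

theorem det_twist_true (σ : F ≃+* F) (g : GL (Fin n) F) :
    Matrix.GeneralLinearGroup.det (twist σ true g) = (uMap σ (Matrix.GeneralLinearGroup.det g))⁻¹ := by
  rw [← _root_.inv_inj, inv_inv, ← map_inv]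
  refine Units.ext ?_
  rw [Matrix.GeneralLinearGroup.val_det_apply, twist_true_inv, Matrix.det_transpose]
  exact (RingHom.map_det (σ : F →+* F) _).symm

theorem twist_true_oneDiag (hn : 0 < n) (σ : F ≃+* F) (l : Fˣ) :
    twist σ true (oneDiag (F := F) hn l) = oneDiag hn (uMap σ l)⁻¹ := by
  rw [map_inv, ← _root_.inv_inj, inv_inv]
  refine Units.ext ?_
  rw [twist_true_inv]
  show ((Matrix.diagonal (Pi.mulSingle (⟨0, hn⟩ : Fin n) (l : F))).map σ)ᵀ =
    Matrix.diagonal (Pi.mulSingle (⟨0, hn⟩ : Fin n) (σ (l : F)))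
  rw [Matrix.diagonal_map (map_zero σ), Matrix.diagonal_transpose]
  congr 1
  funext i
  simp [Pi.mulSingle_apply, apply_ite σ]

end Cfsg.Agent.AutPSL
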