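import Cfsg.Agent.Lib.AutPSL.GraphForm
import Cfsg.Agent.Lib.Forms.Models
import Cfsg.Agent.Lib.LinearGroups.OrthForms

/-!
# Models for the bilinear forms of graph automorphisms
-/

set_option autoImplicit false
set_option linter.unusedSectionVars false

namespace Cfsg.Agent.AutPSL

open Matrix

universe u

variable {ι : Type} [Fintype ι] [DecidableEq ι] {n : ℕ} {F : Type u} [Field F]

/-- `B` has, up to a scalar, the coordinates of the form `f`. -/
def HasModel (B : GL (Fin n) F) (f : (ι → F) → (ι → F) → F) : Prop :=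
  ∃ (L : (ι → F) ≃ₗ[F] (Fin n → F)) (d : Fˣ), ∀ u v, L u ⬝ᵥ (B.1 *ᵥ L v) = (d : F) * f u v

theorem HasModel.projQuot_equiv {B : GL (Fin n) F} {f : (ι → F) → (ι → F) → F} (h : HasModel B f) :
    Nonempty (Cfsg.projQuot (simB B.1) ≃* Cfsg.projQuot (Cfsg.Geo.similarityGroup f)) := by
  obtain ⟨L, d, hd⟩ := h
  obtain ⟨e⟩ := similarity_equiv f (fun u v => u ⬝ᵥ (B.1 *ᵥ v)) L d hd
  exact ⟨e.symm⟩

theorem HasModel.congr {B B' : GL (Fin n) F} {f : (ι → F) → (ι → F) → F} (h : HasModel B f) (h' : HasModel B' f) :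
    ∃ (g : GL (Fin n) F) (c : Fˣ), g.1ᵀ * B'.1 * g.1 = (c : F) • B.1 := by
  obtain ⟨L, d, hd⟩ := h
  obtain ⟨L', d', hd'⟩ := h'
  let g : GL (Fin n) F := Matrix.GeneralLinearGroup.toLin.symm
    (LinearMap.GeneralLinearGroup.ofLinearEquiv (L.symm.trans L'))
  have hg : ∀ v, g.1 *ᵥ v = L' (L.symm v) := fun v => LinearMap.toMatrix'_mulVec _ _
  refine ⟨g, d' * d⁻¹, ext_form fun u v => ?_⟩
  have h1 := hd (L.symm u) (L.symm v)
  rw [L.apply_symm_apply, L.apply_symm_apply] at h1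
  rw [← form_mulVec, hg, hg, hd', Matrix.smul_mulVec, dotProduct_smul, smul_eq_mul, h1, Units.val_mul,
    Units.val_inv_eq_inv_val]
  field_simp

/-- A matrix with given coordinates. -/
theorem exists_gl_model (M : Matrix ι ι F) (hM : M.det ≠ 0) (e : ι ≃ Fin n) :
    ∃ B : GL (Fin n) F, B.1 = M.submatrix e.symm e.symm ∧ HasModel B fun u v => u ⬝ᵥ (M *ᵥ v) := by
  refine ⟨Matrix.GeneralLinearGroup.mkOfDetNeZero (M.submatrix e.symm e.symm)
    (by rwa [Matrix.det_submatrix_equiv_self]), rfl, LinearEquiv.funCongrLeft F F e.symm, 1, fun u v => ?_⟩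
  rw [Units.val_one, one_mul]
  show (fun a => u (e.symm a)) ⬝ᵥ (M.submatrix e.symm e.symm *ᵥ fun a => v (e.symm a)) = _
  simp only [dotProduct, Matrix.mulVec, Matrix.submatrix_apply]
  refine (Fintype.sum_equiv e.symm _ _ fun a => ?_)
  congr 1
  exact Fintype.sum_equiv e.symm _ _ fun b => rfl

/-- Alternating invertible matrices carry the symplectic form. -/
theorem hasModel_alt {m : ℕ} (hnm : n = 2 * m) (B : GL (Fin n) F) (hB : ∀ x, x ⬝ᵥ (B.1 *ᵥ x) = 0) :
    HasModel B (Cfsg.sympForm m F) := by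
  obtain ⟨L, hL⟩ := FormModel.exists_symp_coords (B := Matrix.toBilin' B.1)
    (fun x => by rw [Matrix.toBilin'_apply']; exact hB x)
    (fun u hu => (LinearMap.BilinForm.nondegenerate_toBilin'_iff_det_ne_zero.2
      ((Matrix.isUnit_iff_isUnit_det _).1 B.isUnit).ne_zero).1 u hu)
    (m := m) (by rw [Module.finrank_fin_fun, hnm])
  refine ⟨L, 1, fun u v => ?_⟩
  rw [← Matrix.toBilin'_apply', hL, Units.val_one, one_mul, FormsLib.spB_apply]
  rfl

/-- The alternating matrices exist in even dimension. -/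
theorem exists_gl_alt {m : ℕ} (hnm : n = 2 * m) :
    ∃ B : GL (Fin n) F, B.1ᵀ = -B.1 ∧ (∀ x, x ⬝ᵥ (B.1 *ᵥ x) = 0) ∧ HasModel B (Cfsg.sympForm m F) := by
  let e : Fin m ⊕ Fin m ≃ Fin n := finSumFinEquiv.trans (finCongr (by omega))
  obtain ⟨B, hB, L, d, hd⟩ := exists_gl_model (Matrix.J (Fin m) F)
    (Matrix.isUnit_det_J (Fin m) F).ne_zero e
  refine ⟨B, ?_, fun x => ?_, L, d, hd⟩
  · rw [hB, Matrix.transpose_submatrix, Matrix.J_transpose, Matrix.submatrix_neg]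
    rfl
  · obtain ⟨u, rfl⟩ := L.surjective x
    rw [hd]
    show (d:F) * (u ⬝ᵥ (Matrix.J (Fin m) F *ᵥ u)) = 0
    rw [← FormsLib.spB_apply, FormsLib.spB_expand]
    simp [mul_comm]

section Quad

variable (Q : QuadraticForm F (ι → F))

/-- The polar form as a model. -/
theorem exists_gl_quad (hQ : (QuadraticMap.polarBilin Q).Nondegenerate) (e : ι ≃ Fin n) :
    ∃ B : GL (Fin n) F, B.1ᵀ = B.1 ∧ HasModel B fun u v => QuadraticMap.polar Q u v := by
  set M := LinearMap.BilinForm.toMatrix' (QuadraticMap.polarBilin Q) with hMdef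
  have hM : ∀ u v, u ⬝ᵥ (M *ᵥ v) = QuadraticMap.polar Q u v := fun u v => by
    rw [← Matrix.toBilin'_apply', hMdef, Matrix.toBilin'_toMatrix']
    rfl
  have hdet : M.det ≠ 0 := by
    rw [← LinearMap.BilinForm.nondegenerate_toBilin'_iff_det_ne_zero, hMdef, Matrix.toBilin'_toMatrix']
    exact hQ
  have hsymm : Mᵀ = M := ext_form fun u v => by
    rw [Matrix.mulVec_transpose, dotProduct_comm, ← Matrix.dotProduct_mulVec, hM, hM, QuadraticMap.polar_comm]
  obtain ⟨B, hB, L, d, hd⟩ := exists_gl_model M hdet e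
  exact ⟨B, by rw [hB, Matrix.transpose_submatrix, hsymm], L, d, fun u v => by rw [hd]; exact congrArg _ (hM u v)⟩

/-- A symmetric matrix as a quadratic form. -/
theorem exists_quad_of_symm (h2 : (2 : F) ≠ 0) (B : GL (Fin n) F) (hB : B.1ᵀ = B.1) :
    ∃ q : QuadraticForm F (Fin n → F), (∀ v, q v = v ⬝ᵥ (B.1 *ᵥ v)) ∧
      (∀ u v, QuadraticMap.polar q u v = 2 * (u ⬝ᵥ (B.1 *ᵥ v))) ∧ (QuadraticMap.polarBilin q).Nondegenerate := by
  set q := LinearMap.BilinMap.toQuadraticMap (Matrix.toBilin' B.1) with hqdef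
  have hq : ∀ v, q v = v ⬝ᵥ (B.1 *ᵥ v) := fun v => by
    rw [hqdef, LinearMap.BilinMap.toQuadraticMap_apply, Matrix.toBilin'_apply']
  have hsymm : ∀ u v : Fin n → F, v ⬝ᵥ (B.1 *ᵥ u) = u ⬝ᵥ (B.1 *ᵥ v) := fun u v => by
    rw [Matrix.dotProduct_mulVec, ← Matrix.mulVec_transpose, hB, dotProduct_comm]
  have hp : ∀ u v, QuadraticMap.polar q u v = 2 * (u ⬝ᵥ (B.1 *ᵥ v)) := fun u v => by
    simp only [QuadraticMap.polar, hq, Matrix.mulVec_add, add_dotProduct, dotProduct_add, hsymm v u]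
    ring
  refine ⟨q, hq, hp, OrthOrder.nondegenerate_iff.2 fun u hu => ?_⟩
  refine (LinearMap.BilinForm.nondegenerate_toBilin'_iff_det_ne_zero.2
      ((Matrix.isUnit_iff_isUnit_det _).1 B.isUnit).ne_zero).1 u fun v => ?_
  rw [Matrix.toBilin'_apply']
  have := hu v
  rw [hp] at this
  exact (mul_eq_zero.1 this).resolve_left h2

theorem hasModel_quad (h2 : (2 : F) ≠ 0) {B : GL (Fin n) F} {q : QuadraticForm F (Fin n → F)}
    (hp : ∀ u v, QuadraticMap.polar q u v = 2 * (u ⬝ᵥ (B.1 *ᵥ v))) (L : (ι → F) ≃ₗ[F] (Fin n → F)) (d : Fˣ)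
    (h : ∀ v, q (L v) = (d : F) * Q v) : HasModel B fun u v => QuadraticMap.polar Q u v := by
  refine ⟨L, d * (Units.mk0 2 h2)⁻¹, fun u v => ?_⟩
  have := hp (L u) (L v)
  simp only [QuadraticMap.polar, ← map_add L, h] at this
  rw [Units.val_mul, Units.val_inv_eq_inv_val, Units.val_mk0]
  simp only [QuadraticMap.polar]
  field_simp
  linear_combination -this

theorem HasModel.pgo_equiv (h2 : (2 : F) ≠ 0) {B : GL (Fin n) F}
    (h : HasModel B fun u v => QuadraticMap.polar Q u v) :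
    Nonempty (Cfsg.projQuot (simB B.1) ≃* Cfsg.PGO F ⇑Q) := by
  obtain ⟨e⟩ := h.projQuot_equiv
  rw [← quad_eq_polar h2 Q] at e
  exact ⟨e⟩

end Quad

end Cfsg.Agent.AutPSL
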