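import Cfsg.Agent.Lib.AutPSL.GraphClasses
import Cfsg.Agent.Lib.Spinor.EvenClass
import Cfsg.Agent.Lib.Spinor.TSMinus

/-!
# Involutory graph automorphisms in even dimension and odd characteristic
-/

set_option autoImplicit false
set_option linter.unusedSectionVars false

namespace Cfsg.Agent.AutPSL

open Matrix

universe u

variable {n m : ℕ} {F : Type u} [Field F]

theorem qPlus_coe (m : ℕ) : (⇑(OrthOrder.qPlus m F) : (Fin m ⊕ Fin m → F) → F) = Cfsg.quadFormPlus m F :=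
  funext fun v => OrthOrder.qPlus_apply _ v

theorem alt_of_skew (h2 : (2 : F) ≠ 0) {B : GL (Fin n) F} (hB : B.1ᵀ = -B.1) (x : Fin n → F) :
    x ⬝ᵥ (B.1 *ᵥ x) = 0 := by
  have e : x ⬝ᵥ (B.1 *ᵥ x) = x ⬝ᵥ (B.1ᵀ *ᵥ x) := by
    rw [Matrix.mulVec_transpose, dotProduct_comm x (x ᵥ* B.1), ← Matrix.dotProduct_mulVec]
  rw [hB, Matrix.neg_mulVec, dotProduct_neg] at e
  exact (mul_eq_zero.1 (show (2 : F) * (x ⬝ᵥ (B.1 *ᵥ x)) = 0 by linear_combination e)).resolve_left h2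

theorem not_skew_symm (h2 : (2 : F) ≠ 0) [Nonempty (Fin n)] (B B' g : GL (Fin n) F) (c : Fˣ)
    (h : g.1ᵀ * B'.1 * g.1 = (c : F) • B.1) (hB : B.1ᵀ = B.1) (hB' : B'.1ᵀ = -B'.1) : False := by
  have h1 := congrArg Matrix.transpose h
  rw [Matrix.transpose_mul, Matrix.transpose_mul, Matrix.transpose_transpose, hB', Matrix.transpose_smul, hB,
    Matrix.neg_mul, Matrix.mul_neg, ← Matrix.mul_assoc, h] at h1
  have h3 : ((2 : F) * c) • B.1 = 0 := by
    rw [mul_smul, two_smul]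
    nth_rewrite 1 [← h1]
    exact neg_add_cancel _
  rcases smul_eq_zero.1 h3 with h4 | h4
  · exact mul_ne_zero h2 c.ne_zero h4
  · exact B.ne_zero h4

theorem not_skew_symm' (h2 : (2 : F) ≠ 0) [Nonempty (Fin n)] (B B' g : GL (Fin n) F) (c : Fˣ)
    (h : g.1ᵀ * B'.1 * g.1 = (c : F) • B.1) (hB : B.1ᵀ = -B.1) (hB' : B'.1ᵀ = B'.1) : False := by
  have h1 := congrArg Matrix.transpose h
  rw [Matrix.transpose_mul, Matrix.transpose_mul, Matrix.transpose_transpose, hB', Matrix.transpose_smul, hB,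
    smul_neg, ← Matrix.mul_assoc, h] at h1
  have h3 : ((2 : F) * c) • B.1 = 0 := by
    rw [mul_smul, two_smul]
    nth_rewrite 1 [h1]
    exact neg_add_cancel _
  rcases smul_eq_zero.1 h3 with h4 | h4
  · exact mul_ne_zero h2 c.ne_zero h4
  · exact B.ne_zero h4

variable [Fintype F]

/-- The forms of plus and minus type are not congruent up to a scalar. -/
theorem plus_not_congr_minus (h2 : (2 : F) ≠ 0) {k : ℕ} (hk : k < m) {a b : F}
    (hab : ∀ z₁ z₂ : F, z₁ ^ 2 + a * z₁ * z₂ + b * z₂ ^ 2 = 0 → z₁ = 0 ∧ z₂ = 0)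
    {Qm : QuadraticForm F ((Fin k ⊕ Fin k) ⊕ Fin 2 → F)} (hQm : ⇑Qm = Cfsg.quadFormMinus k F a b)
    {B B' : GL (Fin n) F} (hB : HasModel B fun u v => QuadraticMap.polar (OrthOrder.qPlus m F) u v)
    (hB' : HasModel B' fun u v => QuadraticMap.polar Qm u v) (g : GL (Fin n) F) (c : Fˣ)
    (h : g.1ᵀ * B'.1 * g.1 = (c : F) • B.1) : False := by
  obtain ⟨L, d, hd⟩ := hB
  obtain ⟨L', d', hd'⟩ := hB'
  let ι₀ : (Fin m → F) →ₗ[F] (Fin m ⊕ Fin m → F) :=
    { toFun := fun x => Sum.elim x 0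
      map_add' := fun x y => funext fun i => by rcases i with i | i <;> simp
      map_smul' := fun r x => funext fun i => by rcases i with i | i <;> simp }
  let Φ : (Fin m → F) →ₗ[F] ((Fin k ⊕ Fin k) ⊕ Fin 2 → F) :=
    L'.symm.toLinearMap ∘ₗ Matrix.mulVecLin g.1 ∘ₗ L.toLinearMap ∘ₗ ι₀
  have hinj : Function.Injective Φ := fun x y hxy => funext fun i => by
    have h1 : g.1 *ᵥ (L (ι₀ x)) = g.1 *ᵥ (L (ι₀ y)) := L'.symm.injective hxy
    exact congrFun (L.injective (Matrix.mulVec_injective_of_isUnit g.isUnit h1)) (Sum.inl i)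
  have hts := Spinor.minus_ts_finrank_le a b hab (LinearMap.range Φ) fun v hv => by
    obtain ⟨x, rfl⟩ := hv
    have h0 : OrthOrder.qPlus m F (ι₀ x) = 0 := by
      simp [ι₀, OrthOrder.qPlus_apply, Cfsg.quadFormPlus]
    have e2 := hd' (Φ x) (Φ x)
    rw [show L' (Φ x) = g.1 *ᵥ (L (ι₀ x)) from L'.apply_symm_apply _, form_mulVec, h, Matrix.smul_mulVec,
      dotProduct_smul, smul_eq_mul, hd] at e2
    simp only [QuadraticMap.polar_self, h0, smul_zero, mul_zero, nsmul_eq_mul, Nat.cast_ofNat] at e2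
    rw [← hQm]
    exact ((mul_eq_zero.1 e2.symm).resolve_left d'.ne_zero |> mul_eq_zero.1).resolve_left h2
  rw [LinearMap.finrank_range_of_inj hinj, Module.finrank_fin_fun] at hts
  omega

/-- A symmetric matrix is a multiple of the plus or minus model. -/
theorem symm_model (h2 : (2 : F) ≠ 0) (hm : 1 ≤ m) (hnm : n = 2 * m) {a b : F}
    (hab : ∀ z₁ z₂ : F, z₁ ^ 2 + a * z₁ * z₂ + b * z₂ ^ 2 = 0 → z₁ = 0 ∧ z₂ = 0)
    {Qm : QuadraticForm F ((Fin (m - 1) ⊕ Fin (m - 1)) ⊕ Fin 2 → F)} (hQm : ⇑Qm = Cfsg.quadFormMinus (m - 1) F a b)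
    (B : GL (Fin n) F) (hB : B.1ᵀ = B.1) :
    (HasModel B fun u v => QuadraticMap.polar (OrthOrder.qPlus m F) u v) ∨
      (HasModel B fun u v => QuadraticMap.polar Qm u v) := by
  obtain ⟨q, -, hp, hnd⟩ := exists_quad_of_symm h2 B hB
  rcases Spinor.equiv_plus_or_minus hm (by rw [Module.finrank_fin_fun, hnm]) q hnd a b hab with ⟨L, hL⟩ | ⟨L, hL⟩
  · refine Or.inl (hasModel_quad (OrthOrder.qPlus m F) h2 hp L.symm 1 fun v => ?_)
    rw [← hL, L.apply_symm_apply, OrthOrder.qPlus_apply, Units.val_one, one_mul]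
  · refine Or.inr (hasModel_quad Qm h2 hp L.symm 1 fun v => ?_)
    rw [← hL, L.apply_symm_apply, hQm, Units.val_one, one_mul]

end Cfsg.Agent.AutPSL
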