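import Mathlib
import Cfsg.Prelude.Def_LieTypeDatum
import Cfsg.Agent.Lib.AutPSL.OutGroup
import Cfsg.Agent.Lib.AutPSp.Twisted

/-!
# Graph automorphisms of `PSL_n` and bilinear forms
-/

set_option autoImplicit false
set_option linter.unusedSectionVars false

namespace Cfsg.Agent.AutPSL

open Matrix

universe u

section Forms

variable {ι κ : Type} [Fintype ι] [DecidableEq ι] [Fintype κ] [DecidableEq κ] {F : Type u} [Field F]

/-- The similitudes of the bilinear form with matrix `M`. -/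
abbrev simB (M : Matrix ι ι F) : Subgroup (GL ι F) := Cfsg.Geo.similarityGroup fun u v => u ⬝ᵥ (M *ᵥ v)

theorem form_mulVec (M g : Matrix ι ι F) (u v : ι → F) :
    (g *ᵥ u) ⬝ᵥ (M *ᵥ (g *ᵥ v)) = u ⬝ᵥ ((gᵀ * M * g) *ᵥ v) := by
  rw [← Matrix.mulVec_mulVec, ← Matrix.mulVec_mulVec, Matrix.dotProduct_mulVec u gᵀ, Matrix.vecMul_transpose]

theorem ext_form {M N : Matrix ι ι F} (h : ∀ u v, u ⬝ᵥ (M *ᵥ v) = u ⬝ᵥ (N *ᵥ v)) : M = N := by
  ext i j
  simpa [Matrix.mulVec_single] using h (Pi.single i 1) (Pi.single j 1)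

theorem mem_simB (M : Matrix ι ι F) (g : GL ι F) :
    g ∈ simB M ↔ ∃ c : Fˣ, g.1ᵀ * M * g.1 = (c : F) • M := by
  constructor
  · rintro ⟨c, hc⟩
    refine ⟨c, ext_form fun u v => ?_⟩
    rw [← form_mulVec]
    exact (hc u v).trans (by rw [Matrix.smul_mulVec, dotProduct_smul, smul_eq_mul])
  · rintro ⟨c, hc⟩
    refine ⟨c, fun u v => ?_⟩
    show (g.1 *ᵥ u) ⬝ᵥ (M *ᵥ (g.1 *ᵥ v)) = _
    rw [form_mulVec, hc, Matrix.smul_mulVec, dotProduct_smul, smul_eq_mul]

/-- A change of coordinates as an isomorphism of linear groups. -/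
noncomputable def glCongr (L : (ι → F) ≃ₗ[F] (κ → F)) : GL ι F ≃* GL κ F :=
  Matrix.GeneralLinearGroup.toLin.trans ((LinearMap.GeneralLinearGroup.congrLinearEquiv L).trans
    Matrix.GeneralLinearGroup.toLin.symm)

theorem glCongr_apply (L : (ι → F) ≃ₗ[F] (κ → F)) (g : GL ι F) (u : ι → F) :
    (glCongr L g).1 *ᵥ L u = L (g.1 *ᵥ u) := by
  show (LinearMap.toMatrix' (L.toLinearMap ∘ₗ (Matrix.toLin' g.1) ∘ₗ L.symm.toLinearMap)) *ᵥ L u = _
  rw [LinearMap.toMatrix'_mulVec]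
  simp [Matrix.toLin'_apply]

theorem glCongr_scalars (L : (ι → F) ≃ₗ[F] (κ → F)) (g : GL ι F) :
    glCongr L g ∈ Cfsg.Geo.scalars κ F ↔ g ∈ Cfsg.Geo.scalars ι F := by
  rw [Cfsg.Geo.mem_scalars_iff, Cfsg.Geo.mem_scalars_iff]
  constructor
  · rintro ⟨c, hc⟩
    refine ⟨c, Matrix.toLin'.injective (LinearMap.ext fun u => L.injective ?_)⟩
    rw [Matrix.toLin'_apply, Matrix.toLin'_apply, ← glCongr_apply, hc, Matrix.smul_mulVec, Matrix.one_mulVec,
      Matrix.smul_mulVec, Matrix.one_mulVec, map_smul]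
  · rintro ⟨c, hc⟩
    refine ⟨c, Matrix.toLin'.injective (LinearMap.ext fun v => ?_)⟩
    obtain ⟨u, rfl⟩ := L.surjective v
    rw [Matrix.toLin'_apply, Matrix.toLin'_apply, glCongr_apply, hc, Matrix.smul_mulVec, Matrix.one_mulVec,
      map_smul, Matrix.smul_mulVec, Matrix.one_mulVec]

/-- Projective quotients of corresponding groups. -/
theorem projQuot_equiv (e : GL ι F ≃* GL κ F) (he : ∀ g, e g ∈ Cfsg.Geo.scalars κ F ↔ g ∈ Cfsg.Geo.scalars ι F)
    {H : Subgroup (GL ι F)} {H' : Subgroup (GL κ F)} (hH : ∀ g, e g ∈ H' ↔ g ∈ H) :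
    Nonempty (Cfsg.projQuot H ≃* Cfsg.projQuot H') := by
  let Φ : H →* Cfsg.projQuot H' := (QuotientGroup.mk' _).comp
    ((e.toMonoidHom.comp H.subtype).codRestrict H' fun g => (hH g).2 g.2)
  have hΦ : Function.Surjective Φ := by
    intro y
    obtain ⟨⟨g', hg'⟩, rfl⟩ := QuotientGroup.mk_surjective y
    exact ⟨⟨e.symm g', (hH _).1 (by rwa [e.apply_symm_apply])⟩,
      congrArg QuotientGroup.mk (Subtype.ext (e.apply_symm_apply g'))⟩
  refine ⟨(QuotientGroup.quotientMulEquivOfEq ?_).trans (QuotientGroup.quotientKerEquivOfSurjective Φ hΦ)⟩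
  ext g
  rw [MonoidHom.mem_ker, Subgroup.mem_subgroupOf]
  show _ ↔ (QuotientGroup.mk _ : Cfsg.projQuot H') = 1
  rw [QuotientGroup.eq_one_iff, Subgroup.mem_subgroupOf]
  exact (he g.1).symm

theorem similarity_equiv (f : (ι → F) → (ι → F) → F) (f' : (κ → F) → (κ → F) → F) (L : (ι → F) ≃ₗ[F] (κ → F))
    (d : Fˣ) (h : ∀ u v, f' (L u) (L v) = (d : F) * f u v) :
    Nonempty (Cfsg.projQuot (Cfsg.Geo.similarityGroup f) ≃* Cfsg.projQuot (Cfsg.Geo.similarityGroup f')) := by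
  refine projQuot_equiv (glCongr L) (glCongr_scalars L) fun g => ⟨?_, ?_⟩
  · rintro ⟨c, hc⟩
    refine ⟨c, fun u v => mul_left_cancel₀ d.ne_zero ?_⟩
    have := hc (L u) (L v)
    rw [glCongr_apply, glCongr_apply, h, h] at this
    rw [this]; ring
  · rintro ⟨c, hc⟩
    refine ⟨c, fun u' v' => ?_⟩
    obtain ⟨u, rfl⟩ := L.surjective u'
    obtain ⟨v, rfl⟩ := L.surjective v'
    rw [glCongr_apply, glCongr_apply, h, h, hc]; ring

/-- In odd characteristic the similitudes of a quadratic form are those of its polar form. -/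
theorem quad_eq_polar (h2 : (2 : F) ≠ 0) (Q : QuadraticForm F (ι → F)) :
    Cfsg.Geo.quadSimilarityGroup (F := F) ⇑Q = Cfsg.Geo.similarityGroup fun u v => QuadraticMap.polar Q u v := by
  ext g
  constructor
  · rintro ⟨c, hc⟩
    refine ⟨c, fun u v => ?_⟩
    simp only [QuadraticMap.polar, ← Matrix.mulVec_add, hc]
    ring
  · rintro ⟨c, hc⟩
    refine ⟨c, fun v => mul_left_cancel₀ h2 ?_⟩
    have := hc v v
    simp only [QuadraticMap.polar_self, nsmul_eq_mul, Nat.cast_ofNat] at this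
    rw [this]; ring

end Forms

section PSL

variable {n : ℕ} {F : Type u} [Field F]

local notation "SLn" => Matrix.SpecialLinearGroup (Fin n) F
local notation "PSLn" => Matrix.ProjectiveSpecialLinearGroup (Fin n) F
local notation "Mat" => Matrix (Fin n) (Fin n) F

variable (n F) in
/-- The inner-diagonal automorphisms, as a homomorphism. -/
def cjD : GL (Fin n) F →* MulAut PSLn := (descend (n := n) (F := F)).comp cj

/-- The graph automorphism of the bilinear form with matrix `B`. -/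
def gam (B : GL (Fin n) F) : MulAut PSLn := descend (cj B⁻¹ * itp)

theorem gam_eq (B : GL (Fin n) F) : gam B = cjD n F B⁻¹ * descend itp := map_mul descend _ _

theorem conj_gam (g B : GL (Fin n) F) :
    cjD n F g * gam B * (cjD n F g)⁻¹ = gam (glItp g * B * g⁻¹) := by
  have e : glItp g⁻¹ = (glItp g)⁻¹ := Units.ext (by
    show ((g⁻¹)⁻¹ : GL (Fin n) F).1ᵀ = g.1ᵀ
    rw [inv_inv])
  show descend (cj g) * descend (cj B⁻¹ * itp) * (descend (cj g))⁻¹ = descend (cj (glItp g * B * g⁻¹)⁻¹ * itp)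
  rw [← map_inv, ← map_inv cj, ← map_mul, ← map_mul]
  congr 1
  rw [← mul_assoc, mul_assoc _ itp, itp_mul_cj, e]
  simp only [← mul_assoc, ← map_mul, _root_.mul_inv_rev, inv_inv]

theorem glItp_val (g : GL (Fin n) F) : (glItp g).1 = (g⁻¹).1ᵀ := rfl

variable (p : ℕ) [Fact p.Prime] [CharP F p] (hn : 3 ≤ n)

include p hn

theorem cjD_eq_one_iff (g : GL (Fin n) F) : cjD n F g = 1 ↔ g ∈ Cfsg.Geo.scalars (Fin n) F := by
  constructor
  · intro h
    have h' : descend (cj g * fld (RingEquiv.refl F)) = 1 := by rwa [fld_one, mul_one]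
    obtain ⟨hz, -⟩ := eq_of_descend_eq_one p (by omega) h'
    rw [Matrix.GeneralLinearGroup.center_eq_range_scalar] at hz
    obtain ⟨c, rfl⟩ := hz
    exact ⟨c, rfl⟩
  · rintro ⟨c, rfl⟩
    show descend (cj _) = 1
    rw [cj_eq_one_of_mem_center, map_one]
    rw [Matrix.GeneralLinearGroup.center_eq_range_scalar]
    exact ⟨c, rfl⟩

theorem gam_eq_iff (B B' : GL (Fin n) F) : gam B = gam B' ↔ ∃ c : Fˣ, B.1 = (c : F) • B'.1 := by
  rw [gam_eq, gam_eq, mul_left_inj, ← inv_mul_eq_one, ← map_inv, inv_inv, ← map_mul, cjD_eq_one_iff p hn,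
    Cfsg.Geo.mem_scalars_iff]
  refine exists_congr fun c => ⟨fun h => ?_, fun h => ?_⟩
  · rw [← inv_mul_cancel_right B B', Units.val_mul, h, Matrix.smul_mul, one_mul]
  · rw [Units.val_mul, h, Matrix.smul_mul, Units.mul_inv]

theorem isConj_gam_iff (B B' : GL (Fin n) F) :
    Cfsg.IsConjUnder (Cfsg.inndiagPSL n F) (gam B) (gam B') ↔
      ∃ (h : GL (Fin n) F) (c : Fˣ), h.1ᵀ * B'.1 * h.1 = (c : F) • B.1 := by
  rw [Cfsg.IsConjUnder, inndiagPSL_eq]
  constructor
  · rintro ⟨_, ⟨g, rfl⟩, e⟩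
    replace e : gam B' = gam (glItp g * B * g⁻¹) := e.trans (conj_gam g B)
    obtain ⟨c, hc⟩ := (gam_eq_iff p hn _ _).1 e
    refine ⟨g, c, ?_⟩
    rw [hc, Matrix.mul_smul, Matrix.smul_mul, Units.val_mul, Units.val_mul, glItp_val]
    simp only [← mul_assoc, ← Matrix.transpose_mul, Units.inv_mul, Matrix.transpose_one, one_mul]
    rw [mul_assoc, Units.inv_mul, mul_one]
  · rintro ⟨g, c, hc⟩
    refine ⟨cjD n F g, ⟨g, rfl⟩, ((gam_eq_iff p hn _ _).2 ⟨c, ?_⟩).trans (conj_gam g B).symm⟩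
    rw [Units.val_mul, Units.val_mul, glItp_val, ← Matrix.smul_mul, ← Matrix.mul_smul, ← hc]
    simp only [← mul_assoc, ← Matrix.transpose_mul, Units.mul_inv, Matrix.transpose_one, one_mul]
    rw [mul_assoc, Units.mul_inv, mul_one]

theorem gam_sq (B : GL (Fin n) F) : gam B * gam B = 1 ↔ ∃ c : Fˣ, B.1ᵀ = (c : F) • B.1 := by
  have e : gam B * gam B = cjD n F (B⁻¹ * glItp B⁻¹) := by
    show descend (cj B⁻¹ * itp) * descend (cj B⁻¹ * itp) = descend (cj (B⁻¹ * glItp B⁻¹))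
    rw [← map_mul, mul_assoc, ← mul_assoc itp, itp_mul_cj, mul_assoc, itp_mul_itp, mul_one, ← map_mul cj]
  rw [e, cjD_eq_one_iff p hn, Cfsg.Geo.mem_scalars_iff]
  refine exists_congr fun c => ?_
  rw [Units.val_mul, glItp_val, inv_inv]
  constructor
  · intro h
    have h1 := congrArg (fun z : Mat => B.1 * z) h
    simp only [Units.mul_inv_cancel_left, Matrix.mul_smul, mul_one] at h1
    exact h1
  · intro h
    rw [h, Matrix.mul_smul, Units.inv_mul]

/-- Involutory graph automorphisms come from symmetric and alternating forms. -/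
theorem exists_gam_rep {γ : MulAut PSLn} (hγ : Cfsg.IsGraphAutClassPSL γ) (h2 : orderOf γ = 2) :
    ∃ B : GL (Fin n) F, γ = gam B ∧ (B.1ᵀ = B.1 ∨ B.1ᵀ = -B.1) := by
  obtain ⟨-, δ, ι', hδ, hι, rfl⟩ := hγ
  obtain ⟨g, rfl⟩ := (isInnerDiagonalAutPSL_iff δ).1 hδ
  obtain rfl := (isInverseTransposeAutPSL_iff ι').1 hι
  have e : descend (cj g) * descend itp = gam g⁻¹ := by rw [gam_eq, inv_inv]; rfl
  rw [e] at h2 ⊢
  refine ⟨g⁻¹, rfl, ?_⟩
  obtain ⟨c, hc⟩ := (gam_sq p hn g⁻¹).1 (by rw [← sq, ← h2, pow_orderOf_eq_one])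
  have h1 := congrArg Matrix.transpose hc
  rw [Matrix.transpose_transpose, Matrix.transpose_smul, hc, smul_smul] at h1
  have hcc : (c : F) * c = 1 := by
    by_contra hne
    have h0 : ((c : F) * c - 1) • (g⁻¹).1 = 0 := by rw [sub_smul, one_smul, ← h1, sub_self]
    rcases smul_eq_zero.1 h0 with h | h
    · exact hne (sub_eq_zero.1 h)
    · haveI : Nonempty (Fin n) := ⟨⟨0, by omega⟩⟩
      exact (g⁻¹).ne_zero h
  rcases mul_self_eq_one_iff.1 hcc with h | h
  · exact Or.inl (by rw [hc, h, one_smul])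
  · exact Or.inr (by rw [hc, h, neg_smul, one_smul])

theorem gam_isGraph (B : GL (Fin n) F) (h : B.1ᵀ = B.1 ∨ B.1ᵀ = -B.1) :
    Cfsg.IsGraphAutClassPSL (gam B) ∧ orderOf (gam B) = 2 := by
  refine ⟨⟨hn, descend (cj B⁻¹), descend itp, (isInnerDiagonalAutPSL_iff _).2 ⟨_, rfl⟩,
    (isInverseTransposeAutPSL_iff _).2 rfl, gam_eq B⟩, orderOf_eq_prime ?_ fun h1 => ?_⟩
  · rw [sq, gam_sq p hn]
    rcases h with h | h
    · exact ⟨1, by rw [h, Units.val_one, one_smul]⟩
    · exact ⟨-1, by rw [h, Units.val_neg, Units.val_one, neg_smul, one_smul]⟩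
  · refine descend_itp_ne p hn B⁻¹ (RingEquiv.refl F) ?_
    rw [fld_one, mul_one]
    exact h1

theorem commute_gam_iff (g B : GL (Fin n) F) : Commute (cjD n F g) (gam B) ↔ g ∈ simB B.1 := by
  rw [commute_iff_eq, ← mul_inv_eq_iff_eq_mul, conj_gam, eq_comm, gam_eq_iff p hn, mem_simB]
  constructor
  · rintro ⟨c, hc⟩
    refine ⟨c, ?_⟩
    conv_lhs => rw [hc, Matrix.mul_smul, Matrix.smul_mul, Units.val_mul, Units.val_mul, glItp_val]
    simp only [← mul_assoc, ← Matrix.transpose_mul, Units.inv_mul, Matrix.transpose_one, one_mul]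
    rw [mul_assoc, Units.inv_mul, mul_one]
  · rintro ⟨c, hc⟩
    refine ⟨c, ?_⟩
    rw [Units.val_mul, Units.val_mul, glItp_val, ← Matrix.smul_mul, ← Matrix.mul_smul, ← hc]
    simp only [← mul_assoc, ← Matrix.transpose_mul, Units.mul_inv, Matrix.transpose_one, one_mul]
    rw [mul_assoc, Units.mul_inv, mul_one]

/-- The centraliser in the inner-diagonal group is the projective similitude group. -/
theorem centralizer_gam (B : GL (Fin n) F) :
    Nonempty (↥(Cfsg.inndiagPSL n F ⊓ Subgroup.centralizer {gam B}) ≃* Cfsg.projQuot (simB B.1)) := by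
  let Φ : simB B.1 →* ↥(Cfsg.inndiagPSL n F ⊓ Subgroup.centralizer {gam B}) :=
    ((cjD n F).comp (simB B.1).subtype).codRestrict _ fun g =>
      ⟨by rw [inndiagPSL_eq]; exact ⟨g.1, rfl⟩,
        Subgroup.mem_centralizer_singleton_iff.2 ((commute_gam_iff p hn g.1 B).2 g.2).eq⟩
  have hΦ : Function.Surjective Φ := by
    rintro ⟨y, hy, hc⟩
    rw [inndiagPSL_eq] at hy
    obtain ⟨g, rfl⟩ := hy
    exact ⟨⟨g, (commute_gam_iff p hn g B).1 (Subgroup.mem_centralizer_singleton_iff.1 hc)⟩, rfl⟩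
  refine ⟨((QuotientGroup.quotientMulEquivOfEq ?_).trans (QuotientGroup.quotientKerEquivOfSurjective Φ hΦ)).symm⟩
  ext g
  rw [MonoidHom.mem_ker, Subgroup.mem_subgroupOf, Subtype.ext_iff]
  exact (cjD_eq_one_iff p hn g.1).symm

/-- The class count is the index of the determinants of the similitudes. -/
theorem splitCount_gam [Finite F] (B : GL (Fin n) F) :
    Cfsg.splitClassCount (Cfsg.inndiagPSL n F) (Cfsg.Inn PSLn) (gam B) =
      ((simB B.1).map Matrix.GeneralLinearGroup.det).index := by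
  have hsurj : Function.Surjective (Matrix.GeneralLinearGroup.det : GL (Fin n) F →* Fˣ) := fun u =>
    ⟨oneDiag (by omega : 0 < n) u, det_oneDiag (by omega : 0 < n) u⟩
  have hker : (Matrix.GeneralLinearGroup.det : GL (Fin n) F →* Fˣ).ker =
      (Matrix.SpecialLinearGroup.toGL (n := Fin n) (R := F)).range := by
    ext g
    constructor
    · intro hg
      exact ⟨⟨g.1, congrArg Units.val hg⟩, Units.ext rfl⟩
    · rintro ⟨s, rfl⟩
      exact Units.ext s.2
  have hN : (Matrix.GeneralLinearGroup.det : GL (Fin n) F →* Fˣ).ker.map (cjD n F) = Cfsg.Inn PSLn := by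
    rw [hker]
    refine le_antisymm ?_ fun y hy => ?_
    · rintro _ ⟨_, ⟨s, rfl⟩, rfl⟩
      exact ⟨proj n F s, by rw [← descend_conj, ← cj_toGL]; rfl⟩
    · obtain ⟨x, rfl⟩ := hy
      obtain ⟨s, rfl⟩ := proj_surjective x
      exact ⟨_, ⟨s, rfl⟩, by rw [← descend_conj, ← cj_toGL]; rfl⟩
  have hC : AutPSp.commSub (cjD n F) (gam B) = simB B.1 := by
    ext g
    rw [AutPSp.mem_commSub, commute_gam_iff p hn]
  rw [inndiagPSL_eq, show Cfsg.splitClassCount (descend.comp cj).range (Cfsg.Inn PSLn) (gam B) =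
    Cfsg.splitClassCount (cjD n F).range ((Matrix.GeneralLinearGroup.det : GL (Fin n) F →* Fˣ).ker.map (cjD n F))
      (gam B) from congrArg (Cfsg.splitClassCount _ · _) hN.symm,
    AutPSp.splitClassCount_eq_index, AutPSp.index_ker_sup _ hsurj, hC]

end PSL

end Cfsg.Agent.AutPSL
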