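import Cfsg.Agent.Lib.AutPSL.GraphEven
import Cfsg.Agent.Lib.Spinor.Discr

/-!
# The centraliser of inverse-transpose in even dimension
-/

set_option autoImplicit false
set_option linter.unusedSectionVars false

namespace Cfsg.Agent.AutPSL

open Matrix

universe u

variable {F : Type u} [Field F] [Fintype F] {n m : ℕ}

/-- The polar matrix of the plus form. -/
def plusMat (m : ℕ) (F : Type u) [Field F] : Matrix (Fin m ⊕ Fin m) (Fin m ⊕ Fin m) F := Matrix.fromBlocks 0 1 1 0

theorem plusMat_form (u v : Fin m ⊕ Fin m → F) :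
    u ⬝ᵥ (plusMat m F *ᵥ v) = QuadraticMap.polar (OrthOrder.qPlus m F) u v := by
  simp only [QuadraticMap.polar, OrthOrder.qPlus_apply, Cfsg.quadFormPlus, plusMat, Matrix.fromBlocks_mulVec,
    Matrix.zero_mulVec, Matrix.one_mulVec, dotProduct, Fintype.sum_sum_type, Sum.elim_inl, Sum.elim_inr,
    Pi.add_apply, Function.comp_apply, zero_add, add_zero, Pi.zero_apply, ← Finset.sum_sub_distrib,
    ← Finset.sum_add_distrib]
  exact Finset.sum_congr rfl fun i _ => by ring

theorem det_plusMat : (plusMat m F).det = (-1) ^ m := by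
  have h : plusMat m F * Matrix.fromBlocks 1 0 1 1 = Matrix.fromBlocks 1 1 1 0 := by
    rw [plusMat, Matrix.fromBlocks_multiply]
    simp
  have h' := congrArg Matrix.det h
  rw [Matrix.det_mul, Matrix.det_fromBlocks_zero₁₂, Matrix.det_one, mul_one, mul_one,
    Matrix.det_fromBlocks_one₁₁, Matrix.one_mul, zero_sub, Matrix.det_neg, Matrix.det_one, mul_one,
    Fintype.card_fin] at h'
  exact h'

/-- The standard form is of plus type iff `(-1)^m` is a square. -/
theorem one_hasModel_plus_iff (h2 : (2 : F) ≠ 0) (hm : 1 ≤ m) (hnm : n = 2 * m) :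
    (HasModel (1 : GL (Fin n) F) fun u v => QuadraticMap.polar (OrthOrder.qPlus m F) u v) ↔
      IsSquare ((-1 : F) ^ m) := by
  let e : Fin m ⊕ Fin m ≃ Fin n := finSumFinEquiv.trans (finCongr (by omega))
  constructor
  · rintro ⟨L, d, hd⟩
    let N : Matrix (Fin n) (Fin m ⊕ Fin m) F := LinearMap.toMatrix' L.toLinearMap
    have hN : ∀ v, N *ᵥ v = L v := fun v => LinearMap.toMatrix'_mulVec _ _
    have h1 : Nᵀ * N = (d : F) • plusMat m F := ext_form fun u v => by
      rw [Matrix.smul_mulVec, dotProduct_smul, plusMat_form, smul_eq_mul, ← hd, Units.val_one, Matrix.one_mulVec,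
        ← hN, ← hN, ← Matrix.mulVec_mulVec, Matrix.dotProduct_mulVec, Matrix.vecMul_transpose]
    have h3 := congrArg Matrix.det h1
    have h4 : Nᵀ * N = (N.submatrix e id)ᵀ * N.submatrix e id := by
      rw [Matrix.transpose_submatrix, Matrix.submatrix_mul_equiv, Matrix.submatrix_id_id]
    rw [h4, Matrix.det_mul, Matrix.det_smul, det_plusMat, Matrix.det_transpose] at h3
    refine ⟨(N.submatrix e id).det / (d : F) ^ m, ?_⟩
    have hd0 : (d : F) ^ m ≠ 0 := pow_ne_zero _ d.ne_zero
    rw [Fintype.card_sum, Fintype.card_fin] at h3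
    field_simp
    rw [pow_add] at h3
    linear_combination -h3
  · intro hsq
    obtain ⟨q, hq, hp, hnd⟩ := exists_quad_of_symm (n := n) h2 (1 : GL (Fin n) F) Matrix.transpose_one
    let L₀ : (Fin n → F) ≃ₗ[F] (Fin m ⊕ Fin m → F) := LinearEquiv.funCongrLeft F F e
    let P := (OrthOrder.qPlus m F).comp L₀.toLinearMap
    have hP : (QuadraticMap.polarBilin P).Nondegenerate :=
      OrthOrder.nondegenerate_congr L₀ (fun v => rfl) (OrthForms.qPlus_nondeg m)
    have hgq : Spinor.gramMat q = (2 : F) • (1 : Matrix (Fin n) (Fin n) F) := by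
      ext i j
      rw [Spinor.gramMat, Matrix.of_apply, hp, Units.val_one, Matrix.one_mulVec, single_dotProduct, one_mul,
        Matrix.smul_apply, smul_eq_mul, Matrix.one_apply, Pi.single_apply]
    have hgP : Spinor.gramMat P = (plusMat m F).submatrix e.symm e.symm := by
      ext i j
      have hs : ∀ k, L₀ (Pi.single k 1) = Pi.single (e.symm k) 1 := fun k => funext fun a => by
        show (Pi.single k (1 : F) : Fin n → F) (e a) = _
        rw [Pi.single_apply, Pi.single_apply]
        exact if_congr e.eq_symm_apply.symm rfl rfl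
      have hpol : QuadraticMap.polar P (Pi.single i 1) (Pi.single j 1) =
          QuadraticMap.polar (OrthOrder.qPlus m F) (L₀ (Pi.single i 1)) (L₀ (Pi.single j 1)) := by
        simp only [QuadraticMap.polar, P, QuadraticMap.comp_apply, LinearEquiv.coe_coe, map_add]
      rw [Spinor.gramMat, Matrix.of_apply, hpol, hs, hs, ← plusMat_form, single_dotProduct, one_mul,
        Matrix.submatrix_apply]
      simp [Matrix.mulVec_single]
    obtain ⟨g, hg⟩ := (Spinor.isometric_iff h2 P q hP hnd).2 (by
      rw [hgP, hgq, Matrix.det_submatrix_equiv_self, det_plusMat, Matrix.det_smul, Matrix.det_one, mul_one,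
        Fintype.card_fin, hnm]
      obtain ⟨r, hr⟩ := hsq
      exact ⟨r * 2 ^ m, by rw [hr]; ring⟩)
    refine hasModel_quad (OrthOrder.qPlus m F) h2 hp (L₀.symm.trans g) 1 fun v => ?_
    rw [Units.val_one, one_mul, LinearEquiv.trans_apply, hg]
    exact congrArg _ (L₀.apply_symm_apply v)

theorem isSquare_neg_one_pow_iff (hodd : Odd (Fintype.card F)) (hnm : n = 2 * m) :
    IsSquare ((-1 : F) ^ m) ↔ Even (n * (Fintype.card F - 1) / 4) := by
  obtain ⟨k, hk⟩ := hodd
  have e : n * (Fintype.card F - 1) / 4 = m * k := by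
    rw [hk, hnm, Nat.add_sub_cancel, show 2 * m * (2 * k) = m * k * 4 by ring, Nat.mul_div_cancel _ (by norm_num)]
  rw [e, Nat.even_mul]
  rcases Nat.even_or_odd m with hm | hm
  · exact iff_of_true (by rw [hm.neg_one_pow]; exact IsSquare.one) (Or.inl hm)
  · rw [hm.neg_one_pow, FiniteField.isSquare_neg_one_iff, hk]
    constructor
    · exact fun h => Or.inr (Nat.even_iff.2 (by omega))
    · rintro (h | h)
      · exact absurd h (Nat.not_even_iff_odd.2 hm)
      · rw [Nat.even_iff] at h; omega

end Cfsg.Agent.AutPSL
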