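import Cfsg.Agent.Lib.AutPSL.GraphTwo
import Cfsg.Agent.Lib.AutPSL.GraphClasses
import Cfsg.Agent.Lib.AutPOmega.OddField

/-!
# Graph automorphisms in odd dimension
-/

set_option autoImplicit false
set_option linter.unusedSectionVars false

namespace Cfsg.Agent.AutPSL

open Matrix

universe u

variable {F : Type u} [Field F] [Fintype F] {n m : ℕ}

theorem symm_of_odd (h2 : (2 : F) ≠ 0) (hn : Odd n) (B : GL (Fin n) F) (hB : B.1ᵀ = -B.1) : False := by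
  have h := congrArg Matrix.det hB
  rw [Matrix.det_transpose, Matrix.det_neg, Fintype.card_fin, hn.neg_one_pow, neg_one_mul] at h
  have h3 : (2 : F) * B.1.det = 0 := by linear_combination h
  exact ((Matrix.isUnit_iff_isUnit_det _).1 B.isUnit).ne_zero ((mul_eq_zero.1 h3).resolve_left h2)

/-- In odd dimension and odd characteristic there is one symmetric form up to scalars. -/
theorem hasModel_qOdd (h2 : (2 : F) ≠ 0) (hnm : n = 2 * m + 1) (B : GL (Fin n) F) (hB : B.1ᵀ = B.1) :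
    HasModel B fun u v => QuadraticMap.polar (FormsLib.qOdd m F) u v := by
  obtain ⟨q, -, hp, hnd⟩ := exists_quad_of_symm h2 B hB
  let L₀ : (Unit ⊕ (Fin m ⊕ Fin m) → F) ≃ₗ[F] (Fin n → F) :=
    LinearEquiv.funCongrLeft F F ((Fintype.equivFin _).trans (finCongr (by simp [Fintype.card_sum]; omega))).symm
  obtain ⟨k, c, hk⟩ := AutPOmega.odd_similar h2 (q.comp L₀.toLinearMap)
    (OrthOrder.nondegenerate_congr L₀ (fun v => rfl) hnd)
  refine hasModel_quad (FormsLib.qOdd m F) h2 hp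
    ((Matrix.GeneralLinearGroup.toLin k).toLinearEquiv.trans L₀) c fun v => ?_
  exact hk v

theorem centralizer_odd (p : ℕ) [Fact p.Prime] [CharP F p] (hn : 3 ≤ n) (hnm : n = 2 * m + 1)
    {γ : MulAut (Matrix.ProjectiveSpecialLinearGroup (Fin n) F)} (hγ : Cfsg.IsGraphAutClassPSL γ)
    (hγ2 : orderOf γ = 2) :
    ∃ B : GL (Fin n) F, γ = gam B ∧
      ((p = 2 ∧ HasModel B (fTwo m F)) ∨
        ((2 : F) ≠ 0 ∧ HasModel B fun u v => QuadraticMap.polar (FormsLib.qOdd m F) u v)) ∧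
      Nonempty (↥(Cfsg.inndiagPSL n F ⊓ Subgroup.centralizer {γ}) ≃* Cfsg.PGO F (Cfsg.quadFormOdd m F)) := by
  obtain ⟨B, rfl, hs⟩ := exists_gam_rep p hn hγ hγ2
  refine ⟨B, rfl, ?_⟩
  obtain ⟨e₁⟩ := centralizer_gam p hn B
  rcases eq_or_ne p 2 with rfl | hp2
  · have hB : B.1ᵀ = B.1 := hs.elim id fun h => by
      rw [h]
      ext i j
      exact CharTwo.neg_eq _
    have hM := hasModel_fTwo hnm B hB
    obtain ⟨e₂⟩ := hM.projQuot_equiv
    obtain ⟨e₃⟩ := fTwo_pgsp (F := F) (m := m) (by omega)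
    obtain ⟨e₄⟩ := pgoOdd_pgsp (F := F) (m := m) (by omega)
    exact ⟨Or.inl ⟨rfl, hM⟩, ⟨e₁.trans (e₂.trans (e₃.trans e₄.symm))⟩⟩
  · have h2 : (2 : F) ≠ 0 := Ring.two_ne_zero (by rwa [ringChar.eq F p])
    have hB : B.1ᵀ = B.1 := hs.resolve_right (symm_of_odd h2 ⟨m, hnm⟩ B)
    have hM := hasModel_qOdd h2 hnm B hB
    obtain ⟨e₂⟩ := hM.pgo_equiv _ h2
    rw [FormsLib.coe_qOdd] at e₂
    exact ⟨Or.inr ⟨h2, hM⟩, ⟨e₁.trans e₂⟩⟩

theorem odd_dim_classes (p : ℕ) [Fact p.Prime] [CharP F p] (hn : 3 ≤ n) (hnm : n = 2 * m + 1)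
    {γ γ' : MulAut (Matrix.ProjectiveSpecialLinearGroup (Fin n) F)} (hγ : Cfsg.IsGraphAutClassPSL γ)
    (hγ2 : orderOf γ = 2) (hγ' : Cfsg.IsGraphAutClassPSL γ') (hγ'2 : orderOf γ' = 2) :
    Nonempty (↥(Cfsg.inndiagPSL n F ⊓ Subgroup.centralizer {γ}) ≃* Cfsg.PGO F (Cfsg.quadFormOdd m F)) ∧
      Cfsg.IsConjUnder (Cfsg.inndiagPSL n F) γ γ' := by
  obtain ⟨B, rfl, h, e⟩ := centralizer_odd p hn hnm hγ hγ2
  obtain ⟨B', rfl, h', -⟩ := centralizer_odd p hn hnm hγ' hγ'2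
  refine ⟨e, (isConj_gam_iff p hn _ _).2 ?_⟩
  rcases h with ⟨hp, h⟩ | ⟨h2, h⟩ <;> rcases h' with ⟨hp', h'⟩ | ⟨h2', h'⟩
  · exact h.congr h'
  · subst hp; exact absurd CharTwo.two_eq_zero h2'
  · subst hp'; exact absurd CharTwo.two_eq_zero h2
  · exact h.congr h'

end Cfsg.Agent.AutPSL
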