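import Cfsg.Agent.Lib.AutPSL.GraphSplit

/-!
# Multipliers and determinants of similitudes
-/

set_option autoImplicit false
set_option linter.unusedSectionVars false

namespace Cfsg.Agent.AutPSL

open Matrix

universe u

variable {F : Type u} [Field F] [Fintype F] {n m : ℕ}

/-- The multiplier is a square and the determinant the corresponding power. -/
theorem exists_sqrt_det (h : Odd n ∨ (2 : F) = 0) {B g : GL (Fin n) F} {c : Fˣ}
    (hc : g.1ᵀ * B.1 * g.1 = (c : F) • B.1) :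
    ∃ r : Fˣ, r ^ n = Matrix.GeneralLinearGroup.det g ∧ r ^ 2 = c := by
  have hd := simB_det_sq B hc
  rcases h with ⟨k, hk⟩ | h2
  · set d := Matrix.GeneralLinearGroup.det g
    have e2 : (d * (c ^ k)⁻¹) ^ 2 = c := by
      rw [mul_pow, inv_pow, hd, ← pow_mul, mul_inv_eq_iff_eq_mul, ← pow_succ']
      congr 1
      omega
    refine ⟨d * (c ^ k)⁻¹, ?_, e2⟩
    rw [congrArg ((d * (c ^ k)⁻¹) ^ ·) hk]
    show (d * (c ^ k)⁻¹) ^ (2 * k + 1) = d
    rw [pow_succ, pow_mul, e2, mul_comm d, mul_inv_cancel_left]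
  · haveI : CharP F 2 := CharTwo.of_one_ne_zero_of_two_eq_zero one_ne_zero h2
    obtain ⟨r, hr⟩ := FiniteField.isSquare_of_char_two (ringChar.eq F 2) (c : F)
    have hr0 : r ≠ 0 := fun h0 => c.ne_zero (by rw [hr, h0, mul_zero])
    refine ⟨Units.mk0 r hr0, Units.ext ?_, Units.ext (by rw [Units.val_pow_eq_pow_val, Units.val_mk0, hr, pow_two])⟩
    rw [Units.val_pow_eq_pow_val, Units.val_mk0]
    refine CharTwo.sq_inj.1 ?_
    have hd' := congrArg Units.val hd
    rw [Units.val_pow_eq_pow_val, Units.val_pow_eq_pow_val, hr] at hd'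
    rw [hd']; ring

theorem glCongr_simB {B : GL (Fin n) F} {L : (Fin m ⊕ Fin m → F) ≃ₗ[F] (Fin n → F)} {d : Fˣ}
    (hd : ∀ u v, L u ⬝ᵥ (B.1 *ᵥ L v) = (d : F) * Cfsg.sympForm m F u v) (g' : GL (Fin m ⊕ Fin m) F) (c : Fˣ) :
    ((glCongr L g').1ᵀ * B.1 * (glCongr L g').1 = (c : F) • B.1) ↔
      ∀ u v, Cfsg.sympForm m F (g'.1 *ᵥ u) (g'.1 *ᵥ v) = (c : F) * Cfsg.sympForm m F u v := by
  constructor
  · intro h u v
    refine mul_left_cancel₀ d.ne_zero ?_
    rw [← hd, ← glCongr_apply, ← glCongr_apply, form_mulVec, h, Matrix.smul_mulVec, dotProduct_smul, smul_eq_mul,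
      hd]
    ring
  · intro h
    refine ext_form fun x y => ?_
    obtain ⟨u, rfl⟩ := L.surjective x
    obtain ⟨v, rfl⟩ := L.surjective y
    rw [← form_mulVec, glCongr_apply, glCongr_apply, hd, h, Matrix.smul_mulVec, dotProduct_smul, smul_eq_mul, hd]
    ring

theorem det_of_alt {B g : GL (Fin n) F} {c : Fˣ} (hB : HasModel B (Cfsg.sympForm m F))
    (hc : g.1ᵀ * B.1 * g.1 = (c : F) • B.1) : Matrix.GeneralLinearGroup.det g = c ^ m := by
  obtain ⟨L, d, hd⟩ := hB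
  obtain ⟨g', rfl⟩ := (glCongr L).surjective g
  rw [det_glCongr, det_gsp ((glCongr_simB hd g' c).1 hc)]

theorem exists_alt_mult {B : GL (Fin n) F} (hB : HasModel B (Cfsg.sympForm m F)) (c : Fˣ) :
    ∃ g : GL (Fin n) F, g.1ᵀ * B.1 * g.1 = (c : F) • B.1 ∧ Matrix.GeneralLinearGroup.det g = c ^ m := by
  obtain ⟨L, d, hd⟩ := hB
  refine ⟨glCongr L (AutPSp.halfScale c), (glCongr_simB hd _ c).2 fun u v => ?_,
    by rw [det_glCongr, det_halfScale]⟩
  show _ ⬝ᵥ (Matrix.J (Fin m) F *ᵥ _) = (c : F) * (u ⬝ᵥ (Matrix.J (Fin m) F *ᵥ v))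
  rw [← FormsLib.spB_apply, ← FormsLib.spB_apply]
  exact AutPSp.halfScale_spec c u v

/-- Similitudes of symmetric forms have all possible determinants. -/
theorem exists_simB_det (h2 : (2 : F) ≠ 0) (hm : 1 ≤ m) (hnm : n = 2 * m) (B : GL (Fin n) F) (hB : B.1ᵀ = B.1)
    (c d : Fˣ) (hd : d ^ 2 = c ^ n) :
    ∃ g : GL (Fin n) F, g.1ᵀ * B.1 * g.1 = (c : F) • B.1 ∧ Matrix.GeneralLinearGroup.det g = d := by
  obtain ⟨q, -, hp, hnd⟩ := exists_quad_of_symm h2 B hB
  have hsim : ∀ (k : (Fin n → F) ≃ₗ[F] (Fin n → F)) (c : Fˣ), (∀ v, q (k v) = (c : F) * q v) →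
      ∃ g : GL (Fin n) F, g.1ᵀ * B.1 * g.1 = (c : F) • B.1 ∧
        Matrix.GeneralLinearGroup.det g = LinearEquiv.det k := fun k c hk => by
    let g : GL (Fin n) F := Matrix.GeneralLinearGroup.toLin.symm (LinearMap.GeneralLinearGroup.ofLinearEquiv k)
    have hg : ∀ v, g.1 *ᵥ v = k v := fun v => LinearMap.toMatrix'_mulVec _ _
    have e : g.1ᵀ * B.1 * g.1 = (c : F) • B.1 := ext_form fun u v => by
      refine mul_left_cancel₀ h2 ?_
      rw [← form_mulVec, hg, hg, ← hp, Matrix.smul_mulVec, dotProduct_smul, smul_eq_mul, mul_left_comm, ← hp]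
      simp only [QuadraticMap.polar, ← map_add k, hk]
      ring
    refine ⟨g, e, Units.ext ?_⟩
    show (LinearMap.toMatrix' k.toLinearMap).det = _
    rw [LinearMap.det_toMatrix', LinearEquiv.coe_det]
  have hnd' : (QuadraticMap.polarBilin ((c : F) • q)).Nondegenerate := OrthOrder.nondegenerate_iff.2 fun v hv =>
    OrthOrder.nondegenerate_iff.1 hnd v fun y => by
      have := hv y
      rw [QuadraticMap.coeFn_smul, QuadraticMap.polar_smul] at this
      exact (mul_eq_zero.1 this).resolve_left c.ne_zero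
  have hgm : Spinor.gramMat ((c : F) • q) = (c : F) • Spinor.gramMat q := by
    ext i i'
    simp [Spinor.gramMat, QuadraticMap.polar_smul]
  obtain ⟨k, hk⟩ := (Spinor.isometric_iff h2 ((c : F) • q) q hnd' hnd).2 (by
    rw [hgm, Matrix.det_smul, Fintype.card_fin]
    exact ⟨(c : F) ^ m * (Spinor.gramMat q).det, by rw [congrArg ((c : F) ^ ·) hnm]; ring⟩)
  obtain ⟨g, hg, -⟩ := hsim k c fun v => by rw [hk]; rfl
  have h1 := simB_det_sq B hg
  rw [← hd] at h1
  have h1' : ((Matrix.GeneralLinearGroup.det g : Fˣ) : F) ^ 2 = (d : F) ^ 2 := by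
    rw [← Units.val_pow_eq_pow_val, ← Units.val_pow_eq_pow_val, h1]
  rcases eq_or_eq_neg_of_sq_eq_sq _ _ h1' with h | h
  · exact ⟨g, hg, Units.ext h⟩
  · obtain ⟨n', rfl⟩ : ∃ n', n = n' + 1 := ⟨n - 1, by omega⟩
    obtain ⟨b, -, hne, -⟩ := Spinor.exists_ones h2 q hnd
    obtain ⟨r, hr, hrd⟩ := hsim (FormsLib.refl q (b 0) (hne 0)) 1
      (fun v => by rw [Units.val_one, one_mul]; exact FormsLib.refl_mem q (hne 0) v)
    refine ⟨g * r, ?_, ?_⟩
    · rw [Units.val_mul, Matrix.transpose_mul, ← Matrix.mul_assoc, Matrix.mul_assoc r.1ᵀ, Matrix.mul_assoc r.1ᵀ, hg,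
        Matrix.mul_smul, Matrix.smul_mul, hr, Units.val_one, one_smul]
    · rw [map_mul, hrd, OrthIndex.det_refl]
      exact Units.ext (by rw [Units.val_mul, h, Units.val_neg, Units.val_one, neg_mul_neg, mul_one])

theorem index_comap_sq_cyclic {A : Type*} [CommGroup A] [IsCyclic A] [Finite A] (h : 2 ∣ Nat.card A) (k : ℕ) :
    ((powMonoidHom (2 * k) : A →* A).range.comap (powMonoidHom 2)).index = Nat.gcd (2 * k) (Nat.card A) / 2 := by
  have hle : (powMonoidHom (2 * k) : A →* A).range ≤ (powMonoidHom 2 : A →* A).range := by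
    rintro _ ⟨x, rfl⟩
    exact ⟨x ^ k, by simp only [powMonoidHom_apply]; rw [← pow_mul, mul_comm]⟩
  have e : ∀ k, (powMonoidHom k : A →* A).range.index = Nat.gcd k (Nat.card A) := fun k => by
    rw [IsCyclic.index_powMonoidHom_range, Nat.gcd_comm]
  rw [Subgroup.index_comap, ← e, ← Subgroup.relIndex_mul_index hle, e 2, Nat.gcd_eq_left h,
    Nat.mul_div_cancel _ (by norm_num)]

end Cfsg.Agent.AutPSL
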