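import Cfsg.Agent.Lib.AutPSL.GraphEven
import Cfsg.Agent.Lib.Spinor.Discr
import Cfsg.Agent.Lib.AutPSp.Main
import Cfsg.Agent.Lib.LinearGroups.OrthIndex
import Cfsg.Agent.Lib.Forms.SpOrder
import Cfsg.Agent.S0287
import Cfsg.Agent.S0288

/-!
# Determinants of similitudes
-/

set_option autoImplicit false
set_option linter.unusedSectionVars false

namespace Cfsg.Agent.AutPSL

open Matrix

universe u

variable {F : Type u} [Field F] [Fintype F] {n m : ℕ}

theorem index_range_pow (k : ℕ) :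
    (powMonoidHom k : Fˣ →* Fˣ).range.index = Nat.gcd k (Fintype.card F - 1) := by
  rw [IsCyclic.index_powMonoidHom_range, Nat.card_units, Nat.card_eq_fintype_card, Nat.gcd_comm]

theorem index_comap_sq (h2 : (2 : F) ≠ 0) (k : ℕ) :
    ((powMonoidHom (2 * k) : Fˣ →* Fˣ).range.comap (powMonoidHom 2)).index =
      Nat.gcd (2 * k) (Fintype.card F - 1) / 2 := by
  have hle : (powMonoidHom (2 * k) : Fˣ →* Fˣ).range ≤ (powMonoidHom 2 : Fˣ →* Fˣ).range := by
    rintro _ ⟨x, rfl⟩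
    exact ⟨x ^ k, by simp only [powMonoidHom_apply]; rw [← pow_mul, mul_comm]⟩
  have h2' : Nat.gcd 2 (Fintype.card F - 1) = 2 := by
    have hodd : Fintype.card F % 2 = 1 := FiniteField.odd_card_of_char_ne_two fun h => h2 (by
      haveI := ringChar.of_eq h
      exact CharTwo.two_eq_zero)
    have hpos : 0 < Fintype.card F := Fintype.card_pos
    exact Nat.gcd_eq_left (Nat.dvd_of_mod_eq_zero (by omega))
  rw [Subgroup.index_comap, ← index_range_pow, ← Subgroup.relIndex_mul_index hle, index_range_pow 2, h2',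
    Nat.mul_div_cancel _ (by norm_num)]

theorem simB_det_sq (B : GL (Fin n) F) {g : GL (Fin n) F} {c : Fˣ} (h : g.1ᵀ * B.1 * g.1 = (c : F) • B.1) :
    Matrix.GeneralLinearGroup.det g ^ 2 = c ^ n := by
  have h1 := congrArg Matrix.det h
  rw [Matrix.det_mul, Matrix.det_mul, Matrix.det_transpose, Matrix.det_smul, Fintype.card_fin] at h1
  have hB : B.1.det ≠ 0 := ((Matrix.isUnit_iff_isUnit_det _).1 B.isUnit).ne_zero
  apply Units.ext
  rw [Units.val_pow_eq_pow_val, Units.val_pow_eq_pow_val, Matrix.GeneralLinearGroup.val_det_apply]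
  exact mul_right_cancel₀ hB (by linear_combination h1)

theorem scalar_simB (B : GL (Fin n) F) (r : Fˣ) :
    ∃ g ∈ simB B.1, Matrix.GeneralLinearGroup.det g = r ^ n := by
  let g : GL (Fin n) F := Matrix.GeneralLinearGroup.mkOfDetNeZero ((r : F) • 1)
    (by rw [Matrix.det_smul, Matrix.det_one, mul_one]; exact pow_ne_zero _ r.ne_zero)
  refine ⟨g, (mem_simB _ _).2 ⟨r * r, ?_⟩, Units.ext ?_⟩
  · show ((r : F) • (1 : Matrix (Fin n) (Fin n) F))ᵀ * B.1 * ((r : F) • 1) = _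
    rw [Matrix.transpose_smul, Matrix.transpose_one, Matrix.smul_mul, one_mul, Matrix.mul_smul, mul_one,
      smul_smul, Units.val_mul]
  · show ((r : F) • (1 : Matrix (Fin n) (Fin n) F)).det = _
    rw [Matrix.det_smul, Matrix.det_one, mul_one, Fintype.card_fin, Units.val_pow_eq_pow_val]

theorem map_det_generic (h : Odd n ∨ (2 : F) = 0) (B : GL (Fin n) F) :
    (simB B.1).map Matrix.GeneralLinearGroup.det = (powMonoidHom n : Fˣ →* Fˣ).range := by
  refine le_antisymm ?_ ?_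
  · rintro _ ⟨g, hg, rfl⟩
    obtain ⟨c, hc⟩ := (mem_simB _ _).1 hg
    have hd := simB_det_sq B hc
    rcases h with ⟨k, hk⟩ | h2
    · refine ⟨Matrix.GeneralLinearGroup.det g * (c ^ k)⁻¹, ?_⟩
      rw [powMonoidHom_apply, mul_pow, inv_pow, mul_inv_eq_iff_eq_mul, ← pow_mul, mul_comm k n, pow_mul, ← hd,
        ← pow_mul, ← pow_succ']
      congr 1
    · haveI : CharP F 2 := CharTwo.of_one_ne_zero_of_two_eq_zero one_ne_zero h2
      obtain ⟨r, hr⟩ := FiniteField.isSquare_of_char_two (ringChar.eq F 2) (c : F)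
      refine ⟨Units.mk0 r fun h0 => c.ne_zero (by rw [hr, h0, mul_zero]), Units.ext ?_⟩
      rw [powMonoidHom_apply, Units.val_pow_eq_pow_val, Units.val_mk0]
      refine CharTwo.sq_inj.1 ?_
      have hd' := congrArg Units.val hd
      rw [Units.val_pow_eq_pow_val, Units.val_pow_eq_pow_val, hr] at hd'
      rw [hd']; ring
  · rintro _ ⟨r, rfl⟩
    exact scalar_simB B r

theorem det_glCongr {ι κ : Type} [Fintype ι] [DecidableEq ι] [Fintype κ] [DecidableEq κ]
    (L : (ι → F) ≃ₗ[F] (κ → F)) (g : GL ι F) :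
    Matrix.GeneralLinearGroup.det (glCongr L g) = Matrix.GeneralLinearGroup.det g := by
  apply Units.ext
  show (LinearMap.toMatrix' (L.toLinearMap ∘ₗ (Matrix.toLin' g.1) ∘ₗ L.symm.toLinearMap)).det = g.1.det
  rw [LinearMap.det_toMatrix', LinearMap.det_conj, LinearMap.det_toLin']

theorem det_halfScale (c : Fˣ) :
    Matrix.GeneralLinearGroup.det (AutPSp.halfScale (m := m) c) = c ^ m := by
  apply Units.ext
  show (Matrix.diagonal (Sum.elim (fun _ => (c : F)) fun _ => 1) : Matrix (Fin m ⊕ Fin m) _ F).det = _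
  rw [Matrix.det_diagonal, Fintype.prod_sum_type, Units.val_pow_eq_pow_val]
  simp

/-- The determinant of a symplectic similitude. -/
theorem det_gsp {g : GL (Fin m ⊕ Fin m) F} {c : Fˣ}
    (hc : ∀ u v, Cfsg.sympForm m F (g.1 *ᵥ u) (g.1 *ᵥ v) = (c : F) * Cfsg.sympForm m F u v) :
    Matrix.GeneralLinearGroup.det g = c ^ m := by
  have hh : ∀ u v : Fin m ⊕ Fin m → F, Cfsg.sympForm m F ((AutPSp.halfScale c).1 *ᵥ u)
      ((AutPSp.halfScale c).1 *ᵥ v) = (c : F) * Cfsg.sympForm m F u v := fun u v => by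
    show _ ⬝ᵥ (Matrix.J (Fin m) F *ᵥ _) = (c : F) * (u ⬝ᵥ (Matrix.J (Fin m) F *ᵥ v))
    rw [← FormsLib.spB_apply, ← FormsLib.spB_apply]
    exact AutPSp.halfScale_spec c u v
  have hmem : (g * (AutPSp.halfScale c)⁻¹).1 ∈ Matrix.symplecticGroup (Fin m) F := by
    refine (FormsLib.mem_symplectic_iff _).2 fun u v => ?_
    obtain ⟨x, rfl⟩ : ∃ x, (AutPSp.halfScale c).1 *ᵥ x = u := ⟨((AutPSp.halfScale c)⁻¹).1 *ᵥ u, by
      rw [Matrix.mulVec_mulVec, Units.mul_inv, Matrix.one_mulVec]⟩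
    obtain ⟨y, rfl⟩ : ∃ y, (AutPSp.halfScale c).1 *ᵥ y = v := ⟨((AutPSp.halfScale c)⁻¹).1 *ᵥ v, by
      rw [Matrix.mulVec_mulVec, Units.mul_inv, Matrix.one_mulVec]⟩
    rw [Matrix.mulVec_mulVec, Matrix.mulVec_mulVec, ← Units.val_mul, inv_mul_cancel_right, FormsLib.spB_apply,
      FormsLib.spB_apply]
    exact (hc x y).trans (hh x y).symm
  have h1 : Matrix.GeneralLinearGroup.det (g * (AutPSp.halfScale c)⁻¹) = 1 :=
    Units.ext (SymplecticGroup.det_eq_one hmem)
  rwa [map_mul, map_inv, mul_inv_eq_one, det_halfScale] at h1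

theorem map_det_alt {B : GL (Fin n) F} (hB : HasModel B (Cfsg.sympForm m F)) :
    (simB B.1).map Matrix.GeneralLinearGroup.det = (powMonoidHom m : Fˣ →* Fˣ).range := by
  obtain ⟨L, d, hd⟩ := hB
  have key : ∀ (g' : GL (Fin m ⊕ Fin m) F) (c : Fˣ),
      ((glCongr L g').1ᵀ * B.1 * (glCongr L g').1 = (c : F) • B.1) ↔
        ∀ u v, Cfsg.sympForm m F (g'.1 *ᵥ u) (g'.1 *ᵥ v) = (c : F) * Cfsg.sympForm m F u v := fun g' c => by
    constructor
    · intro h u v
      refine mul_left_cancel₀ d.ne_zero ?_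
      rw [← hd, ← glCongr_apply, ← glCongr_apply, form_mulVec, h, Matrix.smul_mulVec, dotProduct_smul, smul_eq_mul,
        hd]
      ring
    · intro h
      refine ext_form fun x y => ?_
      obtain ⟨u, rfl⟩ := L.surjective x
      obtain ⟨v, rfl⟩ := L.surjective y
      rw [← form_mulVec, glCongr_apply, glCongr_apply, hd, h, Matrix.smul_mulVec, dotProduct_smul, smul_eq_mul, hd]
      ring
  refine le_antisymm ?_ ?_
  · rintro _ ⟨g, hg, rfl⟩
    obtain ⟨g', rfl⟩ := (glCongr L).surjective g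
    obtain ⟨c, hc⟩ := (mem_simB _ _).1 hg
    exact ⟨c, by rw [det_glCongr, det_gsp ((key g' c).1 hc), powMonoidHom_apply]⟩
  · rintro _ ⟨c, rfl⟩
    obtain ⟨c', hc'⟩ := AutPSp.halfScale_mem (m := m) c
    refine ⟨glCongr L (AutPSp.halfScale c), (mem_simB _ _).2 ⟨c', (key _ c').2 hc'⟩, ?_⟩
    rw [det_glCongr, det_halfScale, powMonoidHom_apply]

theorem map_det_symm (h2 : (2 : F) ≠ 0) (hm : 1 ≤ m) (hnm : n = 2 * m) (B : GL (Fin n) F) (hB : B.1ᵀ = B.1) :
    (simB B.1).map Matrix.GeneralLinearGroup.det =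
      (powMonoidHom (2 * m) : Fˣ →* Fˣ).range.comap (powMonoidHom 2) := by
  obtain ⟨q, -, hp, hnd⟩ := exists_quad_of_symm h2 B hB
  have hsim : ∀ (k : (Fin n → F) ≃ₗ[F] (Fin n → F)) (c : Fˣ), (∀ v, q (k v) = (c : F) * q v) →
      ∃ g ∈ simB B.1, g.1ᵀ * B.1 * g.1 = (c : F) • B.1 ∧
        Matrix.GeneralLinearGroup.det g = LinearEquiv.det k := fun k c hk => by
    let g : GL (Fin n) F := Matrix.GeneralLinearGroup.toLin.symm (LinearMap.GeneralLinearGroup.ofLinearEquiv k)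
    have hg : ∀ v, g.1 *ᵥ v = k v := fun v => LinearMap.toMatrix'_mulVec _ _
    have e : g.1ᵀ * B.1 * g.1 = (c : F) • B.1 := ext_form fun u v => by
      refine mul_left_cancel₀ h2 ?_
      rw [← form_mulVec, hg, hg, ← hp, Matrix.smul_mulVec, dotProduct_smul, smul_eq_mul, mul_left_comm, ← hp]
      simp only [QuadraticMap.polar, ← map_add k, hk]
      ring
    refine ⟨g, (mem_simB _ _).2 ⟨c, e⟩, e, Units.ext ?_⟩
    show (LinearMap.toMatrix' k.toLinearMap).det = _
    rw [LinearMap.det_toMatrix', LinearEquiv.coe_det]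
  have hneg : (-1 : Fˣ) ∈ (simB B.1).map Matrix.GeneralLinearGroup.det := by
    obtain ⟨n', rfl⟩ : ∃ n', n = n' + 1 := ⟨n - 1, by omega⟩
    obtain ⟨b, -, hne, -⟩ := Spinor.exists_ones h2 q hnd
    obtain ⟨g, hg, -, hdet⟩ := hsim (FormsLib.refl q (b 0) (hne 0)) 1
      (fun v => by rw [Units.val_one, one_mul]; exact FormsLib.refl_mem q (hne 0) v)
    exact ⟨g, hg, by rw [hdet, OrthIndex.det_refl]⟩
  refine le_antisymm ?_ fun x hx => ?_
  · rintro _ ⟨g, hg, rfl⟩
    obtain ⟨c, hc⟩ := (mem_simB _ _).1 hg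
    exact ⟨c, by rw [powMonoidHom_apply, powMonoidHom_apply, simB_det_sq B hc, hnm]⟩
  · obtain ⟨r, hr⟩ := hx
    simp only [powMonoidHom_apply] at hr
    have hsign : ∀ (y : Fˣ), y ^ 2 = r ^ (2 * m) → y = r ^ m ∨ y = -(r ^ m) := fun y hy => by
      have h1 : ((y : F)) ^ 2 = (((r ^ m : Fˣ) : F)) ^ 2 := by
        rw [← Units.val_pow_eq_pow_val, ← Units.val_pow_eq_pow_val, hy, ← pow_mul, mul_comm]
      rcases eq_or_eq_neg_of_sq_eq_sq _ _ h1 with h | h
      · exact Or.inl (Units.ext h)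
      · exact Or.inr (Units.ext (by rw [Units.val_neg]; exact h))
    have hnd' : (QuadraticMap.polarBilin ((r : F) • q)).Nondegenerate := OrthOrder.nondegenerate_iff.2 fun v hv =>
      OrthOrder.nondegenerate_iff.1 hnd v fun y => by
        have := hv y
        rw [QuadraticMap.coeFn_smul, QuadraticMap.polar_smul] at this
        exact (mul_eq_zero.1 this).resolve_left r.ne_zero
    have hgm : Spinor.gramMat ((r : F) • q) = (r : F) • Spinor.gramMat q := by
      ext i i'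
      simp [Spinor.gramMat, QuadraticMap.polar_smul]
    obtain ⟨k, hk⟩ := (Spinor.isometric_iff h2 ((r : F) • q) q hnd' hnd).2 (by
      rw [hgm, Matrix.det_smul, Fintype.card_fin]
      exact ⟨(r : F) ^ m * (Spinor.gramMat q).det, by rw [congrArg ((r : F) ^ ·) hnm]; ring⟩)
    obtain ⟨g, hg, hge, -⟩ := hsim k r fun v => by rw [hk]; rfl
    have hy : Matrix.GeneralLinearGroup.det g ^ 2 = r ^ (2 * m) := by rw [simB_det_sq B hge, hnm]
    have hgD : Matrix.GeneralLinearGroup.det g ∈ (simB B.1).map Matrix.GeneralLinearGroup.det := ⟨g, hg, rfl⟩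
    have hrm : r ^ m ∈ (simB B.1).map Matrix.GeneralLinearGroup.det := by
      rcases hsign _ hy with h | h
      · rwa [h] at hgD
      · rw [h] at hgD
        simpa using mul_mem hneg hgD
    rcases hsign x hr.symm with h | h
    · rwa [h]
    · rw [h]; simpa using mul_mem hneg hrm

/-- A projective similitude group is no bigger than the isometry group. -/
theorem card_pgo_le {ι : Type} [Fintype ι] [DecidableEq ι] [Nonempty ι] (Q : (ι → F) → F)
    (hQ : ∀ (c : F) v, Q (c • v) = c ^ 2 * Q v) :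
    Nat.card (Cfsg.PGO F Q) ≤ Nat.card (Cfsg.isometryGroup F Q) := by
  classical
  set H := Cfsg.Geo.quadSimilarityGroup (F := F) Q
  have hle : Cfsg.Geo.scalars ι F ≤ H := by
    intro g hg
    obtain ⟨c, hc⟩ := (Cfsg.Geo.mem_scalars_iff _).1 hg
    exact ⟨c * c, fun v => by rw [hc, Matrix.smul_mulVec, Matrix.one_mulVec, hQ, Units.val_mul, pow_two]⟩
  have hinj : Function.Injective fun c : Fˣ =>
      (⟨Units.map (Matrix.scalar ι : F →+* Matrix ι ι F).toMonoidHom c, ⟨c, rfl⟩⟩ : Cfsg.Geo.scalars ι F) := by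
    intro a b hab
    exact Units.ext (Matrix.scalar_inj.1 (congrArg (fun x => x.1.1) hab))
  have hscal : Nat.card Fˣ ≤ Nat.card (Cfsg.Geo.scalars ι F) := Nat.card_le_card_of_injective _ hinj
  have hH : Nat.card H ≤ Nat.card (Cfsg.isometryGroup F Q) * Nat.card Fˣ := by
    rw [← Nat.card_prod]
    have hsel : ∀ c : Fˣ, ∃ g₀ : GL ι F, (∃ g : GL ι F, ∀ v, Q (g.1 *ᵥ v) = (c : F) * Q v) →
        ∀ v, Q (g₀.1 *ᵥ v) = (c : F) * Q v := fun c =>
      if h : ∃ g : GL ι F, ∀ v, Q (g.1 *ᵥ v) = (c : F) * Q v then ⟨h.choose, fun _ => h.choose_spec⟩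
      else ⟨1, fun h' => absurd h' h⟩
    choose g₀ hg₀ using hsel
    have hmem : ∀ g : H, (g₀ g.2.choose)⁻¹ * g.1 ∈ Cfsg.isometryGroup F Q := fun g v _ => by
      have h1 := hg₀ g.2.choose ⟨g.1, g.2.choose_spec⟩
      have h3 := h1 (((g₀ g.2.choose)⁻¹ * g.1).1 *ᵥ v)
      rw [Matrix.mulVec_mulVec, ← Units.val_mul, mul_inv_cancel_left, g.2.choose_spec v] at h3
      exact (mul_left_cancel₀ (Units.ne_zero _) h3).symm
    refine Nat.card_le_card_of_injective (fun g : H => (⟨_, hmem g⟩, g.2.choose)) fun a b hab => ?_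
    simp only [Prod.mk.injEq, Subtype.mk.injEq] at hab
    rw [hab.2] at hab
    exact Subtype.ext (mul_left_cancel hab.1)
  have e : Nat.card H = Nat.card (Cfsg.projQuot H) * Nat.card (Cfsg.Geo.scalars ι F) := by
    rw [Subgroup.card_eq_card_quotient_mul_card_subgroup ((Cfsg.Geo.scalars ι F).subgroupOf H),
      Nat.card_congr (Subgroup.subgroupOfEquivOfLe hle).toEquiv]
  have hpos : 0 < Nat.card Fˣ := Nat.card_pos
  refine Nat.le_of_mul_le_mul_right ?_ hpos
  calc Nat.card (Cfsg.projQuot H) * Nat.card Fˣ ≤ Nat.card (Cfsg.projQuot H) * Nat.card (Cfsg.Geo.scalars ι F) :=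
        Nat.mul_le_mul_left _ hscal
    _ = Nat.card H := e.symm
    _ ≤ _ := hH

/-- The symmetric forms do not have symplectic centraliser groups. -/
theorem symm_not_pgsp (h2 : (2 : F) ≠ 0) (hm : 2 ≤ m) (hnm : n = 2 * m) (B : GL (Fin n) F) (hB : B.1ᵀ = B.1) :
    ¬ Nonempty (Cfsg.projQuot (simB B.1) ≃* Cfsg.PGSp m F) := by
  classical
  rintro ⟨e⟩
  obtain ⟨p, hp⟩ := CharP.exists F
  obtain ⟨a, b, hab⟩ := Spinor.exists_aniso F
  obtain ⟨Qm, hQm, -⟩ := OrthForms.exists_qMinus (m - 1) a b hab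
  haveI : Nonempty (Fin m) := ⟨⟨0, by omega⟩⟩
  set q := Fintype.card F with hqdef
  have hq : 2 < q := by
    have h1 : 1 < q := Fintype.one_lt_card
    have h3 : q ≠ 2 := fun h => h2 (by
      have := FiniteField.cast_card_eq_zero F
      rw [← hqdef, h] at this
      exact_mod_cast this)
    omega
  have hsp := AutPSp.card_PGSp (F := F) (m := m) (by omega)
  rw [FormsLib.card_symplecticGroup] at hsp
  set P := ∏ i ∈ Finset.range (m - 1), (q ^ (2 * (i + 1)) - 1) with hPdef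
  have hpos : 0 < P := Finset.prod_pos fun i _ => Nat.sub_pos_of_lt (Nat.one_lt_pow (by omega) (by omega))
  have hbound : ∀ x : ℕ, x ≤ q ^ m + 1 → 2 * q ^ (m * (m - 1)) * x * P <
      q ^ (m ^ 2) * ∏ i ∈ Finset.range m, (q ^ (2 * (i + 1)) - 1) := fun x hx => by
    obtain ⟨k, rfl⟩ : ∃ k, m = k + 1 := ⟨m - 1, by omega⟩
    rw [Nat.add_sub_cancel] at hPdef
    rw [Finset.prod_range_succ, ← hPdef, Nat.add_sub_cancel, show (k + 1) ^ 2 = (k + 1) * k + (k + 1) by ring,
      pow_add, ← OrthOrder.sq_pow_sub_one]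
    have h9 : 2 < q ^ (k + 1) := lt_of_lt_of_le hq (Nat.le_self_pow (by omega) q)
    have h10 : 2 * x < q ^ (k + 1) * ((q ^ (k + 1) + 1) * (q ^ (k + 1) - 1)) := by
      obtain ⟨y, hy⟩ : ∃ y, q ^ (k + 1) = y + 3 := ⟨q ^ (k + 1) - 3, by omega⟩
      rw [hy] at hx ⊢
      rw [show y + 3 - 1 = y + 2 by omega]
      rw [show (y + 3) * ((y + 3 + 1) * (y + 2)) = y ^ 3 + 9 * y ^ 2 + 26 * y + 24 by ring]
      omega
    calc 2 * q ^ ((k + 1) * k) * x * P = (q ^ ((k + 1) * k) * P) * (2 * x) := by ring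
      _ < (q ^ ((k + 1) * k) * P) * (q ^ (k + 1) * ((q ^ (k + 1) + 1) * (q ^ (k + 1) - 1))) :=
          Nat.mul_lt_mul_of_pos_left h10 (Nat.mul_pos (pow_pos (by omega) _) hpos)
      _ = _ := by ring
  rcases symm_model h2 (by omega) hnm hab hQm B hB with hM | hM
  · obtain ⟨e'⟩ := hM.pgo_equiv _ h2
    rw [qPlus_coe] at e'
    have hc := card_pgo_le (Cfsg.quadFormPlus m F) fun c v => by
      rw [← qPlus_coe, QuadraticMap.map_smul, smul_eq_mul, pow_two]
    rw [S0287.result hqdef.symm m (by omega), ← Nat.card_congr (e'.symm.trans e).symm.toEquiv, hsp] at hc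
    exact absurd hc (not_le.2 (hbound _ (by omega)))
  · obtain ⟨e'⟩ := hM.pgo_equiv _ h2
    rw [hQm] at e'
    have hc := card_pgo_le (Cfsg.quadFormMinus (m - 1) F a b) fun c v => by
      rw [← hQm, QuadraticMap.map_smul, smul_eq_mul, pow_two]
    rw [S0288.result hqdef.symm m (by omega) a b hab, ← Nat.card_congr (e'.symm.trans e).symm.toEquiv, hsp] at hc
    exact absurd hc (not_le.2 (hbound _ le_rfl))

end Cfsg.Agent.AutPSL
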