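import Cfsg.Agent.Lib.AutPSL.GraphClasses
import Cfsg.Agent.Lib.Forms.OddInvol

/-!
# Symmetric forms in characteristic two
-/

set_option autoImplicit false
set_option linter.unusedSectionVars false

namespace Cfsg.Agent.AutPSL

open Matrix

universe u

variable {F : Type u} [Field F] [Finite F] [CharP F 2]

/-- An additive function of degree two is the square of a linear one. -/
theorem exists_sqrt_dot {κ : Type*} [Fintype κ] [DecidableEq κ] (h : (κ → F) → F)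
    (hadd : ∀ x y, h (x + y) = h x + h y) (hsm : ∀ (t : F) x, h (t • x) = t ^ 2 * h x) :
    ∃ r : κ → F, ∀ x, h x = (r ⬝ᵥ x) ^ 2 := by
  have hsq : ∀ a : F, ∃ r, r ^ 2 = a := fun a => by
    obtain ⟨r, hr⟩ := FiniteField.isSquare_of_char_two (ringChar.eq F 2) a
    exact ⟨r, by rw [hr, pow_two]⟩
  choose r hr using fun i => hsq (h (Pi.single i 1))
  refine ⟨r, fun x => ?_⟩
  let h1 : (κ → F) →+ F := AddMonoidHom.mk' h hadd
  let h2 : (κ → F) →+ F := AddMonoidHom.mk' (fun y => (r ⬝ᵥ y) ^ 2)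
    (fun y z => by rw [dotProduct_add, CharTwo.add_sq])
  have e : h1 = h2 := AddMonoidHom.functions_ext' _ _ _ fun i => AddMonoidHom.ext fun t => by
    show h (Pi.single i t) = (r ⬝ᵥ Pi.single i t) ^ 2
    rw [dotProduct_single, mul_pow, hr, ← mul_comm (t ^ 2), ← hsm]
    congr 1
    rw [← Pi.single_smul, smul_eq_mul, mul_one]
  exact DFunLike.congr_fun e x

variable {n m : ℕ}

theorem symm_dot (B : GL (Fin n) F) (hB : B.1ᵀ = B.1) (x y : Fin n → F) :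
    y ⬝ᵥ (B.1 *ᵥ x) = x ⬝ᵥ (B.1 *ᵥ y) := by
  rw [Matrix.dotProduct_mulVec, ← Matrix.mulVec_transpose, hB, dotProduct_comm]

/-- The diagonal of a symmetric matrix in characteristic two. -/
theorem exists_diag_vec (B : GL (Fin n) F) (hB : B.1ᵀ = B.1) :
    ∃ s : Fin n → F, ∀ x, x ⬝ᵥ (B.1 *ᵥ x) = (s ⬝ᵥ x) ^ 2 := by
  refine exists_sqrt_dot (fun x => x ⬝ᵥ (B.1 *ᵥ x)) (fun x y => ?_) fun t x => ?_
  · simp only [Matrix.mulVec_add, add_dotProduct, dotProduct_add, symm_dot B hB y x]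
    linear_combination CharTwo.add_self_eq_zero (y ⬝ᵥ (B.1 *ᵥ x))
  · simp only [Matrix.mulVec_smul, smul_dotProduct, dotProduct_smul, smul_eq_mul]
    ring

/-- The standard symmetric form in odd dimension and characteristic two. -/
def fTwo (m : ℕ) (F : Type u) [Field F] (v w : Unit ⊕ (Fin m ⊕ Fin m) → F) : F :=
  v (.inl ()) * w (.inl ()) + Cfsg.sympForm m F (v ∘ Sum.inr) (w ∘ Sum.inr)

theorem sympForm_eq_spB (x y : Fin m ⊕ Fin m → F) : Cfsg.sympForm m F x y = FormsLib.spB m F x y :=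
  (FormsLib.spB_apply x y).symm

theorem sympForm_self (x : Fin m ⊕ Fin m → F) : Cfsg.sympForm m F x x = 0 := by
  rw [sympForm_eq_spB]; exact FormsLib.spB_alt x

theorem sympForm_nondeg (x : Fin m ⊕ Fin m → F) (h : ∀ y, Cfsg.sympForm m F x y = 0) : x = 0 := by
  have := (LinearMap.BilinForm.nondegenerate_toBilin'_iff_det_ne_zero.2
    (Matrix.isUnit_det_J (Fin m) F).ne_zero).1 x fun y => by rw [Matrix.toBilin'_apply']; exact h y
  exact this

/-- In odd dimension there is one symmetric form. -/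
theorem hasModel_fTwo (hnm : n = 2 * m + 1) (B : GL (Fin n) F) (hB : B.1ᵀ = B.1) :
    HasModel B (fTwo m F) := by
  classical
  haveI : FiniteDimensional F (Fin n → F) := inferInstance
  obtain ⟨s, hs⟩ := exists_diag_vec B hB
  set u := (B⁻¹).1 *ᵥ s with hu
  have hBu : ∀ x, x ⬝ᵥ (B.1 *ᵥ u) = s ⬝ᵥ x := fun x => by
    rw [hu, Matrix.mulVec_mulVec, Units.mul_inv, Matrix.one_mulVec, dotProduct_comm]
  have hs0 : s ⬝ᵥ u = 1 := by
    let b' : LinearMap.BilinForm F (Fin n → F) := Matrix.toBilin' (B.1 + Matrix.vecMulVec s s)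
    have hb' : ∀ x y, b' x y = x ⬝ᵥ (B.1 *ᵥ y) + (s ⬝ᵥ x) * (s ⬝ᵥ y) := fun x y => by
      simp only [b', Matrix.toBilin'_apply', Matrix.add_mulVec, dotProduct_add, Matrix.vecMulVec_mulVec,
        dotProduct_smul, op_smul_eq_mul, dotProduct_comm x s]
    have halt : LinearMap.IsAlt b' := fun x => by
      rw [hb', hs, ← pow_two, CharTwo.add_self_eq_zero]
    by_contra hne
    have hnd : ∀ x, (∀ y, b' x y = 0) → x = 0 := fun x hx => by
      have h1 : B.1 *ᵥ x = (s ⬝ᵥ x) • s := by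
        refine dotProduct_eq _ _ fun y => ?_
        rw [dotProduct_comm, symm_dot B hB, smul_dotProduct, smul_eq_mul]
        exact CharTwo.add_eq_zero.1 ((hb' x y).symm.trans (hx y))
      have h2 : x = (s ⬝ᵥ x) • u := by
        rw [hu, ← Matrix.mulVec_smul, ← h1, Matrix.mulVec_mulVec, Units.inv_mul, Matrix.one_mulVec]
      have h3 : s ⬝ᵥ x = (s ⬝ᵥ x) * (s ⬝ᵥ u) := by
        conv_lhs => rw [h2]
        rw [dotProduct_smul, smul_eq_mul]
      have h4 : (s ⬝ᵥ x) * (s ⬝ᵥ u - 1) = 0 := by linear_combination -h3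
      rw [h2, (mul_eq_zero.1 h4).resolve_right (sub_ne_zero.2 hne), zero_smul]
    obtain ⟨m', b, -⟩ := FormsLib.exists_symplectic_basis_nondeg halt
      ⟨hnd, fun y hy => hnd y fun x => by rw [FormsLib.alt_swap halt x y, hy x, neg_zero]⟩
    have := Module.finrank_eq_card_basis b
    rw [Fintype.card_sum, Fintype.card_fin, Module.finrank_fin_fun] at this
    omega
  let sl : (Fin n → F) →ₗ[F] F := dotProductBilin F F s
  have hsl : ∀ x, sl x = s ⬝ᵥ x := fun x => rfl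
  let W : Submodule F (Fin n → F) := LinearMap.ker sl
  have hW : Module.finrank F W = 2 * m := by
    show Module.finrank F (LinearMap.ker sl) = 2 * m
    have h1 := LinearMap.finrank_range_add_finrank_ker sl
    rw [LinearMap.range_eq_top.2 (fun t => ⟨t • u, by rw [map_smul, hsl, hs0, smul_eq_mul, mul_one]⟩),
      finrank_top, Module.finrank_self, Module.finrank_fin_fun] at h1
    omega
  let bW : LinearMap.BilinForm F W := (Matrix.toBilin' B.1).restrict W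
  have hbW : ∀ x y : W, bW x y = x.1 ⬝ᵥ (B.1 *ᵥ y.1) := fun x y => by
    show Matrix.toBilin' B.1 x.1 y.1 = _
    exact Matrix.toBilin'_apply' _ _ _
  obtain ⟨e, he⟩ := FormModel.exists_symp_coords (B := bW)
    (fun x => by rw [hbW, hs, show s ⬝ᵥ x.1 = 0 from LinearMap.mem_ker.1 x.2]; exact zero_pow two_ne_zero)
    (fun x hx => Subtype.ext (by
      refine (LinearMap.BilinForm.nondegenerate_toBilin'_iff_det_ne_zero.2
        ((Matrix.isUnit_iff_isUnit_det _).1 B.isUnit).ne_zero).1 x.1 fun y => ?_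
      rw [Matrix.toBilin'_apply']
      have h1 : y - sl y • u ∈ W := by
        rw [LinearMap.mem_ker, map_sub, map_smul, hsl u, hs0, smul_eq_mul, mul_one, sub_self]
      have h2 := hx ⟨_, h1⟩
      rw [hbW, Matrix.mulVec_sub, dotProduct_sub, Matrix.mulVec_smul, dotProduct_smul, hBu,
        show s ⬝ᵥ x.1 = 0 from LinearMap.mem_ker.1 x.2, smul_zero, sub_zero] at h2
      exact h2)) hW
  let L0 : (Unit ⊕ (Fin m ⊕ Fin m) → F) →ₗ[F] (Fin n → F) :=
    (LinearMap.proj (Sum.inl ())).smulRight u + W.subtype ∘ₗ e.toLinearMap ∘ₗ LinearMap.funLeft F F Sum.inr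
  have hL0 : ∀ v, L0 v = v (.inl ()) • u + (e (v ∘ Sum.inr)).1 := fun v => rfl
  have hsv : ∀ v, s ⬝ᵥ L0 v = v (.inl ()) := fun v => by
    rw [hL0, dotProduct_add, dotProduct_smul, hs0, smul_eq_mul, mul_one,
      show s ⬝ᵥ (e (v ∘ Sum.inr)).1 = 0 from LinearMap.mem_ker.1 (e (v ∘ Sum.inr)).2, add_zero]
  have hinj : Function.Injective L0 := LinearMap.ker_eq_bot.1 <| LinearMap.ker_eq_bot'.2 fun v hv => by
    have h0 : v (.inl ()) = 0 := by rw [← hsv v, hv, dotProduct_zero]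
    have h1 := hL0 v
    rw [hv, h0, zero_smul, zero_add] at h1
    have h2 : v ∘ Sum.inr = (0 : Fin m ⊕ Fin m → F) := e.injective (by rw [map_zero]; exact Subtype.ext h1.symm)
    funext i
    rcases i with ⟨⟩ | i
    · exact h0
    · exact congrFun h2 i
  refine ⟨LinearMap.linearEquivOfInjective L0 hinj (by simp [Fintype.card_sum]; omega), 1, fun v w => ?_⟩
  rw [LinearMap.linearEquivOfInjective_apply, LinearMap.linearEquivOfInjective_apply, Units.val_one, one_mul,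
    hL0, hL0]
  simp only [Matrix.mulVec_add, add_dotProduct, dotProduct_add, Matrix.mulVec_smul, smul_dotProduct,
    dotProduct_smul, smul_eq_mul, hBu, hs0, mul_one]
  rw [symm_dot B hB, hBu, show s ⬝ᵥ (e (v ∘ Sum.inr)).1 = 0 from LinearMap.mem_ker.1 (e (v ∘ Sum.inr)).2,
    show s ⬝ᵥ (e (w ∘ Sum.inr)).1 = 0 from LinearMap.mem_ker.1 (e (w ∘ Sum.inr)).2, ← hbW, he]
  rw [fTwo, sympForm_eq_spB]
  ring

local notation "Ix" => Unit ⊕ (Fin m ⊕ Fin m)

theorem block_of_symp (g : GL Ix F) (c : Fˣ)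
    (h : ∀ v w : Ix → F, Cfsg.sympForm m F ((g.1 *ᵥ v) ∘ Sum.inr) ((g.1 *ᵥ w) ∘ Sum.inr) =
      (c : F) * Cfsg.sympForm m F (v ∘ Sum.inr) (w ∘ Sum.inr)) :
    (∀ i, g.1 (.inr i) (.inl ()) = 0) ∧ ∀ v, (g.1 *ᵥ v) ∘ Sum.inr = g.1.toBlocks₂₂ *ᵥ (v ∘ Sum.inr) := by
  have h0 : (g.1 *ᵥ Pi.single (.inl ()) 1) ∘ Sum.inr = 0 := sympForm_nondeg _ fun y => by
    have e1 := h (Pi.single (.inl ()) 1) ((g⁻¹).1 *ᵥ Sum.elim (0 : Unit → F) y)
    rw [Matrix.mulVec_mulVec, Units.mul_inv, Matrix.one_mulVec,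
      show (Pi.single (.inl ()) 1 : Ix → F) ∘ Sum.inr = 0 by funext i; simp,
      show Sum.elim (0 : Unit → F) y ∘ Sum.inr = y from rfl] at e1
    rw [e1]
    simp [Cfsg.sympForm]
  have hb : ∀ i, g.1 (.inr i) (.inl ()) = 0 := fun i => by simpa [Matrix.mulVec_single] using congrFun h0 i
  exact ⟨hb, fun v => funext fun i => by
    simp [Matrix.mulVec, dotProduct, Fintype.sum_sum_type, hb, Matrix.toBlocks₂₂]⟩

/-- Groups of block triangular similitudes modulo scalars. -/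
theorem projQuot_pgsp (H : Subgroup (GL Ix F))
    (h1 : ∀ g ∈ H, ∃ c : Fˣ, ∀ v w : Ix → F, Cfsg.sympForm m F ((g.1 *ᵥ v) ∘ Sum.inr) ((g.1 *ᵥ w) ∘ Sum.inr) =
      (c : F) * Cfsg.sympForm m F (v ∘ Sum.inr) (w ∘ Sum.inr))
    (h2 : ∀ g ∈ H, ∀ μ : Fˣ, g.1.toBlocks₂₂ = (μ : F) • 1 → g ∈ Cfsg.Geo.scalars Ix F)
    (h3 : ∀ M ∈ Cfsg.GSp m F, ∃ g ∈ H, g.1.toBlocks₂₂ = M.1) :
    Nonempty (Cfsg.projQuot H ≃* Cfsg.PGSp m F) := by
  let φ : H →* Matrix (Fin m ⊕ Fin m) (Fin m ⊕ Fin m) F :=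
    { toFun := fun g => g.1.1.toBlocks₂₂
      map_one' := by ext i j; simp [Matrix.toBlocks₂₂, Matrix.one_apply]
      map_mul' := fun g g' => by
        obtain ⟨c, hc⟩ := h1 g g.2
        ext i j
        simp [Matrix.toBlocks₂₂, Matrix.mul_apply, Fintype.sum_sum_type, (block_of_symp g.1 c hc).1] }
  let π : H →* GL (Fin m ⊕ Fin m) F := φ.toHomUnits
  have hπ : ∀ g : H, (π g).1 = g.1.1.toBlocks₂₂ := fun g => rfl
  have hmem : ∀ g : H, π g ∈ Cfsg.GSp m F := fun g => by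
    obtain ⟨c, hc⟩ := h1 g g.2
    refine ⟨c, fun x y => ?_⟩
    have := hc (Sum.elim (0 : Unit → F) x) (Sum.elim (0 : Unit → F) y)
    rw [(block_of_symp g.1 c hc).2, (block_of_symp g.1 c hc).2] at this
    exact this
  let Φ : H →* Cfsg.PGSp m F := (QuotientGroup.mk' _).comp (π.codRestrict _ hmem)
  have hΦ : Function.Surjective Φ := by
    intro y
    obtain ⟨⟨M, hM⟩, rfl⟩ := QuotientGroup.mk_surjective y
    obtain ⟨g, hg, hgM⟩ := h3 M hM
    exact ⟨⟨g, hg⟩, congrArg QuotientGroup.mk (Subtype.ext (Units.ext hgM))⟩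
  refine ⟨(QuotientGroup.quotientMulEquivOfEq ?_).trans (QuotientGroup.quotientKerEquivOfSurjective Φ hΦ)⟩
  ext g
  rw [MonoidHom.mem_ker, Subgroup.mem_subgroupOf]
  show _ ↔ (QuotientGroup.mk _ : Cfsg.PGSp m F) = 1
  rw [QuotientGroup.eq_one_iff, Subgroup.mem_subgroupOf]
  show _ ↔ π g ∈ Cfsg.Geo.scalars _ F
  rw [Cfsg.Geo.mem_scalars_iff, Cfsg.Geo.mem_scalars_iff, hπ]
  constructor
  · rintro ⟨c, hc⟩
    refine ⟨c, ?_⟩
    rw [hc]
    ext i j
    simp [Matrix.toBlocks₂₂, Matrix.one_apply, Matrix.smul_apply]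
  · rintro ⟨μ, hμ⟩
    exact (Cfsg.Geo.mem_scalars_iff _).1 (h2 g g.2 μ hμ)

theorem exists_top (hm : 1 ≤ m) (g : GL Ix F) (c μ : Fˣ)
    (hc : ∀ v w : Ix → F, Cfsg.sympForm m F ((g.1 *ᵥ v) ∘ Sum.inr) ((g.1 *ᵥ w) ∘ Sum.inr) =
      (c : F) * Cfsg.sympForm m F (v ∘ Sum.inr) (w ∘ Sum.inr))
    (hμ : g.1.toBlocks₂₂ = (μ : F) • 1)
    (htop : (c : F) = (μ : F) ^ 2 → ∀ v, (g.1 *ᵥ v) (.inl ()) = (μ : F) * v (.inl ())) :
    g ∈ Cfsg.Geo.scalars Ix F := by
  obtain ⟨hb, hbot⟩ := block_of_symp g c hc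
  let a : Fin m ⊕ Fin m := Sum.inl ⟨0, by omega⟩
  let b : Fin m ⊕ Fin m := Sum.inr ⟨0, by omega⟩
  have hcμ : (c : F) = (μ : F) ^ 2 := by
    have := hc (Sum.elim (0 : Unit → F) (Pi.single b 1)) (Sum.elim (0 : Unit → F) (Pi.single a 1))
    rw [hbot, hbot, hμ, Sum.elim_comp_inr, Sum.elim_comp_inr, Matrix.smul_mulVec, Matrix.smul_mulVec,
      Matrix.one_mulVec, Matrix.one_mulVec, sympForm_eq_spB, sympForm_eq_spB, map_smul, map_smul,
      LinearMap.smul_apply, smul_eq_mul, smul_eq_mul,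
      show FormsLib.spB m F (Pi.single b 1) (Pi.single a 1) = 1 by simp [FormsLib.spB_expand, a, b, Pi.single_apply]]
      at this
    linear_combination -this
  refine (Cfsg.Geo.mem_scalars_iff _).2 ⟨μ, Matrix.ext_iff_mulVec.2 fun v => ?_⟩
  rw [Matrix.smul_mulVec, Matrix.one_mulVec]
  funext i
  rcases i with ⟨⟩ | i
  · exact htop hcμ v
  · have := congrFun (hbot v) i
    rw [hμ, Matrix.smul_mulVec, Matrix.one_mulVec] at this
    exact this

theorem sq_cancel {x y : F} (h : x ^ 2 = y ^ 2) : x = y := CharTwo.sq_inj.1 h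

/-- The similitudes of the standard symmetric form. -/
theorem fTwo_pgsp (hm : 1 ≤ m) :
    Nonempty (Cfsg.projQuot (Cfsg.Geo.similarityGroup (fTwo m F)) ≃* Cfsg.PGSp m F) := by
  have hsq : ∀ c : Fˣ, ∃ l : Fˣ, (l : F) ^ 2 = c := fun c => by
    obtain ⟨r, hr⟩ := FiniteField.isSquare_of_char_two (ringChar.eq F 2) (c : F)
    refine ⟨Units.mk0 r fun h0 => c.ne_zero (by rw [hr, h0, mul_zero]), ?_⟩
    rw [Units.val_mk0, hr, pow_two]
  have hself : ∀ v : Ix → F, fTwo m F v v = v (.inl ()) ^ 2 := fun v => by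
    rw [fTwo, sympForm_self, add_zero, pow_two]
  have key : ∀ (g : GL Ix F) (c : Fˣ), (∀ u v, fTwo m F (g.1 *ᵥ u) (g.1 *ᵥ v) = (c : F) * fTwo m F u v) →
      ∃ l : Fˣ, (l : F) ^ 2 = c ∧ ∀ v, (g.1 *ᵥ v) (.inl ()) = (l : F) * v (.inl ()) := fun g c hc => by
    obtain ⟨l, hl⟩ := hsq c
    exact ⟨l, hl, fun v => sq_cancel (by rw [← hself, hc, hself, mul_pow, hl])⟩
  have hsymp : ∀ (g : GL Ix F) (c : Fˣ), (∀ u v, fTwo m F (g.1 *ᵥ u) (g.1 *ᵥ v) = (c : F) * fTwo m F u v) →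
      ∀ v w : Ix → F, Cfsg.sympForm m F ((g.1 *ᵥ v) ∘ Sum.inr) ((g.1 *ᵥ w) ∘ Sum.inr) =
        (c : F) * Cfsg.sympForm m F (v ∘ Sum.inr) (w ∘ Sum.inr) := fun g c hc v w => by
    obtain ⟨l, hl, hlv⟩ := key g c hc
    have := hc v w
    simp only [fTwo, hlv] at this
    linear_combination this - (v (.inl ()) * w (.inl ())) * hl
  refine projQuot_pgsp _ (fun g ⟨c, hc⟩ => ⟨c, hsymp g c hc⟩) (fun g ⟨c, hc⟩ μ hμ => ?_) fun M hM => ?_
  · refine exists_top hm g c μ (hsymp g c hc) hμ fun hcμ v => ?_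
    obtain ⟨l, hl, hlv⟩ := key g c hc
    rw [hlv, sq_cancel (hl.trans hcμ)]
  · obtain ⟨c, hc⟩ := hM
    obtain ⟨l, hl⟩ := hsq c
    let N : Matrix Ix Ix F := Matrix.fromBlocks ((l : F) • (1 : Matrix Unit Unit F)) 0 0 M.1
    have hdet : N.det ≠ 0 := by
      rw [Matrix.det_fromBlocks_zero₂₁]
      exact mul_ne_zero (by simp) ((Matrix.isUnit_iff_isUnit_det _).1 M.isUnit).ne_zero
    refine ⟨Matrix.GeneralLinearGroup.mkOfDetNeZero N hdet, ⟨c, fun v w => ?_⟩,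
      Matrix.toBlocks_fromBlocks₂₂ _ _ _ _⟩
    show fTwo m F (N *ᵥ v) (N *ᵥ w) = _
    have ht : ∀ x : Ix → F, (N *ᵥ x) (.inl ()) = (l : F) * x (.inl ()) := fun x => by
      simp [N, Matrix.fromBlocks_mulVec, Matrix.smul_mulVec, Matrix.one_mulVec]
    have hb : ∀ x : Ix → F, (N *ᵥ x) ∘ Sum.inr = M.1 *ᵥ (x ∘ Sum.inr) := fun x => funext fun i => by
      simp [N, Matrix.fromBlocks_mulVec]
    rw [fTwo, fTwo, ht, ht, hb, hb, hc]
    linear_combination (v (.inl ()) * w (.inl ())) * hl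

/-- In characteristic two `PGO_{2m+1}` is `PGSp_{2m}`. -/
theorem pgoOdd_pgsp (hm : 1 ≤ m) : Nonempty (Cfsg.PGO F (Cfsg.quadFormOdd m F) ≃* Cfsg.PGSp m F) := by
  set q : (Fin m ⊕ Fin m → F) → F := fun x => ∑ i, x (.inl i) * x (.inr i) with hq
  have hQ : ∀ v : Ix → F, Cfsg.quadFormOdd m F v = v (.inl ()) ^ 2 + q (v ∘ Sum.inr) := fun v => rfl
  have hqp : ∀ x y : Fin m ⊕ Fin m → F, q (x + y) = q x + q y + Cfsg.sympForm m F x y := fun x y => by
    rw [sympForm_eq_spB, FormsLib.spB_expand, hq]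
    simp only [Pi.add_apply, ← Finset.sum_add_distrib]
    refine Finset.sum_congr rfl fun i _ => ?_
    rw [CharTwo.sub_eq_add]
    ring
  have hqs : ∀ (t : F) (x : Fin m ⊕ Fin m → F), q (t • x) = t ^ 2 * q x := fun t x => by
    simp only [hq, Pi.smul_apply, smul_eq_mul, Finset.mul_sum]
    exact Finset.sum_congr rfl fun i _ => by ring
  have hsymp : ∀ (g : GL Ix F) (c : Fˣ), (∀ v, Cfsg.quadFormOdd m F (g.1 *ᵥ v) = (c : F) * Cfsg.quadFormOdd m F v) →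
      ∀ v w : Ix → F, Cfsg.sympForm m F ((g.1 *ᵥ v) ∘ Sum.inr) ((g.1 *ᵥ w) ∘ Sum.inr) =
        (c : F) * Cfsg.sympForm m F (v ∘ Sum.inr) (w ∘ Sum.inr) := fun g c hc v w => by
    have e := hc (v + w)
    have e1 := hc v
    have e2 := hc w
    rw [Matrix.mulVec_add, hQ, hQ] at e
    rw [hQ, hQ] at e1 e2
    simp only [Pi.add_apply, CharTwo.add_sq] at e
    rw [show (g.1 *ᵥ v + g.1 *ᵥ w) ∘ Sum.inr = (g.1 *ᵥ v) ∘ Sum.inr + (g.1 *ᵥ w) ∘ Sum.inr from rfl, hqp,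
      show (v + w) ∘ Sum.inr = v ∘ Sum.inr + w ∘ Sum.inr from rfl, hqp] at e
    linear_combination e - e1 - e2
  refine projQuot_pgsp _ (fun g ⟨c, hc⟩ => ⟨c, hsymp g c hc⟩) (fun g ⟨c, hc⟩ μ hμ => ?_) fun M hM => ?_
  · refine exists_top hm g c μ (hsymp g c hc) hμ fun hcμ v => sq_cancel ?_
    have := hc v
    rw [hQ, hQ, (block_of_symp g c (hsymp g c hc)).2, hμ, Matrix.smul_mulVec, Matrix.one_mulVec, hqs, hcμ] at this
    linear_combination this
  · obtain ⟨c, hc⟩ := hM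
    obtain ⟨r, hr⟩ := exists_sqrt_dot (fun x => (c : F) * q x + q (M.1 *ᵥ x)) (fun x y => by
        simp only [Matrix.mulVec_add, hqp, hc]
        linear_combination CharTwo.add_self_eq_zero ((c : F) * Cfsg.sympForm m F x y))
      (fun t x => by simp only [Matrix.mulVec_smul, hqs]; ring)
    obtain ⟨l, hl⟩ := FiniteField.isSquare_of_char_two (ringChar.eq F 2) (c : F)
    let N : Matrix Ix Ix F :=
      Matrix.fromBlocks (l • (1 : Matrix Unit Unit F)) (Matrix.of fun _ j => r j) 0 M.1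
    have hl0 : l ≠ 0 := fun h0 => c.ne_zero (by rw [hl, h0, mul_zero])
    have hdet : N.det ≠ 0 := by
      rw [Matrix.det_fromBlocks_zero₂₁]
      exact mul_ne_zero (by simpa using hl0) ((Matrix.isUnit_iff_isUnit_det _).1 M.isUnit).ne_zero
    refine ⟨Matrix.GeneralLinearGroup.mkOfDetNeZero N hdet, ⟨c, fun v => ?_⟩,
      Matrix.toBlocks_fromBlocks₂₂ _ _ _ _⟩
    show Cfsg.quadFormOdd m F (N *ᵥ v) = _
    have ht : (N *ᵥ v) (.inl ()) = l * v (.inl ()) + r ⬝ᵥ (v ∘ Sum.inr) := by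
      simp [N, Matrix.fromBlocks_mulVec, Matrix.mulVec, dotProduct]
    have hb : (N *ᵥ v) ∘ Sum.inr = M.1 *ᵥ (v ∘ Sum.inr) := funext fun i => by
      simp [N, Matrix.fromBlocks_mulVec]
    rw [hQ, hQ, ht, hb, CharTwo.add_sq, ← hr]
    linear_combination v (.inl ()) ^ 2 * (-hl) + CharTwo.add_self_eq_zero (q (M.1 *ᵥ (v ∘ Sum.inr)))

end Cfsg.Agent.AutPSL
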