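import Cfsg.Agent.Lib.AutPSL.GraphTwo
import Cfsg.Agent.Lib.Forms.SpSimple

/-!
# Symmetric forms in even dimension and characteristic two
-/

set_option autoImplicit false
set_option linter.unusedSectionVars false

namespace Cfsg.Agent.AutPSL

open Matrix

universe u

variable {F : Type u} [Field F] [Finite F] [CharP F 2] {n m : ℕ}

local notation "V" => Fin m ⊕ Fin m → F
local notation "MatS" => Matrix (Fin m ⊕ Fin m) (Fin m ⊕ Fin m) F
local notation "Sp" => Matrix.symplecticGroup (Fin m) F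

theorem sympForm_comm (x y : V) : Cfsg.sympForm m F x y = Cfsg.sympForm m F y x := by
  rw [sympForm_eq_spB, sympForm_eq_spB, FormsLib.alt_swap FormsLib.spB_alt, CharTwo.neg_eq]

theorem exists_sympForm_one {w : V} (hw : w ≠ 0) : ∃ x, Cfsg.sympForm m F w x = 1 := by
  by_contra hne
  refine hw (sympForm_nondeg w fun y => ?_)
  by_contra hy
  refine hne ⟨(Cfsg.sympForm m F w y)⁻¹ • y, ?_⟩
  rw [sympForm_eq_spB, map_smul, smul_eq_mul, ← sympForm_eq_spB, inv_mul_cancel₀ hy]

/-- The symmetric form attached to a vector. -/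
def fW (w x y : V) : F := Cfsg.sympForm m F x y + Cfsg.sympForm m F w x * Cfsg.sympForm m F w y

theorem fW_zero : fW (0 : V) = Cfsg.sympForm m F := by
  funext x y
  simp [fW, Cfsg.sympForm]

/-- The stabiliser of a vector in the symplectic group. -/
def stabV (w : V) : Subgroup Sp where
  carrier := {A | A.1 *ᵥ w = w}
  one_mem' := Matrix.one_mulVec w
  mul_mem' := fun {A B} hA hB => by
    show (A.1 * B.1) *ᵥ w = w
    rw [← Matrix.mulVec_mulVec, hB, hA]
  inv_mem' := fun {A} hA => by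
    show (A⁻¹).1 *ᵥ w = w
    nth_rewrite 1 [← (hA : A.1 *ᵥ w = w)]
    rw [Matrix.mulVec_mulVec, ← Submonoid.coe_mul, inv_mul_cancel, Submonoid.coe_one, Matrix.one_mulVec]

theorem sp_preserves (A : Sp) (x y : V) :
    Cfsg.sympForm m F (A.1 *ᵥ x) (A.1 *ᵥ y) = Cfsg.sympForm m F x y := by
  rw [sympForm_eq_spB, sympForm_eq_spB]
  exact (FormsLib.mem_symplectic_iff _).1 A.2 x y

/-- The symplectic group in the general linear group. -/
def toGLS : Sp →* GL (Fin m ⊕ Fin m) F :=
  ((Matrix.symplecticGroup (Fin m) F).subtype).toHomUnits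

theorem toGLS_val (A : Sp) : (toGLS A).1 = A.1 := rfl

/-- The similitudes of `fW w` modulo scalars. -/
theorem fW_stab (hm : 1 ≤ m) (w : V) :
    Nonempty (↥(stabV w) ≃* Cfsg.projQuot (Cfsg.Geo.similarityGroup (fW w))) := by
  have hmem : ∀ A : stabV w, toGLS A.1 ∈ Cfsg.Geo.similarityGroup (fW w) := fun A => ⟨1, fun x y => by
    show fW w (A.1.1 *ᵥ x) (A.1.1 *ᵥ y) = _
    have e : ∀ z, Cfsg.sympForm m F w (A.1.1 *ᵥ z) = Cfsg.sympForm m F w z := fun z => by
      nth_rewrite 1 [← (A.2 : A.1.1 *ᵥ w = w)]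
      exact sp_preserves A.1 w z
    rw [fW, fW, sp_preserves, e, e, Units.val_one, one_mul]⟩
  let ψ : stabV w →* Cfsg.projQuot (Cfsg.Geo.similarityGroup (fW w)) :=
    (QuotientGroup.mk' _).comp ((toGLS.comp (stabV w).subtype).codRestrict _ hmem)
  refine ⟨MulEquiv.ofBijective ψ ⟨(injective_iff_map_eq_one ψ).2 fun A hA => ?_, fun y => ?_⟩⟩
  · have h1 : toGLS A.1 ∈ Cfsg.Geo.scalars (Fin m ⊕ Fin m) F :=
      Subgroup.mem_subgroupOf.1 ((QuotientGroup.eq_one_iff _).1 hA)
    obtain ⟨μ, hμ⟩ := (Cfsg.Geo.mem_scalars_iff _).1 h1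
    rw [toGLS_val] at hμ
    let a : V := Pi.single (Sum.inr ⟨0, by omega⟩) 1
    let b : V := Pi.single (Sum.inl ⟨0, by omega⟩) 1
    have hab : FormsLib.spB m F a b = 1 := by simp [FormsLib.spB_expand, a, b, Pi.single_apply]
    have := sp_preserves A.1 a b
    rw [hμ, Matrix.smul_mulVec, Matrix.smul_mulVec, Matrix.one_mulVec, Matrix.one_mulVec, sympForm_eq_spB,
      sympForm_eq_spB, map_smul, map_smul, LinearMap.smul_apply, smul_eq_mul, smul_eq_mul, hab] at this
    have h2 : (μ : F) = 1 := sq_cancel (by linear_combination this)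
    exact Subtype.ext (Subtype.ext (by rw [hμ, h2, one_smul]; rfl))
  · obtain ⟨⟨g, c, hc⟩, rfl⟩ := QuotientGroup.mk_surjective y
    obtain ⟨r, hr⟩ := FiniteField.isSquare_of_char_two (ringChar.eq F 2) (c : F)
    have hr0 : r ≠ 0 := fun h0 => c.ne_zero (by rw [hr, h0, mul_zero])
    have hsym : ∀ x : V, Cfsg.sympForm m F w (g.1 *ᵥ x) = r * Cfsg.sympForm m F w x := fun x => by
      refine sq_cancel ?_
      have := hc x x
      simp only [fW, sympForm_self, zero_add] at this
      linear_combination this + (Cfsg.sympForm m F w x) ^ 2 * hr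
    have hS : ∀ x y : V, Cfsg.sympForm m F (g.1 *ᵥ x) (g.1 *ᵥ y) = (r * r) * Cfsg.sympForm m F x y := fun x y => by
      have := hc x y
      simp only [fW, hsym] at this
      linear_combination this + (Cfsg.sympForm m F x y + Cfsg.sympForm m F w x * Cfsg.sympForm m F w y) * hr
    let A : MatS := r⁻¹ • g.1
    have hA : A ∈ Matrix.symplecticGroup (Fin m) F := (FormsLib.mem_symplectic_iff _).2 fun x y => by
      rw [Matrix.smul_mulVec, Matrix.smul_mulVec, map_smul, map_smul, LinearMap.smul_apply, smul_eq_mul,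
        smul_eq_mul, ← sympForm_eq_spB, ← sympForm_eq_spB, hS]
      field_simp
    have hAw : A *ᵥ w = w := by
      refine sub_eq_zero.1 (sympForm_nondeg _ fun y => ?_)
      obtain ⟨x, rfl⟩ : ∃ x, A *ᵥ x = y := ⟨((⟨A, hA⟩ : Sp)⁻¹).1 *ᵥ y, by
        rw [Matrix.mulVec_mulVec]
        show (((⟨A, hA⟩ : Sp) * (⟨A, hA⟩ : Sp)⁻¹).1) *ᵥ y = y
        rw [mul_inv_cancel, Submonoid.coe_one, Matrix.one_mulVec]⟩
      rw [sympForm_eq_spB, map_sub, LinearMap.sub_apply, ← sympForm_eq_spB, ← sympForm_eq_spB,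
        sp_preserves ⟨A, hA⟩, sympForm_eq_spB w (A *ᵥ x), Matrix.smul_mulVec, map_smul, smul_eq_mul,
        ← sympForm_eq_spB, hsym]
      field_simp
      ring
    refine ⟨⟨⟨A, hA⟩, hAw⟩, QuotientGroup.eq.2 (Subgroup.mem_subgroupOf.2
      ((Cfsg.Geo.mem_scalars_iff _).2 ⟨Units.mk0 r hr0, ?_⟩))⟩
    have h1 : g.1 = r • A := by rw [smul_smul, mul_inv_cancel₀ hr0, one_smul]
    show ((toGLS ⟨A, hA⟩)⁻¹ * g).1 = r • 1
    rw [Units.val_mul, h1, Matrix.mul_smul]
    exact congrArg (r • ·) (toGLS ⟨A, hA⟩).inv_mul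

/-- The transvection of a vector. -/
def trV (w : V) : MatS := 1 + Matrix.vecMulVec w (w ᵥ* Matrix.J (Fin m) F)

theorem trV_mulVec (w x : V) : trV w *ᵥ x = x + Cfsg.sympForm m F w x • w := by
  rw [trV, Matrix.add_mulVec, Matrix.one_mulVec, Matrix.vecMulVec_mulVec, op_smul_eq_smul,
    ← Matrix.dotProduct_mulVec]
  rfl

theorem trV_mem (w : V) : trV w ∈ Matrix.symplecticGroup (Fin m) F := by
  refine (FormsLib.mem_symplectic_iff _).2 fun x y => ?_
  rw [trV_mulVec, trV_mulVec, ← sympForm_eq_spB, ← sympForm_eq_spB]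
  simp only [sympForm_eq_spB, map_add, map_smul, LinearMap.add_apply, LinearMap.smul_apply, smul_eq_mul]
  rw [show FormsLib.spB m F w w = 0 from FormsLib.spB_alt w]
  rw [← sympForm_eq_spB x w, sympForm_comm x w, sympForm_eq_spB]
  linear_combination CharTwo.add_self_eq_zero (FormsLib.spB m F w x * FormsLib.spB m F w y)

theorem trV_isTransvection {w : V} (hw : w ≠ 0) : Cfsg.IsTransvection (trV w) := by
  have h0 : (w ᵥ* Matrix.J (Fin m) F) ⬝ᵥ w = 0 := by
    rw [← Matrix.dotProduct_mulVec]; exact sympForm_self w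
  refine ⟨?_, ?_⟩
  · rw [trV, add_sub_cancel_left, Matrix.rank]
    have hr : LinearMap.range (Matrix.vecMulVec w (w ᵥ* Matrix.J (Fin m) F)).mulVecLin =
        Submodule.span F {w} := by
      obtain ⟨x, hx⟩ := exists_sympForm_one hw
      refine le_antisymm ?_ ((Submodule.span_singleton_le_iff_mem _ _).2 ⟨x, ?_⟩)
      · rintro _ ⟨z, rfl⟩
        rw [Matrix.mulVecLin_apply, Matrix.vecMulVec_mulVec, op_smul_eq_smul]
        exact Submodule.smul_mem _ _ (Submodule.mem_span_singleton_self w)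
      · rw [Matrix.mulVecLin_apply, Matrix.vecMulVec_mulVec, ← Matrix.dotProduct_mulVec, op_smul_eq_smul]
        show Cfsg.sympForm m F w x • w = w
        rw [hx, one_smul]
    rw [hr, finrank_span_singleton hw]
  · rw [trV, add_sub_cancel_left, Matrix.vecMulVec_mul_vecMulVec, h0, zero_smul, Matrix.vecMulVec_zero]

theorem centralizer_trV {w : V} (hw : w ≠ 0) :
    Subgroup.centralizer ({⟨trV w, trV_mem w⟩} : Set Sp) = stabV w := by
  ext A
  rw [Subgroup.mem_centralizer_singleton_iff]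
  constructor
  · intro h
    have h1 : A.1 * trV w = trV w * A.1 := by
      first
        | exact congrArg Subtype.val h
        | exact (congrArg Subtype.val h).symm
    obtain ⟨x, hx⟩ := exists_sympForm_one hw
    have h2 := congrArg (· *ᵥ x) h1
    simp only [← Matrix.mulVec_mulVec, trV_mulVec, Matrix.mulVec_add, Matrix.mulVec_smul, hx, one_smul] at h2
    have h3 : A.1 *ᵥ w = Cfsg.sympForm m F w (A.1 *ᵥ x) • w := add_left_cancel h2
    have h4 := sp_preserves A w x
    rw [h3, sympForm_eq_spB, map_smul, LinearMap.smul_apply, smul_eq_mul, ← sympForm_eq_spB, hx] at h4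
    show A.1 *ᵥ w = w
    rw [h3, sq_cancel (x := Cfsg.sympForm m F w (A.1 *ᵥ x)) (y := 1) (by linear_combination h4), one_smul]
  · intro h
    have h1 : A.1 * trV w = trV w * A.1 := Matrix.ext_iff_mulVec.2 fun x => by
      rw [← Matrix.mulVec_mulVec, ← Matrix.mulVec_mulVec, trV_mulVec, trV_mulVec, Matrix.mulVec_add,
        Matrix.mulVec_smul, (h : A.1 *ᵥ w = w)]
      congr 2
      nth_rewrite 2 [← (h : A.1 *ᵥ w = w)]
      exact (sp_preserves A w x).symm
    first
      | exact Subtype.ext h1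
      | exact Subtype.ext h1.symm

/-- Non-alternating symmetric matrices in even dimension. -/
theorem hasModel_fW (hnm : n = 2 * m) {w : V} (hw : w ≠ 0) (B : GL (Fin n) F) (hB : B.1ᵀ = B.1)
    (hna : ¬ ∀ x, x ⬝ᵥ (B.1 *ᵥ x) = 0) : HasModel B (fW w) := by
  classical
  obtain ⟨s, hs⟩ := exists_diag_vec B hB
  set u := (B⁻¹).1 *ᵥ s with hu
  have hBu : ∀ x, x ⬝ᵥ (B.1 *ᵥ u) = s ⬝ᵥ x := fun x => by
    rw [hu, Matrix.mulVec_mulVec, Units.mul_inv, Matrix.one_mulVec, dotProduct_comm]
  let b' : LinearMap.BilinForm F (Fin n → F) := Matrix.toBilin' (B.1 + Matrix.vecMulVec s s)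
  have hb' : ∀ x y, b' x y = x ⬝ᵥ (B.1 *ᵥ y) + (s ⬝ᵥ x) * (s ⬝ᵥ y) := fun x y => by
    simp only [b', Matrix.toBilin'_apply', Matrix.add_mulVec, dotProduct_add, Matrix.vecMulVec_mulVec,
      dotProduct_smul, op_smul_eq_mul, dotProduct_comm x s]
  have halt : LinearMap.IsAlt b' := fun x => by
    rw [hb', hs, ← pow_two, CharTwo.add_self_eq_zero]
  -- the kernel can only be the line of `u`
  have hker : ∀ x, (∀ y, b' x y = 0) → x = (s ⬝ᵥ x) • u := fun x hx => by
    have h1 : B.1 *ᵥ x = (s ⬝ᵥ x) • s := by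
      refine dotProduct_eq _ _ fun y => ?_
      rw [dotProduct_comm, symm_dot B hB, smul_dotProduct, smul_eq_mul]
      exact CharTwo.add_eq_zero.1 ((hb' x y).symm.trans (hx y))
    rw [hu, ← Matrix.mulVec_smul, ← h1, Matrix.mulVec_mulVec, Units.inv_mul, Matrix.one_mulVec]
  have hsu : s ⬝ᵥ u = 0 := by
    have h2 : (s ⬝ᵥ u) ^ 2 = s ⬝ᵥ u := by rw [← hs, hBu]
    rcases eq_or_ne (s ⬝ᵥ u) 0 with h0 | h0
    · exact h0
    exfalso
    have h1 : s ⬝ᵥ u = 1 := mul_left_cancel₀ h0 (by linear_combination h2)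
    let sl : (Fin n → F) →ₗ[F] F := dotProductBilin F F s
    have hsl : ∀ x, sl x = s ⬝ᵥ x := fun x => rfl
    have hW : Module.finrank F (LinearMap.ker sl) + 1 = n := by
      have h := LinearMap.finrank_range_add_finrank_ker sl
      rw [LinearMap.range_eq_top.2 (fun t => ⟨t • u, by rw [map_smul, hsl, h1, smul_eq_mul, mul_one]⟩),
        finrank_top, Module.finrank_self, Module.finrank_fin_fun] at h
      omega
    let bW : LinearMap.BilinForm F (LinearMap.ker sl) := b'.restrict (LinearMap.ker sl)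
    have hbW : ∀ x y : LinearMap.ker sl, bW x y = b' x.1 y.1 := fun x y => rfl
    have hnd : ∀ x, (∀ y, bW x y = 0) → x = 0 := fun x hx => Subtype.ext (by
      have hxs : s ⬝ᵥ x.1 = 0 := LinearMap.mem_ker.1 x.2
      have h3 : ∀ y, b' x.1 y = 0 := fun y => by
        have h4 : y - sl y • u ∈ LinearMap.ker sl := by
          rw [LinearMap.mem_ker, map_sub, map_smul, hsl u, h1, smul_eq_mul, mul_one, sub_self]
        have h5 := hx ⟨_, h4⟩
        rw [hbW, map_sub, map_smul, smul_eq_mul] at h5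
        have h6 : b' x.1 u = 0 := by rw [hb', hBu, hxs, zero_mul, add_zero]
        rw [h6, mul_zero, sub_zero] at h5
        exact h5
      rw [hker x.1 h3, hxs, zero_smul]
      rfl)
    have halt' : LinearMap.IsAlt bW := fun x => halt x.1
    obtain ⟨m', b, -⟩ := FormsLib.exists_symplectic_basis_nondeg halt'
      ⟨hnd, fun y hy => hnd y fun x => by rw [FormsLib.alt_swap halt' x y, hy x, neg_zero]⟩
    have := Module.finrank_eq_card_basis b
    rw [Fintype.card_sum, Fintype.card_fin] at this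
    omega
  obtain ⟨L, hL⟩ := FormModel.exists_symp_coords (B := b') halt (fun x hx => by
    have h1 := hker x hx
    have h2 : s ⬝ᵥ x = 0 := by rw [h1, dotProduct_smul, hsu, smul_zero]
    rw [h1, h2, zero_smul]) (m := m) (by rw [Module.finrank_fin_fun, hnm])
  have hLu : L.symm u ≠ 0 := by
    intro h0
    refine hna fun x => ?_
    have hu0 : u = 0 := by rw [← L.apply_symm_apply u, h0, map_zero]
    rw [hs, ← hBu, hu0, Matrix.mulVec_zero, dotProduct_zero, zero_pow two_ne_zero]
  obtain ⟨g, hg⟩ := FormsLib.spIso_exists_map_vec hw hLu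
  refine ⟨g.1.trans L, 1, fun x y => ?_⟩
  have hgs : ∀ z z', Cfsg.sympForm m F (g.1 z) (g.1 z') = Cfsg.sympForm m F z z' := fun z z' => by
    rw [sympForm_eq_spB, sympForm_eq_spB]; exact g.2 z z'
  have hsx : ∀ z, s ⬝ᵥ L (g.1 z) = Cfsg.sympForm m F w z := fun z => by
    rw [← hgs w z, hg, sympForm_eq_spB, ← hL, L.apply_symm_apply, hb', hsu, zero_mul, add_zero,
      symm_dot B hB, hBu]
  have e := hb' (L (g.1 x)) (L (g.1 y))
  rw [hL, ← sympForm_eq_spB, hgs] at e
  rw [LinearEquiv.trans_apply, LinearEquiv.trans_apply, Units.val_one, one_mul, fW, e, hsx, hsx, add_assoc,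
    CharTwo.add_self_eq_zero, add_zero]

theorem exists_gl_fW (hnm : n = 2 * m) (w : V) :
    ∃ B : GL (Fin n) F, B.1ᵀ = B.1 ∧ HasModel B (fW w) := by
  set r := w ᵥ* Matrix.J (Fin m) F with hr
  set M := Matrix.J (Fin m) F + Matrix.vecMulVec r r with hMdef
  have hrd : ∀ x, r ⬝ᵥ x = Cfsg.sympForm m F w x := fun x => by
    rw [hr, ← Matrix.dotProduct_mulVec]; rfl
  have hM : ∀ x y, x ⬝ᵥ (M *ᵥ y) = fW w x y := fun x y => by
    rw [hMdef, Matrix.add_mulVec, dotProduct_add, Matrix.vecMulVec_mulVec, op_smul_eq_smul, dotProduct_smul,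
      smul_eq_mul, dotProduct_comm x r, hrd, hrd, fW, mul_comm (Cfsg.sympForm m F w y)]
    rfl
  have hdet : M.det ≠ 0 := by
    rw [← LinearMap.BilinForm.nondegenerate_toBilin'_iff_det_ne_zero]
    have hl : ∀ x : V, (∀ y, Matrix.toBilin' M x y = 0) → x = 0 := fun x hx => by
      have h1 : x + Cfsg.sympForm m F w x • w = 0 := sympForm_nondeg _ fun y => by
        rw [sympForm_eq_spB, map_add, map_smul, LinearMap.add_apply, LinearMap.smul_apply, smul_eq_mul,
          ← sympForm_eq_spB, ← sympForm_eq_spB]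
        have := hx y
        rw [Matrix.toBilin'_apply', hM] at this
        exact this
      have h2 : x = Cfsg.sympForm m F w x • w := by
        funext i
        exact CharTwo.add_eq_zero.1 (congrFun h1 i)
      have h3 : Cfsg.sympForm m F w x = 0 := by
        rw [h2, sympForm_eq_spB, map_smul, ← sympForm_eq_spB, sympForm_self, smul_zero]
      rw [h2, h3, zero_smul]
    refine ⟨hl, fun y hy => hl y fun x => ?_⟩
    have := hy x
    rw [Matrix.toBilin'_apply', hM] at this ⊢
    rw [fW] at this ⊢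
    rw [sympForm_comm y x]
    linear_combination this
  have hsymm : Mᵀ = M := ext_form fun u v => by
    rw [Matrix.mulVec_transpose, dotProduct_comm, ← Matrix.dotProduct_mulVec, hM, hM, fW, fW, sympForm_comm v u,
      mul_comm]
  obtain ⟨B, hB, L, d, hd⟩ := exists_gl_model M hdet
    (finSumFinEquiv.trans (finCongr (by omega : m + m = n)))
  exact ⟨B, by rw [hB, Matrix.transpose_submatrix, hsymm], L, d, fun u v => by rw [hd]; exact congrArg _ (hM u v)⟩

end Cfsg.Agent.AutPSL
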